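import Cfsg.Agent.Lib.TensorWreathSU.Root
import Cfsg.Agent.Lib.TensorWreathSL.Two

/-!
Characteristic two: centralisers of products of roots of different slots lie in the tensor wreath group.
-/

set_option autoImplicit false
set_option linter.unusedSectionVars false

namespace CfsgLib.TensorWreathSU

open Cfsg Cfsg.Geo CfsgLib.Aschbacher CfsgLib.AschbacherForm CfsgLib.TensorWreath CfsgLib.TensorWreathSL
open CfsgLib.TensorMax.Unitary (Conj hd hd_add_left hd_add_right hd_smul_left hd_smul_right hd_sub_left hd_sub_right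
  hd_zero_left hd_zero_right hd_neg_left hd_neg_right)
open scoped Matrix MatrixGroups

variable {F : Type*} [Field F] [Fintype F] {m s : ℕ} [NeZero m] {τ : F ≃+* F}

/-- A unit `1 + N` of a slot. -/
def un (N : Matrix (Fin m) (Fin m) F) (h : N * N = 0) : GL (Fin m) F where
  val := 1 + N
  inv := 1 - N
  val_inv := by rw [add_mul, one_mul, mul_sub, mul_one, h, sub_zero, sub_add_cancel]
  inv_val := by rw [sub_mul, one_mul, mul_add, mul_one, h, add_zero, add_sub_cancel_right]

theorem un_val (N : Matrix (Fin m) (Fin m) F) (h : N * N = 0) : (un N h : Matrix (Fin m) (Fin m) F) = 1 + N := rfl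

theorem un_UG {N : Matrix (Fin m) (Fin m) F} (h : N * N = 0) (ha : ad τ N = -N) : un N h ∈ UG τ (Fin m) := by
  rw [mem_UG, un_val, ad_add, ad_one, ha, ← sub_eq_add_neg, sub_mul, one_mul, mul_add, mul_one, h, add_zero,
    add_sub_cancel_right]

theorem oneAdd_slot {n : ℕ} (i : Fin n) (N : Matrix (Fin m) (Fin m) F) (h : N * N = 0)
    (h' : slot i N * slot i N = 0) : oneAdd (slot i N) h' = slotGL i (un N h) := Units.ext (by
  show (1 : TMat F m n) + slot i N = slot i (1 + N)
  rw [slot_add, slot_one])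

theorem IsRootU.exists_un (hτ : Conj τ) {n : ℕ} {i : Fin n} {X : TMat F m n} (h : IsRootU τ i X) :
    ∃ (N : Matrix (Fin m) (Fin m) F) (hN : N * N = 0), N ≠ 0 ∧ ad τ N = -N ∧ X = slot i N ∧
      oneAdd X h.sq = slotGL i (un N hN) := by
  have hX := h
  obtain ⟨v, k, hv0, hv, hk0, hk, rfl⟩ := hX
  have hN : (k • ov τ v v) * (k • ov τ v v) = 0 := by
    rw [Matrix.smul_mul, Matrix.mul_smul, ov_mul, hv, zero_smul, smul_zero, smul_zero]
  exact ⟨_, hN, smul_ne_zero hk0 (ov_ne_zero hv0 hv0), by rw [ad_smul, ad_ov hτ, hk, neg_smul], rfl,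
    oneAdd_slot i _ hN _⟩

/-- A proportional unipotent element is equal. -/
theorem un_prop {P A : Matrix (Fin m) (Fin m) F} (hP : P * P = 0) (hA : A * A = 0) {c : F}
    (h : 1 + P = c • (1 + A)) : P = A := by
  have e : P = (c - 1) • (1 : Matrix (Fin m) (Fin m) F) + c • A := by
    rw [sub_smul, one_smul, sub_add_eq_add_sub, ← smul_add, ← h, add_sub_cancel_left]
  have h1 := hP
  rw [e] at h1
  simp only [add_mul, mul_add, Matrix.smul_mul, Matrix.mul_smul, one_mul, mul_one, hA, smul_zero, add_zero,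
    smul_smul] at h1
  by_cases hc : c = 1
  · rw [e, hc, sub_self, zero_smul, zero_add, one_smul]
  exfalso
  have h2 := congrArg (· * A) h1
  simp only [add_mul, Matrix.smul_mul, one_mul, hA, smul_zero, add_zero, zero_mul] at h2
  have hA0 : A = 0 := (smul_eq_zero.1 h2).resolve_left (mul_ne_zero (sub_ne_zero.2 hc) (sub_ne_zero.2 hc))
  rw [hA0, smul_zero, smul_zero, add_zero, add_zero] at h1
  exact mul_ne_zero (sub_ne_zero.2 hc) (sub_ne_zero.2 hc) ((smul_eq_zero.1 h1).resolve_right one_ne_zero)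

/-- Factors of proportional products of unipotent factors agree. -/
theorem factor_eq {n : ℕ} {f g : Fin n → GL (Fin m) F} (h : pureGL f = pureGL g) (k : Fin n)
    {P A : Matrix (Fin m) (Fin m) F} (hP : P * P = 0) (hA : A * A = 0) (hf : (f k).1 = 1 + P)
    (hg : (g k).1 = 1 + A) : P = A := by
  obtain ⟨c, -, e⟩ := pure_proportional (A := f) (B := g) (c := 1)
    (by rw [one_smul]; exact congrArg Units.val h) k
  rw [hf, hg] at e
  exact un_prop hP hA e

theorem std_slot_conj {n : ℕ} {h : GL (Fin n → Fin m) F} (hh : h ∈ Std F m n) :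
    ∃ (π : Equiv.Perm (Fin n)) (T : Fin n → GL (Fin m) F), Rep h π ∧
      ∀ i A, h * slotGL i A * h⁻¹ = slotGL (π i) (T i * A * (T i)⁻¹) := by
  obtain ⟨π, T, rfl, hπ⟩ := exists_rep_of_std hh
  refine ⟨π, T, hπ, fun i A => Units.ext ?_⟩
  rw [← cj_val, ← cj_cj, slotGL_val, show cj (pureGL T) (slot i A.1) = slot i (cj (T i) A.1) by
    rw [cj_apply]; exact pure'_conj_slot T i A.1, permGL_conj_slot, slotGL_val, Units.val_mul, Units.val_mul,
    cj_apply]

theorem slot_mul_pureGL {n : ℕ} (i : Fin n) (A : GL (Fin m) F) (f : Fin n → GL (Fin m) F) (hf : f i = 1) :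
    slotGL i A * pureGL f = pureGL (Function.update f i A) := by
  rw [slotGL_eq_pureGL, ← AschbacherForm.pureGL_mul]
  congr 1
  funext l
  rcases eq_or_ne l i with rfl | hl
  · simp [hf]
  · simp [hl]

/-- A factorisation with a scalar product has scalar factors. -/
theorem factor_scalar {i : Fin (s + 1)} {X : Matrix (Fin m) (Fin m) F} {Y : TMat F m s}
    (h : slot i X * embM i Y = 1) : ∃ c : F, c ≠ 0 ∧ X = c • 1 := by
  have hent : ∀ k l, X k l • Y = if k = l then 1 else 0 := fun k l => by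
    have h1 := congrFun (congrFun (congrArg (blk i) h) k) l
    rwa [map_mul, blk_slot_self, blk_embM, up_dg_apply, map_one, Matrix.one_apply] at h1
  have h00 : X 0 0 • Y = 1 := by rw [hent, if_pos rfl]
  have hY : Y ≠ 0 := fun e => by rw [e, smul_zero] at h00; exact zero_ne_one h00
  refine ⟨X 0 0, fun e => by rw [e, zero_smul] at h00; exact zero_ne_one h00, ?_⟩
  ext k l
  rw [Matrix.smul_apply, Matrix.one_apply, smul_eq_mul]
  rcases eq_or_ne k l with rfl | hkl
  · rw [if_pos rfl, mul_one]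
    exact sub_eq_zero.1 ((smul_eq_zero.1 (show (X k k - X 0 0) • Y = 0 by
      rw [sub_smul, hent, if_pos rfl, h00, sub_self])).resolve_right hY)
  · rw [if_neg hkl, mul_zero]
    exact (smul_eq_zero.1 ((hent k l).trans (if_neg hkl))).resolve_right hY

variable {M : Subgroup (GL (Fin (s + 1) → Fin m) F)}

/-- A second root of a slot annihilating a given one. -/
theorem Lev.exists_second (hL : Lev τ M) {j : Fin (s + 1)} {b : TMat F m (s + 1)} (hb : IsRootU τ j b) :
    ∃ X, IsRootU τ j X ∧ X ≠ b ∧ X * b = 0 ∧ b * X = 0 := by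
  have hτ := hL.conj
  rcases hL.big with ⟨l, hl0, hl⟩ | hm4
  · refine ⟨(l * τ l) • b, hb.smul_fixed (mul_ne_zero hl0 ((map_ne_zero τ).2 hl0))
      (by rw [map_mul, hτ.invol, mul_comm]), fun e => hb.ne_zero ?_, by rw [Matrix.smul_mul, hb.sq, smul_zero],
      by rw [Matrix.mul_smul, hb.sq, smul_zero]⟩
    rw [← sub_eq_zero] at e
    nth_rw 2 [← one_smul F b] at e
    rw [← sub_smul] at e
    exact (smul_eq_zero.1 e).resolve_left (sub_ne_zero.2 hl)
  · obtain ⟨v, k, hv0, hv, hk0, hk, rfl⟩ := hb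
    obtain ⟨W, hW0, hli, hts⟩ := hτ.exists_ts hv0 hv 1 (by simp; omega)
    have hr0 : W 1 ≠ 0 := hli.ne_zero 1
    have hvr : hd τ v (W 1) = 0 := hW0 ▸ hts 0 1
    have hrv : hd τ (W 1) v = 0 := hW0 ▸ hts 1 0
    refine ⟨_, isRootU_mk hr0 (hts 1 1) hk0 hk, fun e => ?_, ?_, ?_⟩
    · obtain ⟨v', -, hvv'⟩ := hτ.exists_partner hv0 hv
      have h1 := congrArg (fun A => A *ᵥ v') (smul_right_injective _ hk0 (slot_injective j e))
      simp only [ov_mulVec, hd_one hτ hvv', one_smul] at h1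
      have := Fintype.linearIndependent_iff.1 hli ![-1, hd τ v' (W 1)] (by
        rw [Fin.sum_univ_two, hW0]; simp [h1]) 0
      simp at this
    · rw [← slot_mul, Matrix.smul_mul, Matrix.mul_smul, ov_mul, hvr, zero_smul, smul_zero, smul_zero, slot_zero]
    · rw [← slot_mul, Matrix.smul_mul, Matrix.mul_smul, ov_mul, hrv, zero_smul, smul_zero, smul_zero, slot_zero]

/-- A `p`-subgroup containing a root lies in the tensor wreath group, and so does its normaliser. -/
theorem Lev.local_le (hL : Lev τ M) {p : ℕ} [Fact p.Prime] {P : Subgroup (GL (Fin (s + 1) → Fin m) F)}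
    (hP : IsPGroup p P) (hPM : P ≤ M) {i : Fin (s + 1)} {N : TMat F m (s + 1)} (hN : IsRootU τ i N)
    (hmem : oneAdd N hN.sq ∈ P) :
    P ≤ Std F m (s + 1) ∧
      ∀ g ∈ M, (∀ x ∈ P, g * x * g⁻¹ ∈ P) → g ∈ Std F m (s + 1) := by
  set H := Std F m (s + 1)
  have step : ∀ g ∈ M, oneAdd (cj g N) (cj_sq g hN.sq) ∈ H → g ∈ H := fun g hg h => hL.std_of_conj hN hg h
  have h0 : oneAdd N hN.sq ∈ H := by
    obtain ⟨A, hA, -, -, -, e⟩ := hN.exists_un hL.conj
    rw [e]; exact slotGL_mem _ _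
  have hle : P ≤ H := by
    have := hP.isNilpotent
    have hnc : NormalizerCondition P := Group.normalizerCondition_of_isNilpotent
    have htop : H.subgroupOf P = ⊤ := by
      by_contra hne
      obtain ⟨x, hxn, hx⟩ := SetLike.exists_of_lt (hnc _ (lt_top_iff_ne_top.2 hne))
      refine hx (Subgroup.mem_subgroupOf.2 (step x.1 (hPM x.2) ?_))
      have := (Subgroup.mem_normalizer_iff.1 hxn ⟨oneAdd N hN.sq, hmem⟩).1 (Subgroup.mem_subgroupOf.2 h0)
      rw [Subgroup.mem_subgroupOf] at this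
      rw [← oneAdd_conj x.1 hN.sq]
      exact this
    intro x hx
    exact Subgroup.mem_subgroupOf.1 (show (⟨x, hx⟩ : P) ∈ H.subgroupOf P by rw [htop]; trivial)
  refine ⟨hle, fun g hg hn => step g hg ?_⟩
  rw [← oneAdd_conj g hN.sq]
  exact hle (hn _ hmem)

/-- The centraliser of a skew one-slot square-zero element lies in the tensor wreath group. -/
theorem Lev.cent_slot (hL : Lev τ M) (i : Fin (s + 1)) {N : Matrix (Fin m) (Fin m) F} (hsq : N * N = 0) (hne : N ≠ 0)
    (had : ad τ N = -N) {g : GL (Fin (s + 1) → Fin m) F} (hg : g ∈ M) (h : cj g (slot i N) = slot i N) :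
    g ∈ Std F m (s + 1) := by
  have hτ := hL.conj
  obtain ⟨p, hp⟩ := CharP.exists F
  have : Fact p.Prime := ⟨CharP.char_is_prime F p⟩
  set NN : TMat F m (s + 1) := slot i N
  have hNN : NN * NN = 0 := by rw [← slot_mul, hsq, slot_zero]
  obtain ⟨e, he⟩ : ∃ e, N *ᵥ e ≠ 0 := by
    by_contra hcon
    push Not at hcon
    exact hne (Matrix.ext fun a b => by
      have := congrFun (hcon (Pi.single b 1)) a
      rwa [Matrix.mulVec_single_one] at this)
  obtain ⟨k, hk0, hk⟩ := hτ.exists_skew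
  set w := N *ᵥ e with hwd
  have hw : hd τ w w = 0 := by
    rw [hwd, hd_mulVec _ _ _ hτ, had, Matrix.neg_mulVec, Matrix.mulVec_mulVec, hsq, Matrix.zero_mulVec, neg_zero,
      hd_zero_right]
  have hr : IsRootU τ i (NN * slot i (k • ov τ e e) * NN) := by
    refine ⟨w, -k, he, hw, neg_ne_zero.2 hk0, by rw [map_neg, hk], ?_⟩
    rw [← slot_mul, ← slot_mul, Matrix.mul_smul, Matrix.smul_mul, mul_ov, ov_mul_right hτ, had, Matrix.neg_mulVec,
      ← hwd, show -w = (-1 : F) • w by simp, ov_smul_right, map_neg, map_one, smul_smul, mul_neg_one]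
  have hP : IsPGroup p (sandwichGroup M NN hNN) := fun x => ⟨1, Subtype.ext (by
    obtain ⟨X, e⟩ := x.2.2
    rw [pow_one, SubgroupClass.coe_pow, OneMemClass.coe_one]
    refine Units.ext ?_
    rw [Units.val_pow_eq_pow_val, Units.val_one, e]
    refine one_add_pow_char p ?_
    rw [show NN * X * NN * (NN * X * NN) = NN * X * (NN * NN) * (X * NN) by simp only [mul_assoc], hNN, mul_zero,
      zero_mul])⟩
  refine (hL.local_le hP (fun x hx => hx.1) hr ⟨hL.root_mem hr, _, rfl⟩).2 g hg fun x hx => ?_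
  obtain ⟨hxM, X, e⟩ := hx
  refine ⟨mul_mem (mul_mem hg hxM) (inv_mem hg), cj g X, ?_⟩
  rw [← cj_val, e, map_add, map_one, map_mul, map_mul, h]

/-- The centraliser of an involution of one slot lies in the tensor wreath group. -/
theorem Lev.cent_slotGL (hL : Lev τ M) (h2 : (2 : F) = 0) {j : Fin (s + 1)} {Z : GL (Fin m) F}
    (hZU : Z ∈ UG τ (Fin m)) (hZ2 : Z * Z = 1) (hZ1 : Z ≠ 1) {v : GL (Fin (s + 1) → Fin m) F} (hv : v ∈ M)
    (hc : Commute v (slotGL j Z)) : v ∈ Std F m (s + 1) := by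
  set N : Matrix (Fin m) (Fin m) F := Z.1 - 1 with hN
  have hZinv : Z⁻¹ = Z := inv_eq_of_mul_eq_one_right hZ2
  refine hL.cent_slot j (N := N) ?_ (fun e => hZ1 (Units.ext (sub_eq_zero.1 e))) ?_ hv ((cj_eq_self_iff _ _).2 ?_)
  · have hZZ : Z.1 * Z.1 = 1 := congrArg Units.val hZ2
    rw [hN, sub_mul, mul_sub, hZZ, mul_one, one_mul, show (1 : Matrix (Fin m) (Fin m) F) - Z.1 - (Z.1 - 1) =
      (2 : F) • (1 - Z.1) by rw [two_smul]; abel, h2, zero_smul]
  · rw [hN, ad_sub, ad_one, ad_of_mem hZU, hZinv, eq_neg_iff_add_eq_zero,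
      show Z.1 - 1 + (Z.1 - 1) = (2 : F) • (Z.1 - 1) by rw [two_smul], h2, zero_smul]
  · have := congrArg Units.val hc.eq
    rw [Units.val_mul, Units.val_mul, slotGL_val] at this
    rw [hN, slot_minus, slot_one, mul_sub, sub_mul, mul_one, one_mul, this]

/-- The dichotomy for a root and a conjugate of a root outside the tensor wreath group. -/
theorem Lev.alt (hL : Lev τ M) (h2 : (2 : F) = 0) {i ia : Fin (s + 1)} {X a : TMat F m (s + 1)}
    (hX : IsRootU τ i X) (ha : IsRootU τ ia a) {g : GL (Fin (s + 1) → Fin m) F} (hg : g ∈ M)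
    (hgs : g ∉ Std F m (s + 1)) :
    ∃ v ∈ Subgroup.closure ({oneAdd X hX.sq, oneAdd (cj g a) (cj_sq g ha.sq)} : Set (GL (Fin (s + 1) → Fin m) F)),
      cj (v * g) a = X ∨ ∃ j, j ≠ i ∧ v * g ∈ Std F m (s + 1) ∧ ∃ hR : IsRootU τ j (cj (v * g) a),
        Commute v (oneAdd X hX.sq * oneAdd (cj (v * g) a) hR.sq) := by
  have hτ := hL.conj
  set x := oneAdd X hX.sq with hx
  set y := oneAdd (cj g a) (cj_sq g ha.sq) with hy
  have hxM : x ∈ M := hL.root_mem hX
  have hyM : y ∈ M := hL.conj_mem ha hg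
  have hcl : Subgroup.closure ({x, y} : Set (GL (Fin (s + 1) → Fin m) F)) ≤ M :=
    (Subgroup.closure_le _).2 (Set.pair_subset_iff.2 ⟨hxM, hyM⟩)
  have hr : ∀ v, v * y * v⁻¹ = oneAdd (cj (v * g) a) (cj_sq _ ha.sq) := fun v => Units.ext (by
    rw [hy, oneAdd_conj]
    show 1 + cj v (cj g a) = 1 + cj (v * g) a
    rw [cj_cj])
  rcases dihedral_alt (TensorWreathSL.oneAdd_sq_one h2 hX.sq) (TensorWreathSL.oneAdd_sq_one h2 (cj_sq g ha.sq)) with
    ⟨v, hv, e⟩ | ⟨v, hv, hP, n, hz1, hz2, hzv, hn⟩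
  · exact ⟨v, hv, Or.inl (TensorWreathSL.oneAdd_inj ((hr v).symm.trans e))⟩
  have hvM : v ∈ M := hcl hv
  have : Fact (Nat.Prime 2) := ⟨Nat.prime_two⟩
  have hPM : Subgroup.closure ({x, v * y * v⁻¹} : Set (GL (Fin (s + 1) → Fin m) F)) ≤ M :=
    (Subgroup.closure_le _).2 (Set.pair_subset_iff.2 ⟨hxM, mul_mem (mul_mem hvM hyM) (inv_mem hvM)⟩)
  have hPs := (hL.local_le hP hPM hX (Subgroup.subset_closure (Set.mem_insert _ _))).1
  have hrs : oneAdd (cj (v * g) a) (cj_sq _ ha.sq) ∈ Std F m (s + 1) := by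
    rw [← hr]; exact hPs (Subgroup.subset_closure (Set.mem_insert_of_mem _ rfl))
  have hvg := hL.std_of_conj ha (mul_mem hvM hg) hrs
  obtain ⟨j, hj⟩ := hL.root_in_std ha (mul_mem hvM hg) hrs
  have hji : j ≠ i := fun hji => hgs ?_
  refine ⟨v, hv, Or.inr ⟨j, hji, hvg, hj, ?_⟩⟩
  swap
  · subst hji
    obtain ⟨Nx, hNx, -, hNxa, -, eAx⟩ := hX.exists_un hτ
    obtain ⟨Nr, hNr, -, hNra, -, eAr⟩ := hj.exists_un hτ
    set Z := (un Nr hNr * un Nx hNx) ^ n with hZ
    have hz : (v * y * v⁻¹ * x) ^ n = slotGL j Z := by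
      rw [hr, hx, eAx, hZ, map_pow, map_mul, ← eAr]
    rw [hz] at hz1 hz2 hzv
    have hvs : v ∈ Std F m (s + 1) := hL.cent_slotGL h2 (Z := Z)
      (pow_mem (mul_mem (un_UG hNr hNra) (un_UG hNx hNxa)) n)
      (Units.ext (slot_injective j (by
        have := congrArg Units.val hz2
        rwa [Units.val_mul, slotGL_val, ← slot_mul, Units.val_one, ← slot_one (F := F) (d := m) j] at this)))
      (fun e => hz1 (by rw [e, map_one])) hvM hzv.symm
    rw [show g = v⁻¹ * (v * g) by group]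
    exact mul_mem (inv_mem hvs) hvg
  · have hcomm : Commute (oneAdd (cj (v * g) a) hj.sq) x := Units.ext (by
      show (1 + cj (v * g) a) * (1 + X) = (1 + X) * (1 + cj (v * g) a)
      simp only [mul_add, add_mul, one_mul, mul_one, (hj.commute_ne hji hX)]
      abel)
    have h1 := hn (by rw [hr]; exact hcomm)
    rw [h1, pow_one, hr] at hzv
    rw [← hcomm.eq]
    exact hzv.symm

theorem closure_pair_commute {G : Type*} [Group G] {x y z v : G} (hx : Commute x z) (hy : Commute y z)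
    (hv : v ∈ Subgroup.closure ({x, y} : Set G)) : Commute v z := by
  have hle : Subgroup.closure ({x, y} : Set G) ≤ Subgroup.centralizer {z} := (Subgroup.closure_le _).2
    (Set.pair_subset_iff.2 ⟨Subgroup.mem_centralizer_singleton_iff.2 hx.eq,
      Subgroup.mem_centralizer_singleton_iff.2 hy.eq⟩)
  exact Subgroup.mem_centralizer_singleton_iff.1 (hle hv)

theorem slotGL_comm {n : ℕ} {i j : Fin n} (h : i ≠ j) (A B : GL (Fin m) F) :
    Commute (slotGL i A) (slotGL j B) := Units.ext (slot_commute h _ _)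

theorem un_conj {N : Matrix (Fin m) (Fin m) F} (h : N * N = 0) (T : GL (Fin m) F) :
    ∃ h' : cj T N * cj T N = 0, T * un N h * T⁻¹ = un (cj T N) h' := by
  refine ⟨by rw [← map_mul, h, map_zero], Units.ext ?_⟩
  rw [← cj_val, un_val, un_val, map_add, map_one]

/-- The centraliser of a skew element of one slot times a root of another lies in the tensor wreath group. -/
theorem Lev.cent_two (hL : Lev τ M) (h2 : (2 : F) = 0) {i j : Fin (s + 1)} (hij : i ≠ j)
    {N : Matrix (Fin m) (Fin m) F} (hsq : N * N = 0) {b : TMat F m (s + 1)}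
    (hb : IsRootU τ j b) {g : GL (Fin (s + 1) → Fin m) F} (hg : g ∈ M)
    (h : Commute g (slotGL i (un N hsq) * oneAdd b hb.sq)) : g ∈ Std F m (s + 1) := by
  by_contra hgs
  have hτ := hL.conj
  obtain ⟨X, hX, hXb, hXb1, hXb2⟩ := hL.exists_second hb
  obtain ⟨Nb, hNb, hNb0, hNba, eb, eB⟩ := hb.exists_un hτ
  obtain ⟨Nx, hNx, hNx0, hNxa, ex, eX⟩ := hX.exists_un hτ
  set zN := slotGL i (un N hsq)
  set z := zN * oneAdd b hb.sq with hzd
  have hcb : Commute (oneAdd b hb.sq) z := (eB ▸ (slotGL_comm hij.symm _ _) :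
    Commute (oneAdd b hb.sq) zN).mul_right (Commute.refl _)
  have hcx : Commute (oneAdd X hX.sq) z := (eX ▸ (slotGL_comm hij.symm _ _) :
    Commute (oneAdd X hX.sq) zN).mul_right (Units.ext (by
      show (1 + X) * (1 + b) = (1 + b) * (1 + X)
      simp only [mul_add, add_mul, one_mul, mul_one, hXb1, hXb2]; abel))
  have hcy : Commute (oneAdd (cj g b) (cj_sq g hb.sq)) z := by
    rw [← oneAdd_conj g hb.sq]
    exact (h.mul_left hcb).mul_left h.inv_left
  obtain ⟨v, hv, hcase⟩ := hL.alt h2 hX hb hg hgs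
  have hvM : v ∈ M := (Subgroup.closure_le _).2 (Set.pair_subset_iff.2
    ⟨hL.root_mem hX, hL.conj_mem hb hg⟩) hv
  have hvgz : Commute (v * g) z := (closure_pair_commute hcx hcy hv).mul_left h
  -- the image of the root
  have himg : ∀ (hs : v * g ∈ Std F m (s + 1)) {k} (hk : IsRootU τ k (cj (v * g) b)),
      cj (v * g) b = b ∨ (k = i ∧ cj (v * g) b = slot i N) := by
    intro hs k hk
    obtain ⟨π, T, hπ, hT⟩ := std_slot_conj hs
    obtain ⟨hA', eA'⟩ := un_conj hsq (T i)
    obtain ⟨hB', eB'⟩ := un_conj hNb (T j)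
    have hz : slotGL i (un N hsq) * slotGL j (un Nb hNb) =
        slotGL (π i) (un (cj (T i) N) hA') * slotGL (π j) (un (cj (T j) Nb) hB') := by
      rw [← eA', ← eB', ← hT, ← hT, ← eB]
      show z = _
      calc z = (v * g) * z * (v * g)⁻¹ := by rw [hvgz.eq, mul_inv_cancel_right]
        _ = _ := by rw [hzd, eB]; simp only [zN]; group
    have hR : cj (v * g) b = slot (π j) (cj (T j) Nb) := by
      have h' := hT j (un Nb hNb)
      rw [eB', ← oneAdd_slot j Nb hNb (by rw [← slot_mul, hNb, slot_zero]),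
        ← oneAdd_slot (π j) _ hB' (by rw [← slot_mul, hB', slot_zero]), oneAdd_conj] at h'
      rw [eb]
      exact TensorWreathSL.oneAdd_inj h'
    have hkπ : k = π j := hk.isRoot.slot_eq _ hR
    subst hkπ
    have hne' : cj (T j) Nb ≠ 0 := fun e => hNb0 ((cj (T j)).injective (e.trans (map_zero _).symm))
    set f := Function.update (Function.update (fun _ => (1 : GL (Fin m) F)) j (un Nb hNb)) i (un N hsq) with hfd
    set f' := Function.update (Function.update (fun _ => (1 : GL (Fin m) F)) (π j) (un (cj (T j) Nb) hB')) (π i)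
      (un (cj (T i) N) hA') with hfd'
    have hff : pureGL f' = pureGL f := by
      rw [hfd, hfd', ← slot_mul_pureGL i _ _ (by simp [hij]), ← slot_mul_pureGL (π i) _ _ (by simp [hij]),
        ← slotGL_eq_pureGL, ← slotGL_eq_pureGL]
      exact hz.symm
    have hf' : (f' (π j)).1 = 1 + cj (T j) Nb := by
      rw [hfd']; simp [hij.symm, un_val]
    by_cases h1 : π j = j
    · left
      have e := factor_eq hff (π j) hB' hNb hf' (by rw [hfd, h1]; simp [hij.symm, un_val])
      rw [hR, e, h1, eb]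
    by_cases h2' : π j = i
    · right
      have e := factor_eq hff (π j) hB' hsq hf' (by rw [hfd, h2']; simp [un_val])
      exact ⟨h2', by rw [hR, e, h2']⟩
    exact absurd (factor_eq hff (π j) hB' (A := 0) (by simp) hf' (by rw [hfd]; simp [h1, h2'])) hne'
  rcases hcase with e | ⟨k, hk, hs, hR, hcomm⟩
  · have hs : v * g ∈ Std F m (s + 1) := hL.std_of_conj hb (mul_mem hvM hg) (by
      rw [show oneAdd (cj (v * g) b) (cj_sq _ hb.sq) = oneAdd X hX.sq from Units.ext (by
        show 1 + cj (v * g) b = 1 + X; rw [e]), eX]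
      exact slotGL_mem j _)
    rcases himg hs (e ▸ hX : IsRootU τ j (cj (v * g) b)) with e' | ⟨e', -⟩
    · exact hXb (e.symm.trans e')
    · exact hij e'.symm
  · rcases himg hs hR with e' | ⟨e1, e'⟩
    · exact hk ((e' ▸ hR : IsRootU τ k b).isRoot.slot_eq _ eb)
    · -- the element commutes with a single-slot involution
      have hRz : oneAdd (cj (v * g) b) hR.sq = zN := Units.ext (by
        show 1 + cj (v * g) b = slot i (1 + N)
        rw [e', slot_add, slot_one])
      rw [hRz] at hcomm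
      have hzN2 : zN * zN = 1 := hRz ▸ TensorWreathSL.oneAdd_sq_one h2 hR.sq
      have hXB : Commute v (slotGL j (un Nx hNx * un Nb hNb)) := by
        have h3 := hcomm.mul_right (closure_pair_commute hcx hcy hv)
        rwa [hzd, mul_assoc, ← mul_assoc zN, hzN2, one_mul, eX, eB, ← map_mul] at h3
      have hprod : Nx * Nb = 0 ∧ Nb * Nx = 0 := by
        rw [ex, eb, ← slot_mul, ← slot_zero (F := F) (d := m) j] at hXb1 hXb2
        exact ⟨slot_injective j hXb1, slot_injective j hXb2⟩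
      have hsing := hL.cent_slot j (N := Nx + Nb)
        (by rw [add_mul, mul_add, mul_add, hNx, hNb, hprod.1, hprod.2]; simp)
        (fun e => hXb (by
          rw [ex, eb]
          congr 1
          rw [eq_neg_of_add_eq_zero_left e, ← neg_one_smul F Nb, show (-1 : F) = 1 by linear_combination -h2,
            one_smul]))
        (by rw [ad_add, hNxa, hNba, neg_add]) hvM ((cj_eq_self_iff _ _).2 (by
          have h4 := congrArg Units.val hXB.eq
          rw [Units.val_mul, Units.val_mul, slotGL_val, Units.val_mul, un_val, un_val,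
            show (1 + Nx) * (1 + Nb) = 1 + (Nx + Nb) by rw [add_mul, one_mul, mul_add, mul_one, hprod.1]; abel,
            slot_add, slot_one, mul_add, add_mul, mul_one, one_mul] at h4
          exact add_left_cancel h4))
      exact hgs (by rw [show g = v⁻¹ * (v * g) by group]; exact mul_mem (inv_mem hsing) hs)

/-- The centraliser of a product of two roots. -/
theorem Lev.cent_pair (hL : Lev τ M) (h2 : (2 : F) = 0) {i j : Fin (s + 1)} (hij : i ≠ j) {a b : TMat F m (s + 1)}
    (ha : IsRootU τ i a) (hb : IsRootU τ j b) {g : GL (Fin (s + 1) → Fin m) F} (hg : g ∈ M)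
    (h : Commute g (oneAdd a ha.sq * oneAdd b hb.sq)) : g ∈ Std F m (s + 1) := by
  obtain ⟨N, hN, -, -, -, eA⟩ := ha.exists_un hL.conj
  exact hL.cent_two h2 hij hN hb hg (eA ▸ h)

/-- The centraliser of a product of three roots of different slots. -/
theorem Lev.cent_three (hL : Lev τ M) (h2 : (2 : F) = 0) {l i j : Fin (s + 1)} (hli : l ≠ i) (hlj : l ≠ j)
    (hij : i ≠ j) {R a b : TMat F m (s + 1)} (hR : IsRootU τ l R) (ha : IsRootU τ i a) (hb : IsRootU τ j b)
    {g : GL (Fin (s + 1) → Fin m) F} (hg : g ∈ M)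
    (h : Commute g (oneAdd R hR.sq * (oneAdd a ha.sq * oneAdd b hb.sq))) : g ∈ Std F m (s + 1) := by
  by_contra hgs
  have hτ := hL.conj
  obtain ⟨X, hX, hXR, hXR1, hXR2⟩ := hL.exists_second hR
  obtain ⟨Nx, hNx, -, -, ex, eX⟩ := hX.exists_un hτ
  obtain ⟨Nr, hNr, -, -, er, eR⟩ := hR.exists_un hτ
  obtain ⟨Na, hNa, -, -, -, eA⟩ := ha.exists_un hτ
  obtain ⟨Nb, hNb, -, -, -, eB⟩ := hb.exists_un hτ
  set z := oneAdd R hR.sq * (oneAdd a ha.sq * oneAdd b hb.sq) with hzd
  have hcab : ∀ A : GL (Fin m) F, Commute (slotGL l A) (oneAdd a ha.sq * oneAdd b hb.sq) := fun A =>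
    (eA ▸ slotGL_comm hli A _ : Commute (slotGL l A) (oneAdd a ha.sq)).mul_right
      (eB ▸ slotGL_comm hlj A _ : Commute (slotGL l A) (oneAdd b hb.sq))
  have hcR : Commute (oneAdd R hR.sq) z := (Commute.refl _).mul_right (eR ▸ hcab _)
  have hcx : Commute (oneAdd X hX.sq) z := Commute.mul_right (Units.ext (by
      show (1 + X) * (1 + R) = (1 + R) * (1 + X)
      simp only [mul_add, add_mul, one_mul, mul_one, hXR1, hXR2]; abel)) (eX ▸ hcab _)
  have hcy : Commute (oneAdd (cj g R) (cj_sq g hR.sq)) z := by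
    rw [← oneAdd_conj g hR.sq]
    exact (h.mul_left hcR).mul_left h.inv_left
  obtain ⟨v, hv, hcase⟩ := hL.alt h2 hX hR hg hgs
  have hvM : v ∈ M := (Subgroup.closure_le _).2 (Set.pair_subset_iff.2
    ⟨hL.root_mem hX, hL.conj_mem hR hg⟩) hv
  rcases hcase with e | ⟨k, hk, hs, hR', hcomm⟩
  swap
  · exact hgs (by
      rw [show g = v⁻¹ * (v * g) by group]
      exact mul_mem (inv_mem (hL.cent_pair h2 hk.symm hX hR' hvM hcomm)) hs)
  have hs : v * g ∈ Std F m (s + 1) := hL.std_of_conj hR (mul_mem hvM hg) (by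
    rw [show oneAdd (cj (v * g) R) (cj_sq _ hR.sq) = oneAdd X hX.sq from Units.ext (by
      show 1 + cj (v * g) R = 1 + X; rw [e]), eX]
    exact slotGL_mem l _)
  have hvgz : Commute (v * g) z := (closure_pair_commute hcx hcy hv).mul_left h
  obtain ⟨π, T, hπ, hT⟩ := std_slot_conj hs
  have h1 : slotGL (π l) (T l * un Nr hNr * (T l)⁻¹) = slotGL l (un Nx hNx) := by
    rw [← hT, ← eR, ← eX, oneAdd_conj]
    exact Units.ext (by show 1 + cj (v * g) R = 1 + X; rw [e])
  have hπl : π l = l := by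
    obtain ⟨hC, eC⟩ := un_conj hNr (T l)
    rw [eC, ← oneAdd_slot l Nx hNx (by rw [← slot_mul, hNx, slot_zero]),
      ← oneAdd_slot (π l) _ hC (by rw [← slot_mul, hC, slot_zero])] at h1
    exact ((ex ▸ hX.isRoot).slot_eq _ (TensorWreathSL.oneAdd_inj h1).symm).symm
  have hz : pureGL (Function.update (Function.update (Function.update (fun _ => (1 : GL (Fin m) F))
      (π j) (T j * un Nb hNb * (T j)⁻¹)) (π i) (T i * un Na hNa * (T i)⁻¹)) (π l) (T l * un Nr hNr * (T l)⁻¹)) =
      pureGL (Function.update (Function.update (Function.update (fun _ => (1 : GL (Fin m) F))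
        j (un Nb hNb)) i (un Na hNa)) l (un Nr hNr)) := by
    rw [← slot_mul_pureGL (π l) _ _ (by simp [hli, hlj]), ← slot_mul_pureGL (π i) _ _ (by simp [hij]),
      ← slot_mul_pureGL l _ _ (by simp [hli, hlj]), ← slot_mul_pureGL i _ _ (by simp [hij]),
      ← slotGL_eq_pureGL, ← slotGL_eq_pureGL, ← hT, ← hT, ← hT, ← eR, ← eA, ← eB]
    calc _ = (v * g) * z * (v * g)⁻¹ := by rw [hzd]; group
      _ = _ := by rw [hvgz.eq, mul_inv_cancel_right]
  have h2' : (T l * un Nr hNr * (T l)⁻¹ : GL (Fin m) F).1 = 1 + Nx := by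
    rw [hπl] at h1
    have := congrArg Units.val h1
    rw [slotGL_val, slotGL_val] at this
    rw [slot_injective l this, un_val]
  refine hXR ?_
  rw [ex, er, factor_eq hz l hNx hNr (by rw [hπl, Function.update_self]; exact h2')
    (by rw [Function.update_self, un_val])]

end CfsgLib.TensorWreathSU
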