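import Cfsg.Agent.Lib.TensorWreathSU.Full

/-!
Restriction to the slots other than one, and factors of one slot.
-/

set_option autoImplicit false
set_option linter.unusedSectionVars false

namespace CfsgLib.TensorWreathSU

open Cfsg Cfsg.Geo CfsgLib.Aschbacher CfsgLib.AschbacherForm CfsgLib.TensorWreath CfsgLib.TensorWreathSL
open CfsgLib.TensorMax.Unitary (Conj hd hd_add_left hd_add_right hd_smul_left hd_smul_right hd_sub_left hd_sub_right
  hd_zero_left hd_zero_right hd_neg_left hd_neg_right)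
open scoped Matrix MatrixGroups

variable {F : Type*} [Field F] [Fintype F] {m s : ℕ} [NeZero m] {τ : F ≃+* F}

/-- A unitary group containing the special unitary group of every slot and the three-cycles of the slots. -/
structure SUP {n : ℕ} (τ : F ≃+* F) (M : Subgroup (GL (Fin n → Fin m) F)) : Prop where
  conj : Conj τ
  ug : M ≤ UG τ (Fin n → Fin m)
  su : ∀ i (A : GL (Fin m) F), A ∈ UG τ (Fin m) → (A : Matrix (Fin m) (Fin m) F).det = 1 → slotGL i A ∈ M
  perm : ∀ a b c : Fin n, a ≠ b → a ≠ c → b ≠ c → permGL (cyc a b c) ∈ M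

theorem cyc_mid {n : ℕ} {a b c : Fin n} (hab : a ≠ b) (hac : a ≠ c) (hbc : b ≠ c) : cyc a b c b = a := by
  simp [cyc, Equiv.swap_apply_def, hab, hab.symm, hac, hac.symm, hbc, hbc.symm]

theorem emb_permGL (l : Fin (s + 1)) (π : Equiv.Perm (Fin s)) (π' : Equiv.Perm (Fin (s + 1))) (hl : π' l = l)
    (hπ : ∀ j, π' (l.succAbove j) = l.succAbove (π j)) :
    emb l (permGL π : GL (Fin s → Fin m) F) = permGL π' := by
  refine Units.ext ((blk l).injective (Matrix.ext fun k a => ?_))
  rw [emb_val, blk_embM, dg_apply]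
  refine Matrix.ext fun u v => ?_
  rw [blk_apply]
  have hiff : l.insertNth a v = l.insertNth k u ∘ ⇑π' ↔ a = k ∧ v = u ∘ ⇑π := by
    rw [funext_iff, Fin.forall_iff_succAbove l, funext_iff (f := v)]
    simp [hl, hπ]
  show _ = if l.insertNth a v = l.insertNth k u ∘ ⇑π' then (1 : F) else 0
  rw [if_congr hiff rfl rfl]
  by_cases hka : k = a
  · rw [if_pos hka]
    exact if_congr ⟨fun h => ⟨hka.symm, h⟩, And.right⟩ rfl rfl
  · rw [if_neg hka, if_neg fun h => hka h.1.symm]
    rfl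

theorem SUP.rest {M : Subgroup (GL (Fin (s + 1) → Fin m) F)} (h : SUP τ M) (l : Fin (s + 1)) :
    SUP τ (M.comap (emb (F := F) (m := m) l)) := by
  refine ⟨h.conj, fun B hB => ?_, fun i A hA h1 => ?_, fun a b c hab hac hbc => ?_⟩
  · have h1 := mem_UG.1 (h.ug hB)
    rw [emb_val, ad_embM, ← map_mul] at h1
    rw [mem_UG]
    exact embM_injective l (h1.trans (map_one _).symm)
  · show emb l (slotGL i A) ∈ M
    rw [emb_slotGL]
    exact h.su _ A hA h1
  · show emb l (permGL (cyc a b c)) ∈ M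
    have hinj := Fin.succAbove_right_injective (p := l)
    rw [emb_permGL l _ (cyc (l.succAbove a) (l.succAbove b) (l.succAbove c)) ?_ fun j => ?_]
    · exact h.perm _ _ _ (hinj.ne hab) (hinj.ne hac) (hinj.ne hbc)
    · simp only [cyc, Equiv.Perm.mul_apply]
      simp [Equiv.swap_apply_of_ne_of_ne, (Fin.succAbove_ne l _).symm]
    · simp only [cyc, Equiv.Perm.mul_apply, hinj.swap_apply]

theorem inM_rest {M : Subgroup (GL (Fin (s + 1) → Fin m) F)} {l : Fin (s + 1)} {X : TMat F m s} (hX : X * X = 0)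
    (h : InM M (1 + embM l X)) : InM (M.comap (emb (F := F) (m := m) l)) (1 + X) := by
  obtain ⟨g, hg, eg⟩ := h
  have hinv : (1 + X) * (1 - X) = 1 := by
    rw [add_mul, one_mul, mul_sub, mul_one, hX, sub_zero, sub_add_cancel]
  refine ⟨⟨1 + X, 1 - X, hinv, mul_eq_one_comm.1 hinv⟩, ?_, rfl⟩
  show emb l _ ∈ M
  convert hg
  refine Units.ext ?_
  rw [eg, emb_val, map_add, map_one]

theorem inM_of_rest {M : Subgroup (GL (Fin (s + 1) → Fin m) F)} {l : Fin (s + 1)} {X : TMat F m s}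
    (h : InM (M.comap (emb (F := F) (m := m) l)) (1 + X)) : InM M (1 + embM l X) := by
  obtain ⟨g, hg, eg⟩ := h
  exact ⟨emb l g, hg, by rw [emb_val, eg, map_add, map_one]⟩

/-! ### Factors of one slot -/

variable {e f : Fin m → F}

/-- A matrix has the factor `e e†` in a slot. -/
def Fac {n : ℕ} (τ : F ≃+* F) (e f : Fin m → F) (t : Fin n) (X : TMat F m n) : Prop :=
  slot t (ov τ e f) * X * slot t (ov τ f e) = X

theorem Fac.add {n : ℕ} {t : Fin n} {X Y : TMat F m n} (hX : Fac τ e f t X) (hY : Fac τ e f t Y) :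
    Fac τ e f t (X + Y) := by rw [Fac, mul_add, add_mul, hX, hY]

theorem Fac.smul {n : ℕ} {t : Fin n} {X : TMat F m n} (hX : Fac τ e f t X) (c : F) : Fac τ e f t (c • X) := by
  rw [Fac, Matrix.mul_smul, Matrix.smul_mul, hX]

theorem Fac.neg {n : ℕ} {t : Fin n} {X : TMat F m n} (hX : Fac τ e f t X) : Fac τ e f t (-X) := by
  rw [Fac, mul_neg, neg_mul, hX]

theorem Fac.sub {n : ℕ} {t : Fin n} {X Y : TMat F m n} (hX : Fac τ e f t X) (hY : Fac τ e f t Y) :
    Fac τ e f t (X - Y) := by rw [sub_eq_add_neg]; exact hX.add hY.neg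

theorem Fac.mul_left {n : ℕ} {t j : Fin n} {X : TMat F m n} (hX : Fac τ e f t X) (h : t ≠ j)
    (A : Matrix (Fin m) (Fin m) F) : Fac τ e f t (slot j A * X) := by
  rw [Fac, ← mul_assoc, slot_commute h, mul_assoc, mul_assoc, ← mul_assoc _ X, hX]

theorem Fac.mul_right {n : ℕ} {t j : Fin n} {X : TMat F m n} (hX : Fac τ e f t X) (h : t ≠ j)
    (A : Matrix (Fin m) (Fin m) F) : Fac τ e f t (X * slot j A) := by
  rw [Fac, ← mul_assoc, mul_assoc _ (slot j A), ← slot_commute h, ← mul_assoc, hX]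

theorem Fac.conj {n : ℕ} {t j : Fin n} {X : TMat F m n} (hX : Fac τ e f t X) (h : t ≠ j) (A : GL (Fin m) F) :
    Fac τ e f t (cj (slotGL j A) X) := by
  rw [cj_apply, ← map_inv, slotGL_val, slotGL_val]
  exact (hX.mul_left h _).mul_right h _

theorem Fac.mul_eq_zero {n : ℕ} {t : Fin n} {X Y : TMat F m n} (hX : Fac τ e f t X) (hY : Fac τ e f t Y)
    (he : hd τ e e = 0) : X * Y = 0 := by
  rw [← hX, ← hY, mul_assoc, mul_assoc, ← mul_assoc (slot t (ov τ f e)), ← mul_assoc (slot t (ov τ f e)), ← slot_mul,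
    ov_mul, he, zero_smul, slot_zero, zero_mul, zero_mul, mul_zero, mul_zero]

theorem fac_mk {n : ℕ} (t : Fin n) {Y : TMat F m n} (hY : Cent t Y) (hef : hd τ e f = 1) (hfe : hd τ f e = 1) :
    Fac τ e f t (slot t (ov τ e e) * Y) := by
  rw [Fac, mul_assoc, mul_assoc (slot t (ov τ e e)), ← hY, ← mul_assoc, ← mul_assoc, ← slot_mul, ← slot_mul, ov_mul,
    hef, one_smul, ov_mul, hfe, one_smul]

theorem Fac.eq_col {t : Fin (s + 1)} {X : TMat F m (s + 1)} (hX : Fac τ e f t X) :
    X = col t e * (row τ t f * X * col t f) * row τ t e := by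
  conv_lhs => rw [← hX, slot_ov, slot_ov]
  simp only [Matrix.mul_assoc]

theorem Fac.rest {l : Fin (s + 1)} {t : Fin s} {X : TMat F m s} (hX : Fac τ e f (l.succAbove t) (embM l X)) :
    Fac τ e f t X := by
  refine embM_injective l ?_
  rw [map_mul, map_mul, embM_slot, embM_slot]
  exact hX

end CfsgLib.TensorWreathSU
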