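import Cfsg.Agent.Lib.TensorWreathSU.Step

/-!
A twisted root element spreads to all unitary transvections.
-/

set_option autoImplicit false
set_option linter.unusedSectionVars false

namespace CfsgLib.TensorWreathSU

open Cfsg Cfsg.Geo CfsgLib.Aschbacher CfsgLib.AschbacherForm CfsgLib.TensorWreath CfsgLib.TensorWreathSL
open CfsgLib.TensorMax.Unitary (Conj hd hd_add_left hd_add_right hd_smul_left hd_smul_right hd_sub_left hd_sub_right
  hd_zero_left hd_zero_right hd_neg_left hd_neg_right)
open scoped Matrix MatrixGroups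

variable {F : Type*} [Field F] [Fintype F] {m s : ℕ} [NeZero m] {τ : F ≃+* F}

/-- One transvection at a pure centre gives all at pure isotropic centres. -/
theorem good_of_one {n : ℕ} {M : Subgroup (GL (Fin n → Fin m) F)} (hM : SUP τ M) (hm : 3 ≤ m) (hn : 0 < n)
    {v : Fin n → Fin m → F} (hv0 : ∀ j, v j ≠ 0) (hv : ∀ j, hd τ (v j) (v j) = 0) {x : F} (hx : x ≠ 0)
    (h : InM M (1 + x • ov τ (pv v) (pv v))) : GoodP τ M := by
  classical
  have hτ := hM.conj
  have hz0 : pv v ≠ 0 := by
    choose a ha using fun j => Function.ne_iff.1 (hv0 j)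
    exact fun e => Finset.prod_ne_zero_iff.2 (fun j _ => ha j) (congrFun e fun j => a j)
  have hzz : hd τ (pv v) (pv v) = 0 := by rw [hd_pv]; exact Finset.prod_eq_zero (Finset.mem_univ ⟨0, hn⟩) (hv _)
  have hxs : τ x = -x := by
    obtain ⟨g, hg, eg⟩ := h
    have h1 := mem_UG.1 (hM.ug hg)
    rw [eg, ad_add, ad_one, ad_smul, ad_ov hτ, add_mul, one_mul, mul_add, mul_one, Matrix.smul_mul, Matrix.mul_smul,
      ov_mul, hzz, zero_smul, smul_zero, smul_zero, add_zero, add_assoc, ← add_smul, add_eq_left, smul_eq_zero] at h1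
    exact eq_neg_of_add_eq_zero_right (h1.resolve_right (ov_ne_zero hz0 hz0))
  intro w hw k hk
  obtain ⟨c, hc⟩ := hτ.exists_norm (c := k / x) (skew_ratio hτ hxs hk)
  set i₀ : Fin n := ⟨0, hn⟩
  set w' := Function.update w i₀ (c • w i₀)
  have e : pv w' = c • pv w := by
    have h1 := slot_mulVec_pv i₀ (c • (1 : Matrix (Fin m) (Fin m) F)) w
    rwa [slot_smul, slot_one, Matrix.smul_mulVec, Matrix.one_mulVec, Matrix.smul_mulVec, Matrix.one_mulVec,
      eq_comm] at h1
  suffices key : InM M (1 + x • ov τ (pv w') (pv w')) by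
    rwa [e, ov_smul_left, ov_smul_right, smul_smul, smul_smul,
      show x * c * τ c = k by rw [mul_assoc, hc, mul_div_cancel₀ _ hx]] at key
  have hw' : ∀ j, hd τ (w' j) (w' j) = 0 := fun j => by
    rcases eq_or_ne j i₀ with rfl | hj
    · simp [w', hd_smul_left, hd_smul_right, hw]
    · simp [w', hj, hw]
  suffices key : ∀ T : Finset (Fin n), InM M (1 + x • ov τ (pv fun j => if j ∈ T then w' j else v j)
      (pv fun j => if j ∈ T then w' j else v j)) by simpa using key Finset.univ
  intro T
  induction T using Finset.induction_on with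
  | empty => simpa using h
  | @insert a T ha ih =>
    by_cases hwa : w' a = 0
    · rw [pv_zero_of a (by simp [hwa]), ov_zero_left, smul_zero, add_zero]; exact InM.one
    obtain ⟨A, hA, hA1, eA⟩ := exists_slot_move hτ hm (hv0 a) hwa (hv a) (hw' a)
    have hAM := hM.su a A hA hA1
    convert InM.cj' hAM ih using 2
    rw [map_smul, cj_apply, ← ad_of_mem (hM.ug hAM), ← ov_mulVec_mulVec, slotGL_val, slot_mulVec_pv]
    congr 2 <;>
    · congr 1
      funext j
      rcases eq_or_ne j a with rfl | hj <;> simp [*]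

/-- All transvections of pure centres in the slots other than one. -/
def PatFull {n : ℕ} (τ : F ≃+* F) (M : Subgroup (GL (Fin n → Fin m) F)) (l : Fin n) : Prop :=
  ∀ v : Fin n → Fin m → F, (∃ j, j ≠ l ∧ hd τ (v j) (v j) = 0) → ∀ k : F, τ k = -k →
    InM M (1 + k • pure' fun j => if j = l then 1 else ov τ (v j) (v j))

theorem embM_pure (l : Fin (s + 1)) (a : Fin s → Matrix (Fin m) (Fin m) F) :
    embM l (pure' a) = pure' (l.insertNth 1 a) := by
  refine (blk l).injective ?_
  rw [blk_embM, blk_pure', Fin.insertNth_apply_same, map_one, one_mul]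
  simp only [Fin.insertNth_apply_succAbove]

theorem patFull_of_rest {M : Subgroup (GL (Fin (s + 1) → Fin m) F)} {l : Fin (s + 1)}
    (h : ∀ z, hd τ z z = 0 → Pt τ (M.comap (emb (F := F) (m := m) l)) z) : PatFull τ M l := by
  rintro v ⟨j, hj, hvj⟩ k hk
  obtain ⟨j', rfl⟩ := Fin.exists_succAbove_eq hj
  have h1 := inM_of_rest (h (pv fun i => v (l.succAbove i))
    (by rw [hd_pv]; exact Finset.prod_eq_zero (Finset.mem_univ j') hvj) k hk)
  rw [map_smul, ov_pv, embM_pure] at h1
  convert h1 using 4
  refine funext ((Fin.forall_iff_succAbove l).2 ⟨?_, fun i => ?_⟩)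
  · simp
  · simp [Fin.succAbove_ne]

theorem PatFull.perm {n : ℕ} {M : Subgroup (GL (Fin n → Fin m) F)} {l : Fin n} (h : PatFull τ M l)
    {σ : Equiv.Perm (Fin n)} (hσ : permGL σ ∈ M) : PatFull τ M (σ l) := by
  rintro v ⟨j, hj, hvj⟩ k hk
  have h1 := InM.cj' hσ (h (fun i => v (σ i)) ⟨σ.symm j, fun e => hj (by rw [← e]; simp), by simpa using hvj⟩ k hk)
  rw [map_smul, permGL_conj_pure] at h1
  convert h1 using 4
  funext i
  simp [Equiv.symm_apply_eq]

/-- Two slots, each missed by full patterns, give a pattern on all slots. -/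
theorem good_of_patFull {n : ℕ} {M : Subgroup (GL (Fin n → Fin m) F)} (hM : SUP τ M) (hm : 3 ≤ m) {l l' j₀ : Fin n}
    (hll : l' ≠ l) (hj₀ : j₀ ≠ l) (hj₀' : j₀ ≠ l') (h1 : PatFull τ M l) (h2 : PatFull τ M l') : GoodP τ M := by
  classical
  have hτ := hM.conj
  obtain ⟨e, f, he, hf, hef, he0, hf0⟩ := exists_pair (F := F) (m := m) hτ hm
  have hfe := hd_one hτ hef
  obtain ⟨p, hpe, -, hpp⟩ := exists_mid hτ hm he hf hef
  have hep : hd τ e p = 0 := hτ.hd_symm_zero hpe
  obtain ⟨κ, hκ0, hκ⟩ := hτ.exists_skew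
  obtain ⟨θ, hθ⟩ := hτ.exists_trace (c := (1 : F)) (map_one τ)
  let R : Matrix (Fin m) (Fin m) F → TMat F m n := fun B =>
    pure' fun j => if j = l then 1 else if j = l' then ov τ e e else B
  let Qf : TMat F m n := pure' fun j => if j = l ∨ j = l' then 1 else ov τ f f
  have hQR : ∀ B, Qf * R B = R (ov τ f f * B) := fun B => by
    simp only [Qf, R, pure'_mul]
    congr 1
    funext j
    by_cases a : j = l <;> by_cases b : j = l' <;> simp [*]
  have hRQ : ∀ B, R B * Qf = R (B * ov τ f f) := fun B => by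
    simp only [Qf, R, pure'_mul]
    congr 1
    funext j
    by_cases a : j = l <;> by_cases b : j = l' <;> simp [*]
  have hcR : ∀ B, Cent l (R B) := fun B => cent_pure (by simp)
  have hcQ : Cent l Qf := cent_pure (by simp)
  have hRR : ∀ B B', R B * R B' = 0 := fun B B' => by
    simp only [R, pure'_mul]
    refine pure'_zero_of l' ?_
    simp [hll, ov_mul, he]
  set Rp := R (ov τ f e)
  set Rm := R (ov τ e f)
  set Rh := R (ov τ f f)
  let D : Matrix (Fin m) (Fin m) F → F → TMat F m n := fun A N =>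
    κ • (slot l A * Rp) - κ • (slot l A * Rm) - (κ * κ * N) • (slot l A * Rh)
  have hDD : ∀ A N A' N', (κ • D A N) * (κ • D A' N') = 0 := fun A N A' N' => by
    have z : ∀ B B', slot l A * R B * (slot l A' * R B') = 0 := fun B B' => by
      rw [mul_assoc, ← mul_assoc (R B), ← hcR B, mul_assoc, hRR, mul_zero, mul_zero]
    simp only [D, Rp, Rm, Rh, Matrix.smul_mul, Matrix.mul_smul, sub_mul, mul_sub, z, smul_zero, sub_zero]
  have hP : InM M (1 + κ • R (ov τ e e)) := by
    convert h1 (fun _ => e) ⟨l', hll, he⟩ κ hκ using 4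
    funext j
    by_cases a : j = l <;> by_cases b : j = l' <;> simp [*]
  have hD : ∀ y : Fin m → F, InM M (1 + κ • D (ov τ y y) (hd τ y y)) := fun y => by
    set S := slot l (ov τ y y) with hS
    have hQ : InM M (1 + κ • (S * Qf)) := by
      convert h2 (Function.update (fun _ => f) l y) ⟨j₀, hj₀', by rw [Function.update_of_ne hj₀]; exact hf⟩ κ hκ
        using 3
      rw [hS, slot_eq_pure]
      simp only [Qf, pure'_mul]
      congr 1
      funext j
      by_cases a : j = l <;> by_cases b : j = l' <;> simp [*, Ne.symm hll]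
    obtain ⟨g, hg, eg⟩ := hQ
    have hQQ : S * Qf * (S * Qf) = 0 := by
      have : Qf * Qf = 0 := by
        simp only [Qf, pure'_mul]
        refine pure'_zero_of j₀ ?_
        simp [hj₀, hj₀', ov_mul, hf]
      rw [mul_assoc, ← mul_assoc Qf, ← hcQ, mul_assoc, this, mul_zero, mul_zero]
    have egi : (↑g⁻¹ : TMat F m n) = 1 - κ • (S * Qf) := by
      refine left_inv_eq_right_inv (Units.inv_mul g) ?_
      rw [eg, add_mul, one_mul, mul_sub, mul_one, Matrix.smul_mul, Matrix.mul_smul, hQQ, smul_zero, smul_zero,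
        sub_zero, sub_add_cancel]
    have e1 : S * Qf * R (ov τ e e) = S * Rp := by rw [mul_assoc, hQR, ov_mul, hef, one_smul]
    have e2 : R (ov τ e e) * (S * Qf) = S * Rm := by
      rw [← mul_assoc, ← hcR, mul_assoc, hRQ, ov_mul, hfe, one_smul]
    have e3 : S * Rp * (S * Qf) = hd τ y y • (S * Rh) := by
      rw [mul_assoc, ← mul_assoc Rp, show Rp * S = S * Rp from (hcR _ _).symm, mul_assoc, hRQ, ov_mul, hfe, one_smul,
        ← mul_assoc, hS, ← slot_mul, ov_mul, slot_smul, Matrix.smul_mul]
    have hconj : cj g (κ • R (ov τ e e)) = κ • R (ov τ e e) + κ • D (ov τ y y) (hd τ y y) := by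
      rw [map_smul, cj_apply, eg, egi]
      simp only [D, ← hS, add_mul, mul_sub, one_mul, mul_one, Matrix.smul_mul, Matrix.mul_smul, e1, e2, e3, smul_smul]
      module
    have h3 := InM.mul (InM.cj' hg hP) (inM_sub hP (by rw [Matrix.smul_mul, Matrix.mul_smul, hRR, smul_zero, smul_zero]))
    have hz : cj g (κ • R (ov τ e e)) * (κ • R (ov τ e e)) = 0 := by
      have z : ∀ B, S * R B * R (ov τ e e) = 0 := fun B => by rw [mul_assoc, hRR, mul_zero]
      rw [hconj]
      simp only [D, Rp, Rm, Rh, ← hS, add_mul, sub_mul, Matrix.smul_mul, Matrix.mul_smul, hRR, z, smul_zero, sub_zero,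
        add_zero]
    convert h3 using 1
    rw [add_mul, one_mul, mul_sub, mul_one, hz, sub_zero, hconj]
    abel
  have hadd : ∀ {x y : TMat F m n}, InM M (1 + x) → InM M (1 + y) → x * y = 0 → InM M (1 + (x + y)) :=
    fun {x y} hx hy hxy => by
      convert InM.mul hx hy using 1
      rw [add_mul, one_mul, mul_add, mul_one, hxy, add_zero]
      abel
  have hneg : ∀ y, InM M (1 + -(κ • D (ov τ y y) (hd τ y y))) := fun y => by
    rw [← sub_eq_add_neg]
    exact inM_sub (hD y) (hDD _ _ _ _)
  have hfin := hadd (hadd (hadd (hadd (hD (p + (1 + θ) • e)) (hneg (p + (1 : F) • e)) ?_) (hneg (p + θ • e)) ?_)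
    (hD p) ?_) (hneg e) ?_
  rotate_left
  all_goals try simp only [Matrix.mul_neg, Matrix.neg_mul, add_mul, hDD, neg_zero, add_zero]
  have key : κ • D (ov τ (p + (1 + θ) • e) (p + (1 + θ) • e)) (hd τ (p + (1 + θ) • e) (p + (1 + θ) • e)) +
      -(κ • D (ov τ (p + (1 : F) • e) (p + (1 : F) • e)) (hd τ (p + (1 : F) • e) (p + (1 : F) • e))) +
      -(κ • D (ov τ (p + θ • e) (p + θ • e)) (hd τ (p + θ • e) (p + θ • e))) + κ • D (ov τ p p) (hd τ p p) +
      -(κ • D (ov τ e e) (hd τ e e)) = (-(κ * (κ * κ) * hd τ p p)) • (slot l (ov τ e e) * Rh) := by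
    simp only [D, hd_add_left, hd_add_right, hd_smul_left, hd_smul_right, he, hep, hpe, mul_zero, add_zero,
      ov_add_left, ov_add_right, ov_smul_left, ov_smul_right, slot_add, slot_smul, smul_add, add_mul, smul_smul,
      Matrix.smul_mul, map_add, map_one, smul_sub, zero_smul]
    match_scalars
    all_goals first | ring1 | linear_combination κ * κ * hθ | linear_combination -(κ * κ) * hθ |
      linear_combination κ * κ * κ * hd τ p p * hθ | linear_combination -(κ * κ * κ * hd τ p p) * hθ
  rw [key] at hfin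
  refine good_of_one hM hm l.pos (v := fun j => if j = l ∨ j = l' then e else f) (fun j => ?_) (fun j => ?_)
    (neg_ne_zero.2 (mul_ne_zero (mul_ne_zero hκ0 (mul_ne_zero hκ0 hκ0)) hpp)) ?_
  · split_ifs <;> assumption
  · split_ifs <;> assumption
  · convert hfin using 3
    rw [ov_pv, slot_eq_pure]
    simp only [Rh, R, pure'_mul]
    congr 1
    funext j
    by_cases a : j = l <;> by_cases b : j = l' <;> simp [*, Ne.symm hll]

/-- Sandwiches of a rank one matrix. -/
theorem ov_sandwich {ι : Type} [Fintype ι] [DecidableEq ι] (a b : ι → F) (X : Matrix ι ι F) :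
    ov τ a b * X * ov τ b a = hd τ (X *ᵥ b) b • ov τ a a := by
  rw [mul_assoc, show X * ov τ b a = ov τ (X *ᵥ b) a from Matrix.mul_vecMulVec _ _ _, ov_mul]

/-- Twisted elements with factors on two slots give all transvections. -/
theorem pt_of_tw (hm : 3 ≤ m) (hbig : Big τ m) {e f : Fin m → F} (he : hd τ e e = 0) (hf : hd τ f f = 0)
    (hef : hd τ e f = 1) : ∀ (s : ℕ) (M : Subgroup (GL (Fin (s + 1) → Fin m) F)), SUP τ M →
      ∀ (T : Finset (Fin (s + 1))) (X : TMat F m (s + 1)), X ≠ 0 → Tw τ M e f T X → 2 ≤ T.card →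
        ∀ z, hd τ z z = 0 → Pt τ M z := by
  intro s
  induction s with
  | zero =>
    intro M _ T X _ _ hT
    have := T.card_le_univ
    simp only [Fintype.card_fin] at this
    omega
  | succ s ih =>
    intro M hM
    have hτ := hM.conj
    have hfe := hd_one hτ hef
    have he0 : e ≠ 0 := fun h => by rw [h, hd_zero_left] at hef; exact zero_ne_one hef
    suffices key : ∀ (k : ℕ) (T : Finset (Fin (s + 1 + 1))) (X : TMat F m (s + 1 + 1)), s + 1 + 1 - T.card ≤ k →
        X ≠ 0 → Tw τ M e f T X → 2 ≤ T.card → GoodP τ M by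
      intro T X hX hTw hT z hz
      exact pt_all hτ hm _ M hM.ug hM.su (key _ T X le_rfl hX hTw hT) z hz
    intro k
    induction k using Nat.strong_induction_on with
    | _ k ihk =>
      intro T X hk hX hTw hT
      have hTne : T.Nonempty := Finset.card_pos.1 (by omega)
      by_cases hu : T = Finset.univ
      · -- a pattern on all slots
        have hsup : ∀ U : Finset (Fin (s + 1 + 1)), supp U (fun _ => ov τ e f) * X * supp U (fun _ => ov τ f e) = X := by
          intro U
          induction U using Finset.induction_on with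
          | empty => simp [supp, pure'_one]
          | @insert a U ha ihU =>
            have hc : Cent a (supp U fun _ => ov τ f e) := cent_pure (by simp [ha])
            rw [supp_insert ha, supp_insert ha, ← hc (ov τ f e),
              show supp U (fun _ => ov τ e f) * slot a (ov τ e f) * X *
                  (slot a (ov τ f e) * supp U fun _ => ov τ f e) =
                supp U (fun _ => ov τ e f) * (slot a (ov τ e f) * X * slot a (ov τ f e)) *
                  supp U fun _ => ov τ f e by simp only [mul_assoc],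
              show slot a (ov τ e f) * X * slot a (ov τ f e) = X from hTw.fac a (hu ▸ Finset.mem_univ a), ihU]
        have h1 := hsup Finset.univ
        simp only [supp, Finset.mem_univ, if_true, ← ov_pv, ov_sandwich] at h1
        refine good_of_one hM hm (Nat.succ_pos _) (x := hd τ (X *ᵥ pv fun _ => f) (pv fun _ => f)) (fun _ => he0)
          (fun _ => he)
          (fun hc => hX (by rw [← h1, hc, zero_smul])) ?_
        rw [h1]
        exact hTw.mem
      obtain ⟨l₀, hl₀⟩ : ∃ l, l ∉ T := by
        by_contra hcon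
        push Not at hcon
        exact hu (Finset.eq_univ_of_forall hcon)
      by_cases hcent : ∃ j, j ∉ T ∧ ¬ Cent j X
      · obtain ⟨j, hj, hjc⟩ := hcent
        obtain ⟨X', hX', hTw'⟩ := hTw.step hM hm hbig he hf hef hTne hj hjc
        have hlt : T.card < s + 1 + 1 := by
          simpa using Finset.card_lt_card (Finset.ssubset_univ_iff.2 hu)
        exact ihk (k - 1) (by omega) _ X' (by rw [Finset.card_insert_of_notMem hj]; omega) hX' hTw'
          (by rw [Finset.card_insert_of_notMem hj]; omega)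
      push Not at hcent
      obtain ⟨X', rfl⟩ := (cent_iff l₀ X).1 (hcent l₀ hl₀)
      obtain ⟨t₀, ht₀⟩ := hTne
      set T' : Finset (Fin (s + 1)) := Finset.univ.filter fun j => l₀.succAbove j ∈ T
      have hsq : X' * X' = 0 := embM_injective l₀ (by
        rw [map_mul, (hTw.fac t₀ ht₀).mul_eq_zero (hTw.fac t₀ ht₀) he, map_zero])
      have hcard : 2 ≤ T'.card := by
        refine hT.trans (Eq.le ?_)
        rw [← Finset.card_map ⟨l₀.succAbove, Fin.succAbove_right_injective⟩ (s := T')]
        congr 1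
        ext x
        simp only [T', Finset.mem_map, Finset.mem_filter, Finset.mem_univ, true_and, Function.Embedding.coeFn_mk]
        constructor
        · intro hx
          obtain ⟨x', rfl⟩ := Fin.exists_succAbove_eq (show x ≠ l₀ from fun h => hl₀ (h ▸ hx))
          exact ⟨x', hx, rfl⟩
        · rintro ⟨x', hx', rfl⟩; exact hx'
      have hrest := ih _ (hM.rest l₀) T' X' (fun h => hX (by rw [h, map_zero]))
        ⟨inM_rest hsq hTw.mem, fun t ht => (hTw.fac _ (Finset.mem_filter.1 ht).2).rest⟩ hcard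
      obtain ⟨a, ha, c, hc, hac⟩ := Finset.one_lt_card.1 (show 1 < T.card by omega)
      have hal : a ≠ l₀ := fun h => hl₀ (h ▸ ha)
      have hcl : c ≠ l₀ := fun h => hl₀ (h ▸ hc)
      have hP := patFull_of_rest hrest
      have hP' := hP.perm (hM.perm a l₀ c hal hac hcl.symm)
      rw [cyc_mid hal hac hcl.symm] at hP'
      exact good_of_patFull hM hm hal hcl hac.symm hP hP'

/-- A twisted root gives all transvections. -/
theorem pt_of_twist (hm : 3 ≤ m) (hbig : Big τ m) {M : Subgroup (GL (Fin (s + 1) → Fin m) F)} (hM : SUP τ M)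
    {i : Fin (s + 1)} {v : Fin m → F} {k : F} (hv0 : v ≠ 0) (hv : hd τ v v = 0) (hk0 : k ≠ 0)
    {C : TMat F m (s + 1)} (hC : Cent i C) (hn : ∀ c : F, C ≠ c • 1)
    (h : InM M (1 + slot i (k • ov τ v v) * C)) {z : (Fin (s + 1) → Fin m) → F} (hz : hd τ z z = 0) : Pt τ M z := by
  have hτ := hM.conj
  obtain ⟨e, f, he, hf, hef, he0, hf0⟩ := exists_pair (F := F) (m := m) hτ hm
  have hfe := hd_one hτ hef
  obtain ⟨C', rfl⟩ := (cent_iff i C).1 hC
  obtain ⟨B, hB, hB1, eB⟩ := exists_slot_move hτ hm hv0 he0 hv he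
  have h1 := InM.cj' (hM.su i B hB hB1) h
  rw [slot_smul, Matrix.smul_mul, map_smul, ← col_row_eq_slot, cj_col_row hτ i hB, eB, col_row_eq_slot] at h1
  have hTw : Tw τ M e f {i} (k • (slot i (ov τ e e) * embM i C')) := ⟨h1, fun t ht => by
    rw [Finset.mem_singleton.1 ht]
    exact (fac_mk i hC hef hfe).smul k⟩
  have hrow : ∀ D : TMat F m s, row τ i f * (slot i (ov τ e e) * embM i D) * col i f = D := fun D => by
    rw [← col_row_eq_slot, show row τ i f * (col i e * D * row τ i e) * col i f =
      (row τ i f * col i e) * D * (row τ i e * col i f) by simp only [Matrix.mul_assoc], row_mul_col, row_mul_col,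
      hef, hfe, one_smul, Matrix.one_mul, Matrix.mul_one]
  obtain ⟨j, hj⟩ : ∃ j, ¬ Cent j (embM i C') := by
    by_contra hcon
    push Not at hcon
    obtain ⟨c, hc⟩ := eq_scalar_of_cent hcon
    exact hn c hc
  have hji : j ≠ i := fun e' => hj (e' ▸ hC)
  obtain ⟨j', rfl⟩ := Fin.exists_succAbove_eq hji
  have hjc : ¬ Cent (i.succAbove j') (k • (slot i (ov τ e e) * embM i C')) := fun hc => hj fun A => by
    have hC'c : slot j' A * C' = C' * slot j' A := by
      have h2 := congrArg (fun Y => row τ i f * Y * col i f) (hc A)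
      simp only [← embM_slot, Matrix.mul_smul, Matrix.smul_mul] at h2
      rw [← mul_assoc, ← slot_embM_comm, mul_assoc (slot i _) (embM i (slot j' A)), mul_assoc (slot i _) (embM i C'),
        ← map_mul, ← map_mul, hrow, hrow] at h2
      exact smul_right_injective _ hk0 h2
    rw [← embM_slot, ← map_mul, hC'c, map_mul]
  obtain ⟨X', hX', hTw'⟩ := hTw.step hM hm hbig he hf hef (Finset.singleton_nonempty i)
    (fun h' => hji (Finset.mem_singleton.1 h')) hjc
  refine pt_of_tw hm hbig he hf hef s M hM _ X' hX' hTw' ?_ z hz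
  rw [Finset.card_insert_of_notMem fun h' => hji (Finset.mem_singleton.1 h'), Finset.card_singleton]

end CfsgLib.TensorWreathSU
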