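import Cfsg.Agent.Lib.TensorWreathSL.Final
import Cfsg.Agent.Lib.TensorMax.Unitary.Iso

/-!
Unitary groups on a tensor power of standard Hermitian spaces: adjoints, one-slot columns and rows, transvections,
transitivity on isotropic vectors and irreducibility.
-/

set_option autoImplicit false
set_option linter.unusedSectionVars false

namespace CfsgLib.TensorWreathSU

open Cfsg Cfsg.Geo CfsgLib.Aschbacher CfsgLib.AschbacherForm CfsgLib.TensorWreath CfsgLib.TensorWreathSL
open CfsgLib.TensorMax.Unitary (Conj hd hd_add_left hd_add_right hd_smul_left hd_smul_right hd_sub_left hd_sub_right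
  hd_zero_left hd_zero_right hd_neg_left hd_neg_right hd_sum_left perp mem_perp le_finrank_perp qr)
open scoped Matrix MatrixGroups

variable {F : Type*} [Field F] {m s : ℕ} {τ : F ≃+* F}

/-! ### Adjoints -/

section adjoint

variable {ι κ μ : Type}

/-- The adjoint of a matrix. -/
def ad (τ : F ≃+* F) (A : Matrix ι κ F) : Matrix κ ι F := (A.map τ)ᵀ

theorem ad_apply (A : Matrix ι κ F) (i : κ) (j : ι) : ad τ A i j = τ (A j i) := rfl

theorem ad_add (A B : Matrix ι κ F) : ad τ (A + B) = ad τ A + ad τ B := by ext; simp [ad_apply]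

theorem ad_sub (A B : Matrix ι κ F) : ad τ (A - B) = ad τ A - ad τ B := by ext; simp [ad_apply]

theorem ad_neg (A : Matrix ι κ F) : ad τ (-A) = -ad τ A := by ext; simp [ad_apply]

theorem ad_zero : ad τ (0 : Matrix ι κ F) = 0 := by ext; simp [ad_apply]

theorem ad_smul (c : F) (A : Matrix ι κ F) : ad τ (c • A) = τ c • ad τ A := by ext; simp [ad_apply]

theorem ad_one [DecidableEq ι] : ad τ (1 : Matrix ι ι F) = 1 := by
  ext i j
  simp [ad_apply, Matrix.one_apply, apply_ite τ, eq_comm (a := i)]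

theorem ad_mul [Fintype κ] (A : Matrix ι κ F) (B : Matrix κ μ F) : ad τ (A * B) = ad τ B * ad τ A := by
  ext i j
  simp only [ad_apply, Matrix.mul_apply, map_sum, map_mul]
  exact Finset.sum_congr rfl fun _ _ => mul_comm _ _

theorem ad_sum {X : Type} (t : Finset X) (A : X → Matrix ι κ F) : ad τ (∑ x ∈ t, A x) = ∑ x ∈ t, ad τ (A x) := by
  ext i j
  simp [ad_apply, Matrix.sum_apply, map_sum]

theorem ad_ad (hτ : Conj τ) (A : Matrix ι κ F) : ad τ (ad τ A) = A := by ext; simp [ad_apply, hτ.invol]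

theorem ad_inj (hτ : Conj τ) {A B : Matrix ι κ F} (h : ad τ A = ad τ B) : A = B := by
  rw [← ad_ad hτ A, h, ad_ad hτ]

/-- The unitary group of the standard form. -/
def UG (τ : F ≃+* F) (ι : Type) [Fintype ι] [DecidableEq ι] : Subgroup (GL ι F) where
  carrier := {g | ad τ (g : Matrix ι ι F) * (g : Matrix ι ι F) = 1}
  mul_mem' {g h} hg hh := by
    simp only [Set.mem_ofPred_eq] at hg hh ⊢
    rw [Units.val_mul, ad_mul, mul_assoc, ← mul_assoc (ad τ (g : Matrix ι ι F)), hg, one_mul, hh]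
  one_mem' := by simp [ad_one]
  inv_mem' {g} hg := by
    simp only [Set.mem_ofPred_eq] at hg ⊢
    have e : ad τ (g : Matrix ι ι F) = (↑g⁻¹ : Matrix ι ι F) := left_inv_eq_right_inv hg (Units.mul_inv g)
    have h := congrArg (ad τ) (Units.mul_inv g)
    rw [ad_mul, ad_one, e] at h
    rw [left_inv_eq_right_inv h (Units.inv_mul g), Units.mul_inv]

variable [Fintype ι] [DecidableEq ι]

theorem mem_UG {g : GL ι F} : g ∈ UG τ ι ↔ ad τ (g : Matrix ι ι F) * (g : Matrix ι ι F) = 1 := Iff.rfl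

theorem ad_of_mem {g : GL ι F} (h : g ∈ UG τ ι) : ad τ (g : Matrix ι ι F) = (↑g⁻¹ : Matrix ι ι F) :=
  left_inv_eq_right_inv h (Units.mul_inv g)

theorem ad_inv_of_mem {g : GL ι F} (h : g ∈ UG τ ι) : ad τ (↑g⁻¹ : Matrix ι ι F) = (g : Matrix ι ι F) := by
  rw [ad_of_mem (inv_mem h), inv_inv]

theorem hd_mulVec (A : Matrix ι ι F) (u v : ι → F) (hτ : Conj τ) :
    hd τ (A *ᵥ u) v = hd τ u (ad τ A *ᵥ v) := by
  simp only [TensorMax.Unitary.hd_apply, Matrix.mulVec, dotProduct, ad_apply, map_sum, map_mul, hτ.invol,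
    Finset.sum_mul, Finset.mul_sum]
  rw [Finset.sum_comm]
  exact Finset.sum_congr rfl fun _ _ => Finset.sum_congr rfl fun _ _ => by ring

theorem hd_unitary (hτ : Conj τ) {g : GL ι F} (h : g ∈ UG τ ι) (u v : ι → F) :
    hd τ ((g : Matrix ι ι F) *ᵥ u) ((g : Matrix ι ι F) *ᵥ v) = hd τ u v := by
  rw [hd_mulVec _ _ _ hτ, Matrix.mulVec_mulVec, mem_UG.1 h, Matrix.one_mulVec]

theorem cj_ad {g : GL ι F} (h : g ∈ UG τ ι) (X : Matrix ι ι F) : ad τ (cj g X) = cj g (ad τ X) := by
  rw [cj_apply, cj_apply, ad_mul, ad_mul, ad_inv_of_mem h, ad_of_mem h, mul_assoc]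

/-- The rank one operator `x ↦ hd x w • v`. -/
def ov (τ : F ≃+* F) (v w : ι → F) : Matrix ι ι F := Matrix.vecMulVec v (⇑τ ∘ w)

theorem ov_mulVec (v w x : ι → F) : ov τ v w *ᵥ x = hd τ x w • v := by
  rw [ov, Matrix.vecMulVec_mulVec, op_smul_eq_smul, dotProduct_comm]
  rfl

theorem ov_mul (v w x y : ι → F) : ov τ v w * ov τ x y = hd τ x w • ov τ v y := by
  rw [ov, ov, ov, Matrix.vecMulVec_mul_vecMulVec, Matrix.vecMulVec_smul, dotProduct_comm]
  rfl

theorem ad_ov (hτ : Conj τ) (v w : ι → F) : ad τ (ov τ v w) = ov τ w v := by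
  ext i j
  simp [ad_apply, ov, Matrix.vecMulVec_apply, hτ.invol, mul_comm]

theorem ov_add_left (u v w : ι → F) : ov τ (u + v) w = ov τ u w + ov τ v w := by
  ext; simp [ov, Matrix.vecMulVec_apply, add_mul]

theorem ov_add_right (u v w : ι → F) : ov τ u (v + w) = ov τ u v + ov τ u w := by
  ext; simp [ov, Matrix.vecMulVec_apply, mul_add]

theorem ov_smul_left (c : F) (v w : ι → F) : ov τ (c • v) w = c • ov τ v w := by
  ext; simp [ov, Matrix.vecMulVec_apply, mul_assoc]

theorem ov_smul_right (c : F) (v w : ι → F) : ov τ v (c • w) = τ c • ov τ v w := by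
  ext; simp [ov, Matrix.vecMulVec_apply, mul_left_comm]

theorem ov_sub_left (u v w : ι → F) : ov τ (u - v) w = ov τ u w - ov τ v w := by
  ext; simp [ov, Matrix.vecMulVec_apply, sub_mul]

theorem ov_zero_left (w : ι → F) : ov τ 0 w = 0 := by
  ext; simp [ov, Matrix.vecMulVec_apply]

theorem ov_zero_right (v : ι → F) : ov τ v 0 = 0 := by
  ext; simp [ov, Matrix.vecMulVec_apply]

theorem ov_ne_zero {v w : ι → F} (hv : v ≠ 0) (hw : w ≠ 0) : ov τ v w ≠ 0 := by
  obtain ⟨a, ha⟩ := Function.ne_iff.1 hv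
  obtain ⟨b, hb⟩ := Function.ne_iff.1 hw
  exact fun e => mul_ne_zero ha ((map_ne_zero τ).2 hb) (congrFun (congrFun e a) b)

theorem single_eq_ov (i j : ι) (c : F) : Matrix.single i j c = c • ov τ (Pi.single i 1) (Pi.single j 1) := by
  ext a b
  simp only [ov, Matrix.single_apply, Matrix.smul_apply, Matrix.vecMulVec_apply, Function.comp_apply, Pi.single_apply,
    apply_ite τ, map_one, map_zero, smul_eq_mul]
  by_cases h1 : i = a <;> by_cases h2 : j = b <;> simp [h1, h2, Ne.symm]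

end adjoint

/-! ### One slot against the others -/

variable [Finite F] [NeZero m]

theorem ad_slot (i : Fin s) (A : Matrix (Fin m) (Fin m) F) : ad τ (slot i A) = slot i (ad τ A) := by
  ext x y
  simp only [ad_apply, slot, Matrix.of_apply, apply_ite τ, map_zero]
  exact if_congr (forall₂_congr fun j _ => eq_comm) rfl rfl

theorem ad_pure (a : Fin s → Matrix (Fin m) (Fin m) F) : ad τ (pure' a) = pure' fun i => ad τ (a i) := by
  ext x y
  simp [ad_apply, pure', map_prod]

theorem blk_ad (i : Fin (s + 1)) (G : TMat F m (s + 1)) (k l : Fin m) :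
    blk i (ad τ G) k l = ad τ (blk i G l k) := rfl

theorem ad_embM (i : Fin (s + 1)) (B : TMat F m s) : ad τ (embM i B) = embM i (ad τ B) := by
  refine (blk i).injective (Matrix.ext fun k l => ?_)
  rw [blk_ad, blk_embM, blk_embM, dg_apply, dg_apply]
  by_cases h : k = l
  · rw [if_pos h, if_pos h.symm]
  · rw [if_neg h, if_neg (Ne.symm h), ad_zero]

theorem slotGL_UG {i : Fin s} {A : GL (Fin m) F} (h : A ∈ UG τ (Fin m)) : slotGL i A ∈ UG τ (Fin s → Fin m) := by
  rw [mem_UG, slotGL_val, ad_slot, ← slot_mul, mem_UG.1 h, slot_one]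

theorem emb_UG {i : Fin (s + 1)} {B : GL (Fin s → Fin m) F} (h : B ∈ UG τ (Fin s → Fin m)) :
    emb i B ∈ UG τ (Fin (s + 1) → Fin m) := by
  rw [mem_UG, emb_val, ad_embM, ← map_mul, mem_UG.1 h, map_one]

theorem permGL_UG (π : Equiv.Perm (Fin s)) : (permGL π : GL (Fin s → Fin m) F) ∈ UG τ (Fin s → Fin m) := by
  rw [mem_UG]
  ext x y
  rw [Matrix.mul_apply, Finset.sum_eq_single (x ∘ ⇑π.symm)]
  · show τ (if x = (x ∘ ⇑π.symm) ∘ ⇑π then (1 : F) else 0) * (if y = (x ∘ ⇑π.symm) ∘ ⇑π then 1 else 0) = _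
    rw [Matrix.one_apply, Function.comp_assoc, Equiv.symm_comp_self, Function.comp_id, if_pos rfl, map_one, one_mul]
    exact if_congr eq_comm rfl rfl
  · intro b _ hb
    show τ (if x = b ∘ ⇑π then (1 : F) else 0) * _ = 0
    rw [if_neg fun e => hb (by rw [e, Function.comp_assoc, Equiv.self_comp_symm, Function.comp_id]), map_zero, zero_mul]
  · simp

/-- Columns of a vector of one slot. -/
abbrev col (i : Fin (s + 1)) (v : Fin m → F) : Matrix (Fin (s + 1) → Fin m) (Fin s → Fin m) F := colM i v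

/-- Rows of a vector of one slot. -/
abbrev row (τ : F ≃+* F) (i : Fin (s + 1)) (v : Fin m → F) : Matrix (Fin s → Fin m) (Fin (s + 1) → Fin m) F :=
  rowM i (⇑τ ∘ v)

theorem ad_col (i : Fin (s + 1)) (v : Fin m → F) : ad τ (col i v) = row τ i v := by
  ext u x
  simp [ad_apply, colM, rowM, apply_ite τ]

theorem ad_row (hτ : Conj τ) (i : Fin (s + 1)) (v : Fin m → F) : ad τ (row τ i v) = col i v := by
  rw [← ad_col, ad_ad hτ]

theorem slot_vmv (i : Fin (s + 1)) (v φ : Fin m → F) :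
    slot i (Matrix.vecMulVec v φ) = colM i v * rowM i φ := by
  ext x y
  simp only [Matrix.mul_apply, colM, rowM, Matrix.of_apply, slot, Matrix.vecMulVec_apply]
  rw [Finset.sum_eq_single (i.removeNth x)]
  · rw [if_pos rfl]
    by_cases hxy : ∀ j, j ≠ i → x j = y j
    · rw [if_pos hxy,
        if_pos (show i.removeNth y = i.removeNth x from funext fun j => (hxy _ (Fin.succAbove_ne i j)).symm)]
    · rw [if_neg hxy, if_neg, mul_zero]
      intro e
      refine hxy fun j hj => ?_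
      obtain ⟨j', rfl⟩ := Fin.exists_succAbove_eq hj
      exact (congrFun e j').symm
  · intro u _ hu; rw [if_neg (Ne.symm hu), zero_mul]
  · simp

theorem slot_ov (i : Fin (s + 1)) (v w : Fin m → F) : slot i (ov τ v w) = col i v * row τ i w := slot_vmv i v _

theorem row_mul_col (i : Fin (s + 1)) (y z : Fin m → F) :
    row τ i y * col i z = hd τ z y • (1 : TMat F m s) := by
  have h := rowM_slot_emb_colM i (⇑τ ∘ y) z (1 : Matrix (Fin m) (Fin m) F) (1 : TMat F m s)
  rw [slot_one, map_one, one_mul, Matrix.mul_one, Matrix.one_mulVec, dotProduct_comm] at h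
  exact h

theorem slot_mul_col (i : Fin (s + 1)) (A : Matrix (Fin m) (Fin m) F) (v : Fin m → F) :
    slot i A * col i v = col i (A *ᵥ v) := by
  have h := slot_emb_mul_colM i A (1 : TMat F m s) v
  rwa [map_one, mul_one, Matrix.mul_one] at h

theorem embM_mul_col (i : Fin (s + 1)) (B : TMat F m s) (v : Fin m → F) : embM i B * col i v = col i v * B := by
  have h := slot_emb_mul_colM i (1 : Matrix (Fin m) (Fin m) F) B v
  rwa [slot_one, one_mul, Matrix.one_mulVec] at h

theorem row_mul_slot (hτ : Conj τ) (i : Fin (s + 1)) (A : Matrix (Fin m) (Fin m) F) (v : Fin m → F) :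
    row τ i v * slot i A = row τ i (ad τ A *ᵥ v) := by
  rw [← ad_col i (ad τ A *ᵥ v), ← slot_mul_col, ad_mul, ad_col, ad_slot, ad_ad hτ]

theorem row_mul_embM (hτ : Conj τ) (i : Fin (s + 1)) (B : TMat F m s) (v : Fin m → F) :
    row τ i v * embM i B = B * row τ i v := by
  have h := congrArg (ad τ) (embM_mul_col i (ad τ B) v)
  rwa [ad_mul, ad_mul, ad_col, ad_ad hτ, ad_embM, ad_ad hτ] at h

theorem col_zero (i : Fin (s + 1)) : col i (0 : Fin m → F) = 0 := by
  ext x u; simp [colM]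

theorem col_add (i : Fin (s + 1)) (v w : Fin m → F) : col i (v + w) = col i v + col i w := colM_add i v w

theorem col_smul (i : Fin (s + 1)) (c : F) (v : Fin m → F) : col i (c • v) = c • col i v := colM_smul i c v

theorem slot_minus {n : ℕ} (i : Fin n) (A B : Matrix (Fin m) (Fin m) F) : slot i (A - B) = slot i A - slot i B := by
  rw [sub_eq_add_neg, slot_add, slot_neg, ← sub_eq_add_neg]

theorem col_sum {X : Type} (t : Finset X) (i : Fin (s + 1)) (f : X → Fin m → F) :
    col i (∑ x ∈ t, f x) = ∑ x ∈ t, col i (f x) := by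
  classical
  induction t using Finset.induction with
  | empty => simp only [Finset.sum_empty, col_zero]
  | @insert a t ha ih => rw [Finset.sum_insert ha, Finset.sum_insert ha, col, colM_add, ← ih]

theorem row_add (i : Fin (s + 1)) (v w : Fin m → F) : row τ i (v + w) = row τ i v + row τ i w := by
  rw [← ad_col, col, colM_add, ad_add, ad_col, ad_col]

theorem row_smul (i : Fin (s + 1)) (c : F) (v : Fin m → F) :
    row τ i (c • v) = τ c • row τ i v := by
  rw [← ad_col, col, colM_smul, ad_smul, ad_col]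

theorem sum_slot_single (i : Fin (s + 1)) :
    ∑ k : Fin m, col i (Pi.single k (1 : F)) * row τ i (Pi.single k 1) = 1 := by
  simp_rw [← slot_ov]
  rw [← slot_sum, show (∑ k : Fin m, ov τ (Pi.single k (1 : F)) (Pi.single k 1)) = 1 from ?_, slot_one]
  ext a b
  simp [Matrix.sum_apply, ov, Matrix.vecMulVec_apply, Pi.single_apply, apply_ite τ, Matrix.one_apply]

/-- Matrices agree if all their entries against the columns of a slot agree. -/
theorem ext_row_col (i : Fin (s + 1)) {X Y : TMat F m (s + 1)}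
    (h : ∀ y z : Fin m → F, row τ i y * X * col i z = row τ i y * Y * col i z) : X = Y := by
  have key : ∀ W : TMat F m (s + 1), W = ∑ k : Fin m, ∑ l : Fin m, col i (Pi.single k (1 : F)) *
      (row τ i (Pi.single k (1 : F)) * W * col i (Pi.single l (1 : F))) * row τ i (Pi.single l (1 : F)) := fun W => by
    conv_lhs => rw [← Matrix.one_mul W, ← Matrix.mul_one ((1 : TMat F m (s + 1)) * W), ← sum_slot_single (τ := τ) i,
      Matrix.mul_sum]
    rw [Finset.sum_comm]
    refine Finset.sum_congr rfl fun l _ => ?_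
    rw [Matrix.sum_mul, Matrix.sum_mul]
    exact Finset.sum_congr rfl fun k _ => by simp only [Matrix.mul_assoc]
  rw [key X, key Y]
  exact Finset.sum_congr rfl fun k _ => Finset.sum_congr rfl fun l _ => by rw [h]

/-! ### Vectors of one slot -/

section vectors

variable (hτ : Conj τ)

include hτ

theorem exists_nonfixed : ∃ μ : F, μ ≠ 0 ∧ τ μ ≠ μ := by
  by_contra h
  push Not at h
  refine hτ.ne (RingEquiv.ext fun a => ?_)
  rcases eq_or_ne a 0 with rfl | ha
  · simp
  · exact h a ha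

theorem skew_smul {k μ : F} (hk : τ k = -k) (hμ : τ μ = μ) : τ (μ * k) = -(μ * k) := by
  rw [map_mul, hk, hμ, mul_neg]

theorem skew_ratio {k k' : F} (hk : τ k = -k) (hk' : τ k' = -k') : τ (k' / k) = k' / k := by
  rw [map_div₀, hk, hk', neg_div_neg_eq]

variable {κ : Type} [Fintype κ]

theorem hd_one {e f : κ → F} (h : hd τ e f = 1) : hd τ f e = 1 := by rw [← hτ.hd_conj, h, map_one]

/-- Every vector splits along a hyperbolic pair. -/
theorem exists_split {e f : κ → F} (he : hd τ e e = 0) (hf : hd τ f f = 0) (hef : hd τ e f = 1) (x : κ → F) :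
    ∃ (a b : F) (r : κ → F), x = a • e + b • f + r ∧ hd τ r e = 0 ∧ hd τ r f = 0 := by
  refine ⟨hd τ x f, hd τ x e, x - hd τ x f • e - hd τ x e • f, by abel, ?_, ?_⟩
  · rw [hd_sub_left, hd_sub_left, hd_smul_left, hd_smul_left, he, hd_one hτ hef]; ring
  · rw [hd_sub_left, hd_sub_left, hd_smul_left, hd_smul_left, hf, hef]; ring

/-- A sesquilinear map vanishing on isotropic vectors is a multiple of the form. -/
theorem sesq_eq {W : Type*} [AddCommGroup W] [Module F W] (Ψ : (κ → F) → (κ → F) → W)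
    (hal : ∀ x y z, Ψ (x + y) z = Ψ x z + Ψ y z) (har : ∀ x y z, Ψ x (y + z) = Ψ x y + Ψ x z)
    (hsl : ∀ (c : F) x y, Ψ (c • x) y = c • Ψ x y) (hsr : ∀ (c : F) x y, Ψ x (c • y) = τ c • Ψ x y)
    (h0 : ∀ v, hd τ v v = 0 → Ψ v v = 0) {e f : κ → F} (he : hd τ e e = 0) (hf : hd τ f f = 0)
    (hef : hd τ e f = 1) (y z : κ → F) : Ψ y z = hd τ y z • Ψ e f := by
  obtain ⟨κ₀, hκ0, hκ⟩ := hτ.exists_skew
  obtain ⟨μ, -, hμ⟩ := exists_nonfixed hτ
  have hee := h0 e he
  have hff := h0 f hf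
  have hfe : hd τ f e = 1 := hd_one hτ hef
  have hX : Ψ f e = Ψ e f := by
    have h := h0 (e + κ₀ • f) (by
      simp only [hd_add_left, hd_add_right, hd_smul_left, hd_smul_right, he, hf, hef, hfe, hκ]; ring)
    simp only [hal, har, hsl, hsr, hee, hff, hκ, smul_zero, add_zero, zero_add, neg_smul] at h
    have h' : κ₀ • (Ψ f e - Ψ e f) = 0 := by rw [smul_sub, ← h]; abel
    exact sub_eq_zero.1 ((smul_eq_zero.1 h').resolve_left hκ0)
  -- cross terms and squares orthogonal to the pair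
  have hperp : ∀ e f : κ → F, hd τ e e = 0 → hd τ f f = 0 → hd τ e f = 1 → Ψ e e = 0 → Ψ f f = 0 →
      Ψ f e = Ψ e f → ∀ r, hd τ r e = 0 → hd τ r f = 0 → Ψ f r = 0 ∧ Ψ r f = 0 := by
    intro e f he hf hef hee hff hX
    have hfe : hd τ f e = 1 := hd_one hτ hef
    have hsym : ∀ r, hd τ r e = 0 → hd τ r f = 0 → Ψ f r = Ψ r f := by
      intro r hre hrf
      obtain ⟨a, ha⟩ := hτ.exists_trace (c := -hd τ r r) (by rw [map_neg, hτ.self_fixed])
      have hv : ∀ a : F, a + τ a = -hd τ r r →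
          τ a • Ψ e f + a • Ψ e f + Ψ e r + Ψ r e + a • Ψ f r + τ a • Ψ r f + Ψ r r = 0 := fun a ha => by
        have h := h0 (e + a • f + r) (by
          simp only [hd_add_left, hd_add_right, hd_smul_left, hd_smul_right, he, hf, hef, hfe, hre, hrf,
            hτ.hd_symm_zero hre, hτ.hd_symm_zero hrf]
          linear_combination ha)
        simp only [hal, har, hsl, hsr, hee, hff, hX, smul_zero, add_zero, zero_add] at h
        rw [← h]; abel
      have h1 := hv a ha
      have h2 := hv (a + κ₀) (by rw [map_add, hκ]; linear_combination ha)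
      simp only [map_add, hκ, add_smul, neg_smul] at h2
      have h' : κ₀ • (Ψ f r - Ψ r f) = 0 := by
        have h3 := sub_eq_zero.2 (h2.trans h1.symm)
        rw [← h3, smul_sub]; abel
      exact sub_eq_zero.1 ((smul_eq_zero.1 h').resolve_left hκ0)
    intro r hre hrf
    have h1 := hsym r hre hrf
    have h2 := hsym (μ • r) (by rw [hd_smul_left, hre, mul_zero]) (by rw [hd_smul_left, hrf, mul_zero])
    rw [hsr, hsl, h1, ← sub_eq_zero, ← sub_smul] at h2
    have h3 := (smul_eq_zero.1 h2).resolve_left (sub_ne_zero.2 hμ)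
    exact ⟨h1.trans h3, h3⟩
  have hdiag : ∀ r, hd τ r e = 0 → hd τ r f = 0 → Ψ r r = hd τ r r • Ψ e f := by
    intro r hre hrf
    obtain ⟨a, ha⟩ := hτ.exists_trace (c := -hd τ r r) (by rw [map_neg, hτ.self_fixed])
    obtain ⟨h1, h2⟩ := hperp e f he hf hef hee hff hX r hre hrf
    obtain ⟨h3, h4⟩ := hperp f e hf he hfe hff hee hX.symm r hrf hre
    have h := h0 (e + a • f + r) (by
      simp only [hd_add_left, hd_add_right, hd_smul_left, hd_smul_right, he, hf, hef, hfe, hre, hrf,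
        hτ.hd_symm_zero hre, hτ.hd_symm_zero hrf]
      linear_combination ha)
    simp only [hal, har, hsl, hsr, hee, hff, hX, h1, h2, h3, h4, smul_zero, add_zero, zero_add] at h
    rw [← add_smul, add_comm (τ a), ha, neg_smul, neg_add_eq_zero] at h
    exact h.symm
  have hpol : ∀ r r', hd τ r e = 0 → hd τ r f = 0 → hd τ r' e = 0 → hd τ r' f = 0 →
      Ψ r r' = hd τ r r' • Ψ e f := by
    intro r r' hre hrf hre' hrf'
    have hm : ∀ c : F, τ c • (Ψ r r' - hd τ r r' • Ψ e f) + c • (Ψ r' r - hd τ r' r • Ψ e f) = 0 := fun c => by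
      have h := hdiag (r + c • r') (by rw [hd_add_left, hd_smul_left, hre, hre', mul_zero, add_zero])
        (by rw [hd_add_left, hd_smul_left, hrf, hrf', mul_zero, add_zero])
      simp only [hal, har, hsl, hsr, hd_add_left, hd_add_right, hd_smul_left, hd_smul_right, hdiag r hre hrf,
        hdiag r' hre' hrf', add_smul, smul_smul, mul_add] at h
      rw [← sub_eq_zero] at h
      rw [smul_sub, smul_sub, smul_smul, smul_smul, ← h, mul_left_comm (τ c) c]
      abel
    have h1 := hm 1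
    rw [map_one, one_smul, one_smul, add_eq_zero_iff_neg_eq] at h1
    have h2 := hm μ
    rw [← h1, smul_neg, ← sub_eq_add_neg, ← sub_smul] at h2
    exact sub_eq_zero.1 ((smul_eq_zero.1 h2).resolve_left (sub_ne_zero.2 hμ))
  obtain ⟨a, b, r, rfl, hre, hrf⟩ := exists_split hτ he hf hef y
  obtain ⟨a', b', r', rfl, hre', hrf'⟩ := exists_split hτ he hf hef z
  obtain ⟨h1, h2⟩ := hperp e f he hf hef hee hff hX r hre hrf
  obtain ⟨h3, h4⟩ := hperp f e hf he hfe hff hee hX.symm r hrf hre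
  obtain ⟨h1', h2'⟩ := hperp e f he hf hef hee hff hX r' hre' hrf'
  obtain ⟨h3', h4'⟩ := hperp f e hf he hfe hff hee hX.symm r' hrf' hre'
  simp only [hal, har, hsl, hsr, hee, hff, hX, h2, h4, h1', h3', hpol r r' hre hrf hre' hrf', hd_add_left,
    hd_add_right, hd_smul_left, hd_smul_right, he, hf, hef, hfe, hre, hrf, hτ.hd_symm_zero hre', hτ.hd_symm_zero hrf',
    smul_zero, add_zero, zero_add, mul_zero, smul_smul, add_smul, mul_one]
  simp only [mul_comm (τ a'), mul_comm (τ b')]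
  abel

/-- A space of matrices closed under products and containing enough rank one operators is everything. -/
theorem span_top [DecidableEq κ] {e f : κ → F} (he : hd τ e e = 0) (hf : hd τ f f = 0) (hef : hd τ e f = 1)
    {K : Submodule F (Matrix κ κ F)} (hmul : ∀ a ∈ K, ∀ b ∈ K, a * b ∈ K) (hKe : ov τ e e ∈ K) (hKf : ov τ f f ∈ K)
    (hr : ∀ r, r ≠ 0 → hd τ r e = 0 → hd τ r f = 0 →
      ∃ a b : F, (a ≠ 0 ∨ b ≠ 0) ∧ ov τ (a • e + b • f + r) (a • e + b • f + r) ∈ K) : K = ⊤ := by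
  have hfe : hd τ f e = 1 := hd_one hτ hef
  have hKef : ov τ e f ∈ K := by
    have h := hmul _ hKe _ hKf
    rwa [ov_mul, hfe, one_smul] at h
  have hKfe : ov τ f e ∈ K := by
    have h := hmul _ hKf _ hKe
    rwa [ov_mul, hef, one_smul] at h
  have key : ∀ r, hd τ r e = 0 → hd τ r f = 0 → ov τ e r ∈ K ∧ ov τ r e ∈ K := by
    intro r hre hrf
    rcases eq_or_ne r 0 with rfl | hr0
    · rw [ov_zero_left, ov_zero_right]; exact ⟨zero_mem _, zero_mem _⟩
    obtain ⟨a, b, hab, hv⟩ := hr r hr0 hre hrf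
    set v := a • e + b • f + r with hvd
    have hve : hd τ v e = b := by
      simp only [hvd, hd_add_left, hd_smul_left, he, hfe, hre]; ring
    have hvf : hd τ v f = a := by
      simp only [hvd, hd_add_left, hd_smul_left, hf, hef, hrf]; ring
    have hev : ov τ e v ∈ K ∧ ov τ v e ∈ K := by
      by_cases hb : b = 0
      · have ha := hab.resolve_right (not_not.2 hb)
        have h1 := K.smul_mem a⁻¹ (hmul _ hKf _ hv)
        rw [ov_mul, hvf, smul_smul, inv_mul_cancel₀ ha, one_smul] at h1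
        have h2 := K.smul_mem (τ a)⁻¹ (hmul _ hv _ hKf)
        rw [ov_mul, ← hτ.hd_conj v f, hvf, smul_smul, inv_mul_cancel₀ ((map_ne_zero τ).2 ha), one_smul] at h2
        refine ⟨?_, ?_⟩
        · have h := hmul _ hKe _ h1
          rwa [ov_mul, hfe, one_smul] at h
        · have h := hmul _ h2 _ hKe
          rwa [ov_mul, hef, one_smul] at h
      · have h1 := K.smul_mem b⁻¹ (hmul _ hKe _ hv)
        rw [ov_mul, hve, smul_smul, inv_mul_cancel₀ hb, one_smul] at h1
        have h2 := K.smul_mem (τ b)⁻¹ (hmul _ hv _ hKe)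
        rw [ov_mul, ← hτ.hd_conj v e, hve, smul_smul, inv_mul_cancel₀ ((map_ne_zero τ).2 hb), one_smul] at h2
        exact ⟨h1, h2⟩
    refine ⟨?_, ?_⟩
    · have e1 : ov τ e r = ov τ e v - τ a • ov τ e e - τ b • ov τ e f := by
        simp only [hvd, ov_add_right, ov_smul_right]; abel
      rw [e1]; exact sub_mem (sub_mem hev.1 (K.smul_mem _ hKe)) (K.smul_mem _ hKef)
    · have e1 : ov τ r e = ov τ v e - a • ov τ e e - b • ov τ f e := by
        simp only [hvd, ov_add_left, ov_smul_left]; abel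
      rw [e1]; exact sub_mem (sub_mem hev.2 (K.smul_mem _ hKe)) (K.smul_mem _ hKfe)
  have hex : ∀ x, ov τ e x ∈ K ∧ ov τ x e ∈ K := fun x => by
    obtain ⟨a, b, r, rfl, hre, hrf⟩ := exists_split hτ he hf hef x
    obtain ⟨h1, h2⟩ := key r hre hrf
    simp only [ov_add_right, ov_smul_right, ov_add_left, ov_smul_left]
    exact ⟨add_mem (add_mem (K.smul_mem _ hKe) (K.smul_mem _ hKef)) h1,
      add_mem (add_mem (K.smul_mem _ hKe) (K.smul_mem _ hKfe)) h2⟩
  have hall : ∀ x y, ov τ x y ∈ K := fun x y => by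
    have h1 := hmul _ hKf _ (hex y).1
    rw [ov_mul, hef, one_smul] at h1
    have h2 := hmul _ (hex x).2 _ h1
    rwa [ov_mul, hfe, one_smul] at h2
  rw [eq_top_iff]
  intro A _
  rw [Matrix.matrix_eq_sum_single A]
  exact sum_mem fun i _ => sum_mem fun j _ => by rw [single_eq_ov (τ := τ)]; exact K.smul_mem _ (hall _ _)

/-- Transvections are transitive on isotropic vectors of a nondegenerate subspace. -/
theorem iso_trans [Fintype F] (S : Submodule F (κ → F)) (hnd : ∀ x ∈ S, x ≠ 0 → ∃ y ∈ S, hd τ x y ≠ 0)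
    (h3 : 3 ≤ Module.finrank F S) {P : (κ → F) → Prop}
    (hP : ∀ x v (k : F), x ∈ S → v ∈ S → hd τ x x = 0 → hd τ v v = 0 → τ k = -k → P x →
      P (x + (k * hd τ x v) • v))
    {a b : κ → F} (ha : a ∈ S) (hb : b ∈ S) (ha0 : a ≠ 0) (hb0 : b ≠ 0) (haa : hd τ a a = 0) (hbb : hd τ b b = 0)
    (h : P a) : P b := by
  classical
  have step1 : ∀ a b, a ∈ S → b ∈ S → hd τ a a = 0 → hd τ b b = 0 → hd τ a b ≠ 0 →
      τ (hd τ a b) = -hd τ a b → P a → P b := by
    intro a b ha hb haa hbb hc hcs h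
    have hba : hd τ b a = -hd τ a b := by rw [← hτ.hd_conj, hcs]
    have h' := hP a (b - a) (hd τ a b)⁻¹ ha (sub_mem hb ha) haa
      (by simp only [hd_sub_left, hd_sub_right, haa, hbb, hba]; ring) (by rw [map_inv₀, hcs, inv_neg]) h
    rwa [hd_sub_right, haa, sub_zero, inv_mul_cancel₀ hc, one_smul, add_sub_cancel] at h'
  obtain ⟨κ₀, hκ0, hκ⟩ := hτ.exists_skew
  have step2 : ∀ a b, a ∈ S → b ∈ S → hd τ a a = 0 → hd τ b b = 0 → hd τ a b ≠ 0 → P a → P b := by
    intro a b ha hb haa hbb hc h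
    have hc' : hd τ b a ≠ 0 := fun e => hc (hτ.hd_symm_zero e)
    obtain ⟨y, hy, hya, hyb, hyy⟩ : ∃ y ∈ S, hd τ y a = 0 ∧ hd τ y b = 0 ∧ hd τ y y ≠ 0 := by
      by_contra hcon
      push Not at hcon
      set P' := S ⊓ perp τ ![a, b]
      have hts : ∀ y ∈ P', hd τ y y = 0 := fun y hy => hcon y hy.1 (mem_perp.1 hy.2 0) (mem_perp.1 hy.2 1)
      have hproj : ∀ x ∈ S, x - (hd τ x b / hd τ a b) • a - (hd τ x a / hd τ b a) • b ∈ P' := fun x hx => by
        refine ⟨sub_mem (sub_mem hx (S.smul_mem _ ha)) (S.smul_mem _ hb), mem_perp.2 fun i => ?_⟩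
        fin_cases i
        · show hd τ _ a = 0
          simp only [hd_sub_left, hd_smul_left, haa, div_mul_cancel₀ _ hc']; ring
        · show hd τ _ b = 0
          simp only [hd_sub_left, hd_smul_left, hbb, div_mul_cancel₀ _ hc]; ring
      have hzero : ∀ x ∈ S, x - (hd τ x b / hd τ a b) • a - (hd τ x a / hd τ b a) • b = 0 := fun x hx => by
        by_contra hne
        obtain ⟨y, hy, hxy⟩ := hnd _ (hproj x hx).1 hne
        refine hxy ?_
        have h1 := hτ.polar hts (hproj x hx) (hproj y hy)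
        rw [hd_sub_right, hd_sub_right, hd_smul_right, hd_smul_right] at h1
        have ha' : hd τ _ a = 0 := mem_perp.1 (hproj x hx).2 0
        have hb' : hd τ _ b = 0 := mem_perp.1 (hproj x hx).2 1
        rwa [ha', hb', mul_zero, mul_zero, sub_zero, sub_zero] at h1
      have hle : S ≤ Submodule.span F ({a, b} : Set (κ → F)) := fun x hx => by
        refine Submodule.mem_span_pair.2 ⟨hd τ x b / hd τ a b, hd τ x a / hd τ b a, ?_⟩
        have e := sub_eq_zero.1 ((sub_sub _ _ _).symm.trans (hzero x hx))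
        exact e.symm
      have h2 : Module.finrank F S ≤ ({a, b} : Finset (κ → F)).card := by
        refine (Submodule.finrank_mono hle).trans ?_
        have h := finrank_span_finset_le_card (R := F) (M := κ → F) ({a, b} : Finset (κ → F))
        rw [Finset.coe_pair] at h
        exact h
      have h4 : ({a, b} : Finset (κ → F)).card ≤ 2 := Finset.card_le_two
      omega
    have hay : hd τ a y = 0 := hτ.hd_symm_zero hya
    have hby : hd τ b y = 0 := hτ.hd_symm_zero hyb
    set c := hd τ a b with hcd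
    have hbac : hd τ b a = τ c := (hτ.hd_conj a b).symm
    set α := κ₀ / c with hα
    set β := τ (κ₀ / c) with hβ
    have hτβ : τ β = α := hτ.invol _
    obtain ⟨γ, hγ⟩ := hτ.exists_norm (c := -(α * α * c + τ (α * α * c)) / hd τ y y) (by
      rw [map_div₀, map_neg, map_add, hτ.invol, hτ.self_fixed, add_comm])
    have hγ' : γ * τ γ * hd τ y y = -(α * α * c + τ (α * α * c)) := by rw [hγ, div_mul_cancel₀ _ hyy]
    set z := α • a + β • b + γ • y with hz
    have hzS : z ∈ S := add_mem (add_mem (S.smul_mem _ ha) (S.smul_mem _ hb)) (S.smul_mem _ hy)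
    have hzz : hd τ z z = 0 := by
      simp only [hz, hd_add_left, hd_add_right, hd_smul_left, hd_smul_right, haa, hbb, hbac, hya, hyb, hay, hby,
        hτβ, ← hcd]
      simp only [map_mul] at hγ'
      linear_combination hγ'
    have haz : hd τ a z = κ₀ := by
      simp only [hz, hd_add_right, hd_smul_right, haa, hay, hτβ, ← hcd]
      rw [hα, div_mul_cancel₀ _ hc]; ring
    have hzb : hd τ z b = κ₀ := by
      simp only [hz, hd_add_left, hd_smul_left, hbb, hyb, ← hcd]
      rw [hα, div_mul_cancel₀ _ hc]; ring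
    exact step1 z b hzS hb hzz hbb (hzb ▸ hκ0) (by rw [hzb, hκ])
      (step1 a z ha hzS haa hzz (haz ▸ hκ0) (by rw [haz, hκ]) h)
  by_cases hc : hd τ a b ≠ 0
  · exact step2 a b ha hb haa hbb hc h
  rw [not_not] at hc
  have partner : ∀ a ∈ S, a ≠ 0 → hd τ a a = 0 → ∃ y ∈ S, hd τ y y = 0 ∧ hd τ a y ≠ 0 := by
    intro a ha ha0 haa
    obtain ⟨y, hy, hay⟩ := hnd a ha ha0
    obtain ⟨l, hl⟩ := hτ.exists_trace (c := -hd τ y y) (by rw [map_neg, hτ.self_fixed])
    refine ⟨y + (l / hd τ a y) • a, add_mem hy (S.smul_mem _ ha), ?_, ?_⟩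
    · simp only [hd_add_left, hd_add_right, hd_smul_left, hd_smul_right, haa, mul_zero, add_zero,
        div_mul_cancel₀ _ hay]
      rw [show τ (l / hd τ a y) * hd τ y a = τ l by
        rw [← hτ.hd_conj a y, ← map_mul, div_mul_cancel₀ _ hay]]
      linear_combination hl
    · rw [hd_add_right, hd_smul_right, haa, mul_zero, add_zero]; exact hay
  obtain ⟨P₁, hP₁, hP₁₁, haP⟩ := partner a ha ha0 haa
  obtain ⟨P₂, hP₂, hP₂₂, hbP⟩ := partner b hb hb0 hbb
  obtain ⟨w, hw, hww, haw, hwb⟩ : ∃ w ∈ S, hd τ w w = 0 ∧ hd τ a w ≠ 0 ∧ hd τ w b ≠ 0 := by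
    by_cases h1 : hd τ P₁ b ≠ 0
    · exact ⟨P₁, hP₁, hP₁₁, haP, h1⟩
    by_cases h2 : hd τ a P₂ ≠ 0
    · exact ⟨P₂, hP₂, hP₂₂, h2, fun e => hbP (hτ.hd_symm_zero e)⟩
    rw [not_not] at h1 h2
    obtain ⟨σ, hσ0, hσ⟩ : ∃ σ : F, σ ≠ 0 ∧ τ σ * hd τ P₁ P₂ + σ * hd τ P₂ P₁ = 0 := by
      by_cases h3 : hd τ P₁ P₂ = 0
      · exact ⟨1, one_ne_zero, by rw [h3, hτ.hd_symm_zero h3]; ring⟩
      · refine ⟨τ (κ₀ / hd τ P₁ P₂), (map_ne_zero τ).2 (div_ne_zero hκ0 h3), ?_⟩
        rw [hτ.invol, ← hτ.hd_conj P₁ P₂, ← map_mul, div_mul_cancel₀ _ h3, hκ, add_neg_cancel]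
    refine ⟨P₁ + σ • P₂, add_mem hP₁ (S.smul_mem _ hP₂), ?_, ?_, ?_⟩
    · simp only [hd_add_left, hd_add_right, hd_smul_left, hd_smul_right, hP₁₁, hP₂₂]
      linear_combination hσ
    · rw [hd_add_right, hd_smul_right, h2, mul_zero, add_zero]; exact haP
    · rw [hd_add_left, hd_smul_left, h1, zero_add]
      exact mul_ne_zero hσ0 fun e => hbP (hτ.hd_symm_zero e)
  exact step2 w b hw hb hww hbb hwb (step2 a w ha hw haa hww haw h)

end vectors

/-! ### Transvections of one slot -/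

/-- A unitary transvection of the slot. -/
def tu (τ : F ≃+* F) (v : Fin m → F) (h : hd τ v v = 0) (k : F) : GL (Fin m) F where
  val := 1 + k • ov τ v v
  inv := 1 - k • ov τ v v
  val_inv := by
    rw [add_mul, one_mul, mul_sub, mul_one, Matrix.smul_mul, Matrix.mul_smul, ov_mul, h, zero_smul, smul_zero, smul_zero,
      sub_zero, sub_add_cancel]
  inv_val := by
    rw [sub_mul, one_mul, mul_add, mul_one, Matrix.smul_mul, Matrix.mul_smul, ov_mul, h, zero_smul, smul_zero, smul_zero,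
      add_zero, add_sub_cancel_right]

theorem tu_val (v : Fin m → F) (h : hd τ v v = 0) (k : F) :
    (tu τ v h k : Matrix (Fin m) (Fin m) F) = qr τ v k := rfl

theorem tu_mem (hτ : Conj τ) (v : Fin m → F) (h : hd τ v v = 0) {k : F} (hk : τ k = -k) :
    tu τ v h k ∈ UG τ (Fin m) := by
  rw [mem_UG, tu_val]
  exact (TensorMax.Unitary.isIso_qr hτ (by rw [hk, h]; ring)).hadj_mul_self hτ

theorem tu_det (v : Fin m → F) (h : hd τ v v = 0) (k : F) :
    (tu τ v h k : Matrix (Fin m) (Fin m) F).det = 1 := by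
  rw [tu_val, TensorMax.Unitary.det_qr, h, mul_zero, add_zero]

theorem tu_mulVec (v : Fin m → F) (h : hd τ v v = 0) (k : F) (x : Fin m → F) :
    (tu τ v h k : Matrix (Fin m) (Fin m) F) *ᵥ x = x + (k * hd τ x v) • v :=
  TensorMax.Unitary.qr_mulVec v k x

/-- The special unitary group of a slot is transitive on isotropic vectors. -/
theorem exists_slot_move [Fintype F] (hτ : Conj τ) (hm : 3 ≤ m) {a b : Fin m → F} (ha : a ≠ 0) (hb : b ≠ 0)
    (haa : hd τ a a = 0) (hbb : hd τ b b = 0) :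
    ∃ A ∈ UG τ (Fin m), (A : Matrix (Fin m) (Fin m) F).det = 1 ∧ (A : Matrix (Fin m) (Fin m) F) *ᵥ a = b := by
  refine iso_trans hτ ⊤ (fun x _ hx => ?_) (by rw [finrank_top, Module.finrank_fintype_fun_eq_card, Fintype.card_fin]; exact hm)
    (P := fun x => ∃ A ∈ UG τ (Fin m), (A : Matrix (Fin m) (Fin m) F).det = 1 ∧ (A : Matrix (Fin m) (Fin m) F) *ᵥ a = x)
    ?_ trivial trivial ha hb haa hbb ⟨1, one_mem _, by simp, by simp⟩
  · by_contra hcon
    push Not at hcon
    exact hx (hτ.eq_zero_of_forall fun y => hcon y trivial)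
  · rintro x v k - - - hv hk ⟨A, hA, hd1, rfl⟩
    exact ⟨tu τ v hv k * A, mul_mem (tu_mem hτ v hv hk) hA, by rw [Units.val_mul, Matrix.det_mul, tu_det, hd1, one_mul],
      by rw [Units.val_mul, ← Matrix.mulVec_mulVec, tu_mulVec]⟩

/-- A hyperbolic pair of the slot. -/
theorem exists_pair [Fintype F] (hτ : Conj τ) (hm : 3 ≤ m) :
    ∃ e f : Fin m → F, hd τ e e = 0 ∧ hd τ f f = 0 ∧ hd τ e f = 1 ∧ e ≠ 0 ∧ f ≠ 0 := by
  obtain ⟨e, he0, he, -⟩ := hτ.exists_isotropic_perp (fun i : Fin 0 => (0 : Fin m → F)) (by simp; omega)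
  obtain ⟨f, hf, hef⟩ := hτ.exists_partner he0 he
  exact ⟨e, f, he, hf, hef, he0, fun h => by rw [h, hd_zero_right] at hef; exact zero_ne_one hef⟩

/-- A root of the unitary group of a slot. -/
def IsRootU (τ : F ≃+* F) (i : Fin s) (N : TMat F m s) : Prop :=
  ∃ (v : Fin m → F) (k : F), v ≠ 0 ∧ hd τ v v = 0 ∧ k ≠ 0 ∧ τ k = -k ∧ N = slot i (k • ov τ v v)

theorem IsRootU.isRoot {i : Fin s} {N : TMat F m s} (h : IsRootU τ i N) : IsRoot i N := by
  obtain ⟨v, k, hv, hvv, hk0, -, rfl⟩ := h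
  refine ⟨k • v, ⇑τ ∘ v, smul_ne_zero hk0 hv, fun e => hv (funext fun a => (map_eq_zero τ).1 (congrFun e a)), ?_, by
    rw [Matrix.smul_vecMulVec]; rfl⟩
  rw [dotProduct_smul, dotProduct_comm]
  exact mul_eq_zero_of_right k hvv

end CfsgLib.TensorWreathSU
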