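import Cfsg.Agent.Lib.TensorWreathSU.Spread
import Cfsg.Agent.Lib.TensorMax.Unitary.Main

/-!
The tensor wreath group meets the special unitary group in a maximal subgroup.
-/

set_option autoImplicit false
set_option linter.unusedSectionVars false

namespace CfsgLib.TensorWreathSU

open Cfsg Cfsg.Geo CfsgLib.Aschbacher CfsgLib.AschbacherForm CfsgLib.TensorWreath CfsgLib.TensorWreathSL
open CfsgLib.TensorMax.Unitary (Conj hd hd_add_left hd_add_right hd_smul_left hd_smul_right hd_zero_left)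
open CfsgLib.Maximal (tv tv_mulVec fvec suGL UFull)
open scoped Matrix MatrixGroups

variable {F : Type*} [Field F] [Fintype F] {m s : ℕ} [NeZero m] {τ : F ≃+* F}

/-- The special unitary group of the standard form of a tensor power. -/
abbrev SUT (τ : F ≃+* F) (m s : ℕ) : Subgroup (GL (Fin s → Fin m) F) :=
  UG τ (Fin s → Fin m) ⊓ specialLinear (Fin s → Fin m) F

/-- A group over the stabiliser is inside the tensor wreath group or contains all transvections. -/
theorem le_std_or_pt (hτ : Conj τ) (hm : 3 ≤ m) (hbig : Big τ m) {M : Subgroup (GL (Fin (s + 1) → Fin m) F)}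
    (hHM : Std F m (s + 1) ⊓ SUT τ m (s + 1) ≤ M) (hMG : M ≤ SUT τ m (s + 1)) :
    M ≤ Std F m (s + 1) ∨ ∀ z, hd τ z z = 0 → Pt τ M z := by
  have hug : M ≤ UG τ (Fin (s + 1) → Fin m) := hMG.trans inf_le_left
  have hsu : ∀ i (A : GL (Fin m) F), A ∈ UG τ (Fin m) → (A : Matrix (Fin m) (Fin m) F).det = 1 → slotGL i A ∈ M :=
    fun i A hA h => hHM ⟨slotGL_mem i A, slotGL_UG hA, slotGL_mem_sl i h⟩
  by_cases hnr : ∀ i, NR τ M i
  · exact Or.inl (le_std hm hbig s M ⟨hτ, hug, hsu, hnr⟩)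
  simp only [NR] at hnr
  push Not at hnr
  obtain ⟨i, v, k, hv0, hv, hk0, -, C, hC, hCM, hn⟩ := hnr
  exact Or.inr fun z hz => pt_of_twist hm hbig
    ⟨hτ, hug, hsu, fun a b c _ _ _ => hHM ⟨permGL_mem _, permGL_UG _, permGL_cyc_mem_sl a b c⟩⟩
    hv0 hv hk0 hC hn hCM hz

/-- A transvection outside the tensor wreath group. -/
theorem exists_pt_notMem_std (hτ : Conj τ) (hm : 3 ≤ m) (hs : 0 < s) {M : Subgroup (GL (Fin (s + 1) → Fin m) F)}
    (h : ∀ z, hd τ z z = 0 → Pt τ M z) : ∃ g ∈ M, g ∉ Std F m (s + 1) := by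
  classical
  obtain ⟨e, f, he, hf, hef, he0, hf0⟩ := exists_pair (F := F) (m := m) hτ hm
  have hfe := hd_one hτ hef
  obtain ⟨p, hpe, hpf, hpp⟩ := exists_mid hτ hm he hf hef
  obtain ⟨κ, hκ0, hκ⟩ := hτ.exists_skew
  set E : (Fin (s + 1) → Fin m) → F := pv fun _ => e
  have hEE : hd τ E E = 0 := by rw [hd_pv]; exact Finset.prod_eq_zero (Finset.mem_univ 0) he
  obtain ⟨g, hg, eg⟩ := h E hEE κ hκ
  refine ⟨g, hg, fun hstd => ?_⟩
  obtain ⟨π, A, -, hrep⟩ := exists_rep_of_std hstd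
  obtain ⟨a', ha'⟩ := hrep 0 (ov τ f f)
  -- probe vectors
  set μ : F := -(hd τ p p)⁻¹
  have hμ : τ μ = μ := by simp only [μ, map_neg, map_inv₀, hτ.self_fixed]
  set z₀ := e + p
  set y₀ := f + μ • p
  have hzy : hd τ z₀ y₀ = 0 := by
    simp only [z₀, y₀, hd_add_left, hd_add_right, hd_smul_right, hef, hpf, hτ.hd_symm_zero hpe, hμ]
    simp only [μ]
    linear_combination -(mul_inv_cancel₀ hpp)
  have hzf : hd τ z₀ f = 1 := by simp only [z₀, hd_add_left, hef, hpf, add_zero]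
  have hey : hd τ e y₀ = 1 := by
    simp only [y₀, hd_add_right, hd_smul_right, hef, hτ.hd_symm_zero hpe, mul_zero, add_zero]
  have hze : hd τ z₀ e = 0 := by simp only [z₀, hd_add_left, he, hpe, add_zero]
  set Z : Fin (s + 1) → Fin m → F := fun j => if j = 0 then z₀ else f
  set Y : Fin (s + 1) → Fin m → F := fun j => if j = 0 then y₀ else f
  obtain ⟨j₁, hj₁⟩ : ∃ j : Fin (s + 1), j ≠ 0 := ⟨⟨1, by omega⟩, fun e' => by simp [Fin.ext_iff] at e'⟩
  set N := κ • ov τ E E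
  have hNN : N * N = 0 := by
    simp only [N, Matrix.smul_mul, Matrix.mul_smul, ov_mul, hEE, zero_smul, smul_zero]
  have egi : (↑g⁻¹ : TMat F m (s + 1)) = 1 - N := by
    refine left_inv_eq_right_inv (Units.inv_mul g) ?_
    rw [eg, add_mul, one_mul, mul_sub, mul_one, hNN, sub_zero, sub_add_cancel]
  have e1 : hd τ (slot (π 0) a' *ᵥ pv Z) (pv Y) = 0 := by
    rw [slot_mulVec_pv, hd_pv]
    obtain ⟨l, hl, hl'⟩ : ∃ l, l ≠ π 0 ∧ hd τ (Z l) (Y l) = 0 := by
      by_cases hp : π 0 = 0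
      · exact ⟨j₁, fun h' => hj₁ (h'.trans hp), by simp [Z, Y, hj₁, hf]⟩
      · exact ⟨0, Ne.symm hp, by simp [Z, Y, hzy]⟩
    exact Finset.prod_eq_zero (Finset.mem_univ l) (by rw [Function.update_of_ne hl]; exact hl')
  rw [← ha', cj_apply, eg, egi] at e1
  have hS0 : ∀ v : Fin (s + 1) → Fin m → F, (∀ j, j ≠ 0 → v j = f) →
      hd τ (slot 0 (ov τ f f) *ᵥ pv v) (pv Y) = 0 := fun v hv => by
    rw [slot_mulVec_pv, hd_pv]
    exact Finset.prod_eq_zero (Finset.mem_univ j₁) (by simp [hj₁, hv j₁ hj₁, Y, hf])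
  have hN : ∀ v : Fin (s + 1) → Fin m → F, N *ᵥ pv v = (κ * ∏ j, hd τ (v j) e) • E := fun v => by
    rw [Matrix.smul_mulVec, ov_mulVec, smul_smul, hd_pv]
  have hSZ : slot (0 : Fin (s + 1)) (ov τ f f) *ᵥ pv Z = pv fun _ => f := by
    rw [slot_mulVec_pv]
    congr 1
    funext j
    rcases eq_or_ne j 0 with rfl | hj
    · simp [Z, ov_mulVec, hzf]
    · simp [Z, hj]
  have hNZ : N *ᵥ pv Z = 0 := by
    rw [hN, Finset.prod_eq_zero (Finset.mem_univ 0) (by simp [Z, hze]), mul_zero, zero_smul]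
  simp only [Matrix.sub_mulVec, Matrix.add_mulVec, Matrix.add_mul, Matrix.mul_sub, Matrix.one_mul, Matrix.mul_one,
    ← Matrix.mulVec_mulVec, hNZ, Matrix.mulVec_zero, add_zero, sub_zero] at e1
  rw [hSZ, hd_add_left, ← hSZ, hS0 Z (fun j hj => by simp [Z, hj]), zero_add, hSZ, hN, hd_smul_left, hd_pv] at e1
  refine mul_ne_zero (mul_ne_zero hκ0 ?_) ?_ e1
  · simp [hfe]
  · refine Finset.prod_ne_zero_iff.2 fun j _ => ?_
    rcases eq_or_ne j 0 with rfl | hj
    · simp [Y, hey]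
    · simp [Y, hj, hef]

section transport

variable {n q k t : ℕ}

local notation "hh" => Cfsg.hermForm n F q

/-- Coordinates in which the form is standard. -/
theorem exists_frame {τ : F ≃+* F} (hpow : ∀ x, τ x = x ^ q) (hf : IsUnitaryForm τ hh) (hk : 0 < k) (ht : 0 < t)
    (e : Fin n ≃ (Fin t → Fin k)) (P : GL (Fin n) F) {f₁ : (Fin k → F) → (Fin k → F) → F}
    (hf₁ : IsUnitaryFormPow q f₁) (hT : IsTensorPowerFormStructure (fun x : F => x ^ q) hh f₁ e P) :
    ∃ P' : GL (Fin n) F, tensorWreathSubgroup k t e P' = tensorWreathSubgroup k t e P ∧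
      ∀ x y : (Fin t → Fin k) → F,
        hh ((P' : Matrix (Fin n) (Fin n) F) *ᵥ (x ∘ e)) ((P' : Matrix (Fin n) (Fin n) F) *ᵥ (y ∘ e)) = hd τ x y := by
  have hτ : Conj τ := ⟨hf.ne_refl, hf.involutive⟩
  have hf₁' : IsUnitaryForm τ f₁ := ⟨hf.ne_refl, hf.involutive, hf₁.add_left, hf₁.smul_left,
    fun v w => by rw [hpow]; exact hf₁.herm v w, hf₁.nondegenerate⟩
  obtain ⟨c, hc0, hT⟩ := hT
  obtain ⟨Q, hQ⟩ := TensorMax.Unitary.exists_basis hτ hf₁'
  set G : Matrix (Fin t → Fin k) (Fin t → Fin k) F := pure' fun _ => gramMatrix f₁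
  have hGv : ∀ x y : (Fin t → Fin k) → F, hh ((P : Matrix (Fin n) (Fin n) F) *ᵥ (x ∘ e))
      ((P : Matrix (Fin n) (Fin n) F) *ᵥ (y ∘ e)) = c * formOfGram τ G x y := fun x y => by
    rw [hT]
    congr 1
    exact Finset.sum_congr rfl fun a _ => Finset.sum_congr rfl fun b _ => by rw [hpow]; rfl
  have hmulVec : ∀ (A : Fin t → GL (Fin k) F) (x y : (Fin t → Fin k) → F),
      formOfGram τ G ((pureGL A).1 *ᵥ x) ((pureGL A).1 *ᵥ y) = formOfGram τ
        (pure' fun i => (A i : Matrix (Fin k) (Fin k) F)ᵀ * gramMatrix f₁ * (A i : Matrix (Fin k) (Fin k) F).map τ) x y :=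
    fun A x y => by
      have eT : (pureGL A).1ᵀ = pure' fun i => (A i : Matrix (Fin k) (Fin k) F)ᵀ := by
        ext a b
        simp [pureGL, pure']
      have eM : (pureGL A).1.map τ = pure' fun i => (A i : Matrix (Fin k) (Fin k) F).map τ := by
        ext a b
        simp [pureGL, pure', map_prod]
      rw [CfsgLib.Aschbacher.formOfGram_mulVec, eT, eM, pure'_mul, pure'_mul]
  have hone : ∀ x y : (Fin t → Fin k) → F, formOfGram τ (1 : Matrix (Fin t → Fin k) (Fin t → Fin k) F) x y =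
      hd τ x y := fun x y => by
    rw [CfsgLib.Aschbacher.formOfGram_eq, Matrix.one_mulVec]; rfl
  have hcf : τ c = c := by
    let a : Fin t → Fin k := fun _ => ⟨0, hk⟩
    let x : (Fin t → Fin k) → F := (pureGL fun _ : Fin t => Q).1 *ᵥ Pi.single a 1
    have h := hGv x x
    rw [hmulVec] at h
    simp only [hQ, pure'_one, hone, TensorMax.Unitary.hd_single_right, Pi.single_eq_same, map_one, mul_one] at h
    rw [← h, ← hf.herm]
  obtain ⟨σ, hσ⟩ := hτ.exists_norm (c := c⁻¹) (by rw [map_inv₀, hcf])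
  have hσ0 : σ ≠ 0 := fun h => by rw [h, zero_mul, eq_comm, inv_eq_zero] at hσ; exact hc0 hσ
  set i₀ : Fin t := ⟨0, ht⟩
  let Q₀ : GL (Fin k) F := Matrix.GeneralLinearGroup.mkOfDetNeZero (σ • (Q : Matrix (Fin k) (Fin k) F))
    (by rw [Matrix.det_smul]; exact mul_ne_zero (pow_ne_zero _ hσ0) Q.det_ne_zero)
  let A : Fin t → GL (Fin k) F := Function.update (fun _ => Q) i₀ Q₀
  set T := pureGL A
  refine ⟨P * glReindex e.symm T, ?_, fun x y => ?_⟩
  · have hmem : glReindex e.symm T ∈ (tensorWreathStandard k t F).map (glReindex e.symm).toMonoidHom :=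
      ⟨T, pureGL_mem A, rfl⟩
    refine le_antisymm ?_ ?_ <;> rintro _ ⟨g, hg, rfl⟩
    · exact ⟨glReindex e.symm T * g * (glReindex e.symm T)⁻¹, mul_mem (mul_mem hmem hg) (inv_mem hmem),
        by simp [mul_assoc]⟩
    · exact ⟨(glReindex e.symm T)⁻¹ * g * glReindex e.symm T, mul_mem (mul_mem (inv_mem hmem) hg) hmem,
        by simp [mul_assoc]⟩
  · have h2 : ∀ z : (Fin t → Fin k) → F, ((P * glReindex e.symm T : GL (Fin n) F) : Matrix (Fin n) (Fin n) F) *ᵥ
        (z ∘ e) = (P : Matrix (Fin n) (Fin n) F) *ᵥ ((T.1 *ᵥ z) ∘ e) := fun z => by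
      rw [Units.val_mul, ← Matrix.mulVec_mulVec]
      congr 1
      show (T.1.submatrix e e) *ᵥ (z ∘ e) = _
      rw [Matrix.submatrix_mulVec_equiv, Function.comp_assoc, Equiv.self_comp_symm, Function.comp_id]
    have hA : (pure' fun i => (A i : Matrix (Fin k) (Fin k) F)ᵀ * gramMatrix f₁ *
        (A i : Matrix (Fin k) (Fin k) F).map τ) = c⁻¹ • (1 : Matrix (Fin t → Fin k) (Fin t → Fin k) F) := by
      rw [← slot_one (d := k) i₀, ← slot_smul, slot_eq_pure]
      congr 1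
      funext i
      rcases eq_or_ne i i₀ with rfl | hi
      · rw [show A i₀ = Q₀ from Function.update_self .., Function.update_self, ← hσ,
          show (Q₀ : Matrix (Fin k) (Fin k) F) = σ • (Q : Matrix (Fin k) (Fin k) F) from rfl, Matrix.transpose_smul,
          Matrix.smul_mul, Matrix.smul_mul, Matrix.map_smul' _ _ _ (map_mul τ), Matrix.mul_smul, smul_smul, hQ]
      · rw [show A i = Q from Function.update_of_ne hi .., Function.update_of_ne hi, hQ]
    rw [h2, h2, hGv, hmulVec, hA, CfsgLib.Aschbacher.formOfGram_eq, Matrix.smul_mulVec, Matrix.one_mulVec,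
      dotProduct_smul, smul_eq_mul, ← mul_assoc, mul_inv_cancel₀ hc0, one_mul]
    rfl

/-- The stabiliser of a tensor power of a Hermitian space is maximal. -/
theorem maximal_of_equiv (hF : Fintype.card F = q ^ 2) (hn : 4 ≤ n) (hk : 3 ≤ k) (ht : 2 ≤ t)
    (hex : ¬ (q = 2 ∧ k = 3)) (e : Fin n ≃ (Fin t → Fin k)) (P : GL (Fin n) F)
    {f₁ : (Fin k → F) → (Fin k → F) → F} (hf₁ : IsUnitaryFormPow q f₁)
    (hT : IsTensorPowerFormStructure (fun x : F => x ^ q) hh f₁ e P) :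
    IsMaximalIn (suGL n F q) (tensorWreathSubgroup k t e P ⊓ suGL n F q) := by
  obtain ⟨τ, hpow, hf⟩ := CfsgLib.Maximal.exists_hermSigma hF n
  have hτ : Conj τ := ⟨hf.ne_refl, hf.involutive⟩
  obtain ⟨s, rfl⟩ : ∃ s, t = s + 1 := ⟨t - 1, by omega⟩
  haveI : NeZero k := ⟨by omega⟩
  obtain ⟨P', hP', hform⟩ := exists_frame hpow hf (by omega) (by omega) e P hf₁ hT
  rw [← hP']
  have hbig : Big τ k := by
    by_contra hcon
    simp only [Big, not_or, not_exists, not_and, not_le, not_not] at hcon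
    obtain ⟨hfix, h4⟩ := hcon
    refine hex ⟨?_, by omega⟩
    have hone : ∀ x : Fˣ, x ^ (q + 1) = 1 := fun x => Units.ext (by
      have h := hfix (x : F) x.ne_zero
      rw [hpow, ← pow_succ'] at h
      simpa using h)
    have hdvd := (FiniteField.forall_pow_eq_one_iff F (q + 1)).1 hone
    rw [hF] at hdvd
    have hq2 : 2 ≤ q := by
      have := Fintype.one_lt_card (α := F)
      rw [hF] at this
      by_contra h
      interval_cases q <;> simp at this
    have hle := Nat.le_of_dvd (by omega) hdvd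
    by_contra hne
    have h3 : 3 * q ≤ q ^ 2 := by rw [pow_two]; exact Nat.mul_le_mul_right q (by omega)
    have h1 : 1 < q ^ 2 := by omega
    omega
  set φ : GL (Fin (s + 1) → Fin k) F ≃* GL (Fin n) F := (glReindex e.symm).trans (MulAut.conj P') with hφ
  have hH : tensorWreathSubgroup k (s + 1) e P' = (Std F k (s + 1)).map φ.toMonoidHom := by
    rw [tensorWreathSubgroup, Subgroup.map_map]; rfl
  have hact : ∀ (g : GL (Fin (s + 1) → Fin k) F) (x : (Fin (s + 1) → Fin k) → F),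
      ((φ g : GL (Fin n) F) : Matrix (Fin n) (Fin n) F) *ᵥ ((P' : Matrix (Fin n) (Fin n) F) *ᵥ (x ∘ e)) =
        (P' : Matrix (Fin n) (Fin n) F) *ᵥ ((g.1 *ᵥ x) ∘ e) := fun g x => by
    show ((P' * glReindex e.symm g * P'⁻¹ : GL (Fin n) F) : Matrix (Fin n) (Fin n) F) *ᵥ _ = _
    rw [Units.val_mul, Units.val_mul, Matrix.mulVec_mulVec, mul_assoc _ (↑P'⁻¹ : Matrix (Fin n) (Fin n) F),
      Units.inv_mul, mul_one, ← Matrix.mulVec_mulVec]
    congr 1
    show (g.1.submatrix e e) *ᵥ (x ∘ e) = _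
    rw [Matrix.submatrix_mulVec_equiv, Function.comp_assoc, Equiv.self_comp_symm, Function.comp_id]
  have hsurj : ∀ u : Fin n → F, ∃ x, u = (P' : Matrix (Fin n) (Fin n) F) *ᵥ (x ∘ e) := fun u =>
    ⟨((↑P'⁻¹ : Matrix (Fin n) (Fin n) F) *ᵥ u) ∘ e.symm, by
      rw [Function.comp_assoc, Equiv.symm_comp_self, Function.comp_id, Matrix.mulVec_mulVec, Units.mul_inv,
        Matrix.one_mulVec]⟩
  have hGU : ∀ g, φ g ∈ Cfsg.GU n F q ↔ g ∈ UG τ (Fin (s + 1) → Fin k) := fun g => by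
    rw [CfsgLib.Maximal.mem_GU_iff, mem_UG]
    constructor
    · intro h
      refine CfsgLib.Geometry.matrix_eq_of_mulVec fun x => ?_
      rw [Matrix.one_mulVec]
      refine hτ.eq_of_forall fun y => ?_
      have h1 := h ((P' : Matrix (Fin n) (Fin n) F) *ᵥ (x ∘ e)) ((P' : Matrix (Fin n) (Fin n) F) *ᵥ (y ∘ e))
      rw [hact, hact, hform, hform] at h1
      rw [← Matrix.mulVec_mulVec, hd_adj hτ, ad_ad hτ, h1]
    · intro h u v
      obtain ⟨x, rfl⟩ := hsurj u
      obtain ⟨y, rfl⟩ := hsurj v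
      rw [hact, hact, hform, hform]
      exact hd_unitary hτ (mem_UG.2 h) x y
  have hdet : ∀ g, φ g ∈ specialLinear (Fin n) F ↔ g ∈ specialLinear (Fin (s + 1) → Fin k) F := fun g => by
    simp only [specialLinear, MonoidHom.mem_ker, φ, MulEquiv.trans_apply, MulAut.conj_apply, map_mul, map_inv]
    rw [mul_inv_cancel_comm]
    have e' : Matrix.GeneralLinearGroup.det (glReindex e.symm g) = Matrix.GeneralLinearGroup.det g :=
      Units.ext (by simp [glReindex])
    rw [e']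
  have hS : suGL n F q = (SUT τ k (s + 1)).map φ.toMonoidHom := by
    ext x
    obtain ⟨g, rfl⟩ := φ.surjective x
    rw [show φ g = φ.toMonoidHom g from rfl, Subgroup.mem_map_iff_mem φ.injective]
    exact and_congr (hGU g) (hdet g)
  have hfull : ∀ M : Subgroup (GL (Fin (s + 1) → Fin k) F), M ≤ SUT τ k (s + 1) →
      (∀ z, hd τ z z = 0 → Pt τ M z) → SUT τ k (s + 1) ≤ M := by
    intro M _ hpt
    rw [← Subgroup.map_le_map_iff_of_injective φ.injective (f := φ.toMonoidHom), ← hS]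
    refine CfsgLib.Maximal.suGL_le_of_full hf hF hn fun v hv c hc => ?_
    obtain ⟨z, rfl⟩ := hsurj v
    rw [hform] at hv
    obtain ⟨g, hg, eg⟩ := hpt z hv c hc
    have hv' : hh ((P' : Matrix (Fin n) (Fin n) F) *ᵥ (z ∘ e)) ((P' : Matrix (Fin n) (Fin n) F) *ᵥ (z ∘ e)) = 0 := by
      rw [hform, hv]
    refine ⟨CfsgLib.Maximal.un_tv_dot hf hv' c, ?_⟩
    refine ⟨g, hg, Units.ext (CfsgLib.Geometry.matrix_eq_of_mulVec fun u => ?_)⟩
    obtain ⟨x, rfl⟩ := hsurj u
    rw [show φ.toMonoidHom g = φ g from rfl, hact, eg, tv_mulVec, CfsgLib.Maximal.un_dot hf, hform, Matrix.add_mulVec,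
      Matrix.one_mulVec, Matrix.smul_mulVec, ov_mulVec, smul_smul, smul_smul, ← Matrix.mulVec_smul, ← Matrix.mulVec_add,
      mul_comm (hd τ x z)]
    rfl
  rw [hH, hS, ← Subgroup.map_inf_eq _ _ _ φ.injective]
  refine isMaximalIn_map φ ⟨lt_of_le_of_ne inf_le_right fun heq => ?_, fun M hHM hMG => ?_⟩
  · suffices hpt : ∀ z, hd τ z z = 0 → Pt τ (SUT τ k (s + 1)) z by
      obtain ⟨g, hg, hgn⟩ := exists_pt_notMem_std hτ hk (by omega) hpt
      exact hgn (heq.symm ▸ hg : g ∈ Std F k (s + 1) ⊓ SUT τ k (s + 1)).1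
    intro z hz c hc
    have hv' : hh ((P' : Matrix (Fin n) (Fin n) F) *ᵥ (z ∘ e)) ((P' : Matrix (Fin n) (Fin n) F) *ᵥ (z ∘ e)) = 0 := by
      rw [hform, hz]
    obtain ⟨g, hg, eg⟩ := (hS ▸ CfsgLib.Maximal.utv_mem_su hf hv' hc : _ ∈ (SUT τ k (s + 1)).map φ.toMonoidHom)
    refine ⟨g, hg, CfsgLib.Geometry.matrix_eq_of_mulVec fun x => ?_⟩
    have h1 := congrArg (fun a : GL (Fin n) F => (a : Matrix (Fin n) (Fin n) F) *ᵥ
      ((P' : Matrix (Fin n) (Fin n) F) *ᵥ (x ∘ e))) eg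
    simp only [show φ.toMonoidHom g = φ g from rfl, hact, tv_mulVec, CfsgLib.Maximal.un_dot hf, hform, smul_smul,
      ← Matrix.mulVec_smul, ← Matrix.mulVec_add] at h1
    have h2 := Matrix.mulVec_injective_of_isUnit P'.isUnit h1
    rw [Matrix.add_mulVec, Matrix.one_mulVec, Matrix.smul_mulVec, ov_mulVec, smul_smul, mul_comm c]
    funext a
    have h3 := congrFun h2 (e.symm a)
    simpa using h3
  rcases le_std_or_pt hτ hk hbig hHM hMG with h | h
  · exact Or.inl (le_antisymm (le_inf h hMG) hHM)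
  · exact Or.inr (le_antisymm hMG (hfull M hMG h))

end transport

end CfsgLib.TensorWreathSU
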