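import Cfsg.Agent.Lib.TensorWreathSU.Pure

/-!
A unitary group with all transvections at pure isotropic centres has all transvections.
-/

set_option autoImplicit false
set_option linter.unusedSectionVars false

namespace CfsgLib.TensorWreathSU

open Cfsg Cfsg.Geo CfsgLib.Aschbacher CfsgLib.AschbacherForm CfsgLib.TensorWreath CfsgLib.TensorWreathSL
open CfsgLib.TensorMax.Unitary (Conj hd hd_add_left hd_add_right hd_smul_left hd_smul_right hd_sub_left hd_sub_right
  hd_zero_left hd_zero_right hd_neg_left hd_neg_right hd_sum_left hd_single_right)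
open scoped Matrix MatrixGroups

variable {F : Type*} [Field F] [Fintype F] {m s : ℕ} [NeZero m] {τ : F ≃+* F}

/-- Fixed multiples of pure isotropic vectors of product one with a given one. -/
def gens {n : ℕ} (τ : F ≃+* F) (f : Fin m → F) : Set ((Fin n → Fin m) → F) :=
  {x | ∃ (ρ : F) (d : Fin n → Fin m → F), τ ρ = ρ ∧ (∀ j, hd τ (d j) (d j) = 0) ∧
    hd τ (pv d) (pv fun _ => f) = 1 ∧ x = ρ • pv d}

theorem mem_closure_gens (hτ : Conj τ) (hm : 3 ≤ m) {e f : Fin m → F} (he : hd τ e e = 0) (hf : hd τ f f = 0)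
    (hef : hd τ e f = 1) : ∀ (r : ℕ) (ν : F), ν • pv (fun _ : Fin (r + 1) => f) ∈ AddSubgroup.closure (gens τ f) := by
  have hfe := hd_one hτ hef
  obtain ⟨κ, hκ0, hκ⟩ := hτ.exists_skew
  intro r
  induction r with
  | zero =>
    obtain ⟨n, hne, hnf, hnn⟩ := exists_mid hτ hm he hf hef
    obtain ⟨θ, hθ⟩ := hτ.exists_trace (c := (1 : F)) (map_one τ)
    let L : (Fin m → F) → (Fin 1 → Fin m) → F := fun v => pv fun _ => v
    have hL : ∀ v x, L v x = v (x 0) := fun v x => by simp [L, pv]
    have hmem : ∀ (ρ x c : F), τ ρ = ρ → c + τ c + x * τ x * hd τ n n = 0 →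
        ρ • L (e + c • f + x • n) ∈ AddSubgroup.closure (gens τ f) := fun ρ x c hρ hc =>
      AddSubgroup.subset_closure ⟨ρ, fun _ => e + c • f + x • n, hρ, fun _ => by
        simp only [hd_add_left, hd_add_right, hd_smul_left, hd_smul_right, he, hf, hef, hfe, hne, hnf,
          hτ.hd_symm_zero hne, hτ.hd_symm_zero hnf]
        linear_combination hc, by
        rw [hd_pv]
        simp only [hd_add_left, hd_smul_left, hef, hf, hnf, mul_zero, add_zero, Finset.prod_const_one], rfl⟩
    obtain ⟨a, ha⟩ := hτ.exists_trace (c := -hd τ n n) (by rw [map_neg, hτ.self_fixed])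
    obtain ⟨b, hb⟩ := hτ.exists_trace (c := -(θ * τ θ * hd τ n n)) (by
      rw [map_neg, map_mul, map_mul, hτ.invol, hτ.self_fixed]; ring)
    obtain ⟨c, hc⟩ := hτ.exists_trace (c := -((1 + θ) * τ (1 + θ) * hd τ n n)) (by
      rw [map_neg, map_mul, map_mul, hτ.invol, hτ.self_fixed]; ring)
    intro ν
    have htr : a + b - c + τ (a + b - c) = hd τ n n := by
      simp only [map_add, map_sub, map_one] at hc ⊢
      linear_combination ha + hb - hc + hd τ n n * hθ
    set ρ := (ν + τ ν) / hd τ n n with hρd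
    have hρ : τ ρ = ρ := by rw [hρd, map_div₀, map_add, hτ.invol, hτ.self_fixed, add_comm]
    set σ := ν - ρ * (a + b - c)
    have hσ : σ + τ σ = 0 := by
      have h1 : ρ * hd τ n n = ν + τ ν := div_mul_cancel₀ _ hnn
      simp only [σ, map_sub, map_mul, hρ, map_add]
      simp only [map_add, map_sub] at htr
      linear_combination -ρ * htr - h1
    have key : ν • L f = (ρ • L (e + a • f + (1 : F) • n) + ρ • L (e + b • f + θ • n) -
        ρ • L (e + c • f + (1 + θ) • n) - ρ • L (e + (0 : F) • f + (0 : F) • n)) +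
        ((1 : F) • L (e + σ • f + (0 : F) • n) - (1 : F) • L (e + (0 : F) • f + (0 : F) • n)) := by
      funext x
      simp only [Pi.add_apply, Pi.sub_apply, Pi.smul_apply, hL, smul_eq_mul, σ]
      ring
    show ν • L f ∈ _
    rw [key]
    have h00 : (0 : F) + τ 0 + 0 * τ 0 * hd τ n n = 0 := by simp
    refine add_mem (sub_mem (sub_mem (add_mem (hmem ρ 1 a hρ ?_) (hmem ρ θ b hρ ?_)) (hmem ρ _ c hρ ?_))
      (hmem ρ 0 0 hρ h00)) (sub_mem (hmem 1 0 σ (map_one τ) ?_) (hmem 1 0 0 (map_one τ) h00))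
    · rw [map_one]; linear_combination ha
    · linear_combination hb
    · linear_combination hc
    · rw [zero_mul, zero_mul, add_zero, hσ]
  | succ r ih =>
    intro ν
    let T : (Fin m → F) → ((Fin (r + 1) → Fin m) → F) → (Fin (r + 1 + 1) → Fin m) → F := ten 0
    have hT : ∀ a, hd τ a a = 0 → hd τ a f = 1 → ∀ z ∈ AddSubgroup.closure (gens (n := r + 1) τ f),
        T a z ∈ AddSubgroup.closure (gens τ f) := by
      intro a ha haf z hz
      induction hz using AddSubgroup.closure_induction with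
      | mem x h =>
        obtain ⟨ρ, d, hρ, hd0, hd1, rfl⟩ := h
        refine AddSubgroup.subset_closure ⟨ρ, Fin.insertNth 0 a d, hρ, Fin.forall_iff_succAbove 0 |>.2 ⟨?_, ?_⟩, ?_, ?_⟩
        · rw [Fin.insertNth_apply_same]; exact ha
        · intro j; rw [Fin.insertNth_apply_succAbove]; exact hd0 j
        · rw [hd_pv, Fin.prod_univ_succAbove _ 0, Fin.insertNth_apply_same, haf, one_mul]
          rw [hd_pv] at hd1
          rw [← hd1]
          exact Finset.prod_congr rfl fun j _ => by rw [Fin.insertNth_apply_succAbove]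
        · simp only [T, ten_smul, ten_pv]
      | zero => simp only [T, ten, Matrix.mulVec_zero]; exact zero_mem _
      | add x y _ _ hx hy => simp only [T, ten_add]; exact add_mem hx hy
      | neg x _ hx => simp only [T, ten, Matrix.mulVec_neg]; exact neg_mem hx
    have h1 := hT (e + κ • f) (by
      simp only [hd_add_left, hd_add_right, hd_smul_left, hd_smul_right, he, hf, hef, hfe, hκ]; ring) (by
      simp only [hd_add_left, hd_smul_left, hef, hf, mul_zero, add_zero]) _ (ih (ν / κ))
    have h2 := hT e he hef _ (ih (ν / κ))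
    have h3 := sub_mem h1 h2
    convert h3 using 1
    have hins : (Fin.insertNth 0 f fun _ : Fin (r + 1) => f : Fin (r + 1 + 1) → Fin m → F) = fun _ => f :=
      funext ((Fin.forall_iff_succAbove 0).2 ⟨by rw [Fin.insertNth_apply_same],
        fun j => by rw [Fin.insertNth_apply_succAbove]⟩)
    simp only [T, ten_add_left, ten_smul_left, add_sub_cancel_left]
    rw [ten_smul, ten_pv, hins, smul_smul, mul_div_cancel₀ _ hκ0]

variable {M : Subgroup (GL (Fin (s + 1) → Fin m) F)}

/-- Slot elements move the vectors of pure centres. -/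
theorem pt_pv_of (hτ : Conj τ) (hm : 3 ≤ m) {n : ℕ} {M : Subgroup (GL (Fin n → Fin m) F)}
    (hU : M ≤ UG τ (Fin n → Fin m))
    (hsu : ∀ i (A : GL (Fin m) F), A ∈ UG τ (Fin m) → (A : Matrix (Fin m) (Fin m) F).det = 1 → slotGL i A ∈ M)
    {v w : Fin n → Fin m → F} (hv0 : ∀ j, v j ≠ 0) (hv : ∀ j, hd τ (v j) (v j) = 0) (h : Pt τ M (pv v))
    (hw : ∀ j, hd τ (w j) (w j) = 0) : Pt τ M (pv w) := by
  classical
  suffices key : ∀ T : Finset (Fin n), Pt τ M (pv fun j => if j ∈ T then w j else v j) by simpa using key Finset.univ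
  intro T
  induction T using Finset.induction_on with
  | empty => simpa using h
  | @insert a T ha ih =>
    by_cases hw0 : w a = 0
    · rw [pv_zero_of a (by simp [hw0])]; exact Pt.zero
    obtain ⟨A, hA, hA1, e⟩ := exists_slot_move hτ hm (hv0 a) hw0 (hv a) (hw a)
    have h1 := ih.map hU (hsu a A hA hA1)
    rw [slotGL_val, slot_mulVec_pv] at h1
    convert h1 using 2
    funext j
    rcases eq_or_ne j a with rfl | hj <;> simp [*]

/-- Pure centres with one non-singular slot. -/
theorem pt_nonsing (hτ : Conj τ) (hm : 3 ≤ m) {r : ℕ} {M : Subgroup (GL (Fin (r + 1 + 1) → Fin m) F)}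
    (hU : M ≤ UG τ (Fin (r + 1 + 1) → Fin m))
    (hsu : ∀ i (A : GL (Fin m) F), A ∈ UG τ (Fin m) → (A : Matrix (Fin m) (Fin m) F).det = 1 → slotGL i A ∈ M)
    (hG : GoodP τ M) (i : Fin (r + 1 + 1)) {u : Fin m → F} (hu : hd τ u u ≠ 0) {v : Fin (r + 1) → Fin m → F}
    (hv : ∀ j, hd τ (v j) (v j) = 0) : Pt τ M (ten i u (pv v)) := by
  classical
  obtain ⟨e, f, he, hf, hef, he0, hf0⟩ := exists_pair (F := F) (m := m) hτ hm
  have hfe := hd_one hτ hef
  obtain ⟨κ, hκ0, hκ⟩ := hτ.exists_skew
  have hgood : ∀ (a : Fin m → F) (d : Fin (r + 1) → Fin m → F), hd τ a a = 0 → (∀ j, hd τ (d j) (d j) = 0) →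
      Pt τ M (ten i a (pv d)) := fun a d ha hd0 => by
    rw [ten_pv]
    exact hG _ ((Fin.forall_iff_succAbove i).2 ⟨by rw [Fin.insertNth_apply_same]; exact ha,
      fun j => by rw [Fin.insertNth_apply_succAbove]; exact hd0 j⟩)
  set Q : (Fin (r + 1) → Fin m) → F := pv fun _ => f with hQ
  set P : (Fin (r + 1) → Fin m) → F := pv fun _ => e with hP
  have hQQ : hd τ Q Q = 0 := by rw [hQ, hd_pv]; exact Finset.prod_eq_zero (Finset.mem_univ 0) hf
  have hPP : hd τ P P = 0 := by rw [hP, hd_pv]; exact Finset.prod_eq_zero (Finset.mem_univ 0) he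
  have hPQ : hd τ P Q = 1 := by rw [hP, hQ, hd_pv]; simp [hef]
  let X : ((Fin (r + 1) → Fin m) → F) → (Fin (r + 1 + 1) → Fin m) → F := fun p => ten i e p + ten i f Q
  have hXX : ∀ p, hd τ (X p) (X p) = hd τ p Q + τ (hd τ p Q) := fun p => by
    simp only [X, hd_add_left, hd_add_right, hd_ten hτ, he, hf, hef, hfe, hQQ, hτ.hd_conj]
    ring
  let A : ((Fin (r + 1) → Fin m) → F) → Prop := fun δ => τ (hd τ δ Q) = -hd τ δ Q ∧
    ∀ p, τ (hd τ p Q) = -hd τ p Q → Pt τ M (X p) → Pt τ M (X (p + δ))
  have hA : ∀ z ∈ AddSubgroup.closure (gens (n := r + 1) τ f), A (κ • z) ∧ A (-(κ • z)) := by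
    intro z hz
    induction hz using AddSubgroup.closure_induction with
    | mem x h =>
      obtain ⟨ρ, d, hρ, hd0, hd1, rfl⟩ := h
      suffices ∀ ρ : F, τ ρ = ρ → A (κ • ρ • pv d) by
        exact ⟨this ρ hρ, by rw [← smul_neg, ← neg_smul]; exact this (-ρ) (by rw [map_neg, hρ])⟩
      intro ρ hρ
      have hδQ : hd τ (κ • ρ • pv d) Q = κ * ρ := by rw [hd_smul_left, hd_smul_left, hQ, hd1, mul_one]
      have hδs : τ (hd τ (κ • ρ • pv d) Q) = -hd τ (κ • ρ • pv d) Q := by rw [hδQ, map_mul, hκ, hρ, neg_mul]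
      refine ⟨hδs, fun p hp h => ?_⟩
      rcases eq_or_ne ρ 0 with rfl | hρ0
      · simpa using h
      have e1 : X (p + κ • ρ • pv d) = X p + (κ * ρ) • ten i e (pv d) := by
        simp only [X, ten_add, ten_smul, smul_smul]; abel
      rw [e1]
      refine Pt.move hτ hU h ((hgood e d he hd0).smul hτ _) ?_ ?_ ?_ ?_
      · rw [hXX, hp, add_neg_cancel]
      · rw [hd_smul_left, hd_smul_right, hd_ten hτ, he, zero_mul, mul_zero, mul_zero]
      · simp only [X, hd_add_left, hd_smul_right, hd_ten hτ, he, hfe, one_mul, zero_mul, mul_zero, zero_add]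
        refine mul_ne_zero ((map_ne_zero τ).2 (mul_ne_zero hκ0 hρ0)) ?_
        rw [← hτ.hd_conj, hQ, hd1, map_one]
        exact one_ne_zero
      · rw [← e1, hXX, hd_add_left, map_add, hp, hδs]; ring
    | zero => exact ⟨⟨by simp [hd_zero_left], fun p _ h => by simpa using h⟩,
        ⟨by simp [hd_zero_left], fun p _ h => by simpa using h⟩⟩
    | add x y _ _ hx hy =>
      have hadd : ∀ a b, A a → A b → A (a + b) := fun a b ha hb =>
        ⟨by rw [hd_add_left, map_add, ha.1, hb.1, neg_add], fun p hp h => by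
          rw [← add_assoc]
          exact hb.2 _ (by rw [hd_add_left, map_add, hp, ha.1, neg_add]) (ha.2 p hp h)⟩
      rw [smul_add, neg_add]
      exact ⟨hadd _ _ hx.1 hy.1, hadd _ _ hx.2 hy.2⟩
    | neg x _ hx => rw [smul_neg, neg_neg]; exact ⟨hx.2, hx.1⟩
  obtain ⟨μ, hμ⟩ := hτ.exists_trace (c := (1 : F)) (map_one τ)
  have hgen : (μ / κ) • Q - P ∈ AddSubgroup.closure (gens (n := r + 1) τ f) :=
    sub_mem (mem_closure_gens hτ hm he hf hef r _)
      (AddSubgroup.subset_closure ⟨1, fun _ => e, map_one τ, fun _ => he, hPQ, (one_smul _ _).symm⟩)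
  have hPf : hd τ (κ • P) Q = κ := by rw [hd_smul_left, hPQ, mul_one]
  have hstart : Pt τ M (X (κ • P)) := by
    have h1 := (hgood e (fun _ => e) he fun _ => he).smul hτ κ
    rw [← ten_smul] at h1
    exact Pt.move hτ hU h1 (hgood f (fun _ => f) hf fun _ => hf) (by rw [hd_ten hτ, he, zero_mul])
      (by rw [hd_ten hτ, hf, zero_mul]) (by rw [hd_ten hτ, hef, one_mul, hPf]; exact hκ0)
      (by rw [show ten i e (κ • P) + ten i f Q = X (κ • P) from rfl, hXX, hPf, hκ, add_neg_cancel])
  have h1 := (hA _ hgen).1.2 (κ • P) (by rw [hPf, hκ]) hstart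
  have e2 : X (κ • P + κ • ((μ / κ) • Q - P)) = ten i (μ • e + f) Q := by
    simp only [X, smul_sub, add_sub_cancel, smul_smul, mul_div_cancel₀ _ hκ0, ten_smul, ten_add_left, ten_smul_left]
  rw [e2] at h1
  -- move to the given vectors
  have hu0 : hd τ (μ • e + f) (μ • e + f) ≠ 0 := by
    simp only [hd_add_left, hd_add_right, hd_smul_left, hd_smul_right, he, hf, hef, hfe, mul_zero, mul_one, zero_add,
      add_zero]
    rw [add_comm, hμ]
    exact one_ne_zero
  obtain ⟨A', c, hA', hA1, hc, hAu⟩ := hτ.exists_transitive (by simp; omega) hu0 hu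
  set g : GL (Fin m) F := Matrix.GeneralLinearGroup.mkOfDetNeZero A' (by rw [hA1]; exact one_ne_zero)
  have h2 := (h1.map hU (hsu i g (by
    rw [mem_UG]; exact TensorMax.Unitary.IsIso.hadj_mul_self hτ hA') hA1)).smul hτ c⁻¹
  rw [slotGL_val, slot_mulVec_ten, show (g : Matrix (Fin m) (Fin m) F) = A' from rfl, hAu, ten_smul_left, smul_smul,
    inv_mul_cancel₀ hc, one_smul] at h2
  -- the other slots
  suffices key : ∀ T : Finset (Fin (r + 1)), Pt τ M (ten i u (pv fun j => if j ∈ T then v j else f)) by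
    simpa using key Finset.univ
  intro T
  induction T using Finset.induction_on with
  | empty => simpa using h2
  | @insert a T ha ih =>
    by_cases hv0 : v a = 0
    · rw [pv_zero_of a (by simp [hv0]), ten, Matrix.mulVec_zero]; exact Pt.zero
    obtain ⟨B, hB, hB1, eB⟩ := exists_slot_move hτ hm hf0 hv0 hf (hv a)
    have h3 := ih.map hU (hsu (i.succAbove a) B hB hB1)
    rw [slotGL_val, ← embM_slot, embM_mulVec_ten, slot_mulVec_pv] at h3
    convert h3 using 3
    funext j
    rcases eq_or_ne j a with rfl | hj <;> simp [*]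

/-- All centres with an isotropic part in the other slots give everything. -/
theorem pt_all_of_ten (hτ : Conj τ) (hm : 3 ≤ m) (hs : 0 < s) (hU : M ≤ UG τ (Fin (s + 1) → Fin m))
    (i : Fin (s + 1)) (H : ∀ (u : Fin m → F) w, hd τ w w = 0 → Pt τ M (ten i u w))
    {z : (Fin (s + 1) → Fin m) → F} (hz : hd τ z z = 0) : Pt τ M z := by
  classical
  have hcard : 3 ≤ Fintype.card (Fin s → Fin m) := by
    rw [Fintype.card_fun, Fintype.card_fin, Fintype.card_fin]
    exact hm.trans (Nat.le_self_pow hs.ne' m)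
  let e : Fin m → Fin m → F := fun a => Pi.single a 1
  have hee : ∀ a b, hd τ (e a) (e b) = if a = b then 1 else 0 := fun a b => by
    simp [e, hd_single_right, Pi.single_apply, eq_comm (a := b)]
  let Z : (Fin m → (Fin s → Fin m) → F) → (Fin (s + 1) → Fin m) → F := fun f => ∑ a, ten i (e a) (f a)
  have hZ : ∀ f a w, hd τ (Z f) (ten i (e a) w) = hd τ (f a) w := fun f a w => by
    simp only [Z, hd_sum_left, hd_ten hτ, hee, ite_mul, one_mul, zero_mul, Finset.sum_ite_eq', Finset.mem_univ, if_true]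
  have hupd : ∀ f a w, Z (Function.update f a w) = ten i (e a) w + ∑ b ∈ Finset.univ.erase a, ten i (e b) (f b) :=
    fun f a w => by
      simp only [Z]
      rw [← Finset.add_sum_erase _ _ (Finset.mem_univ a), Function.update_self]
      congr 1
      exact Finset.sum_congr rfl fun b hb => by rw [Function.update_of_ne (Finset.ne_of_mem_erase hb)]
  have hrows : ∀ f, (∀ a, hd τ (f a) (f a) = 0) → Pt τ M (Z f) := by
    intro f hf
    obtain ⟨w₀, hw0, hw, -⟩ := hτ.exists_isotropic_perp (fun j : Fin 0 => (0 : (Fin s → Fin m) → F)) (by omega)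
    suffices key : ∀ T : Finset (Fin m),
        Pt τ M (Z fun a => if a ∈ T then f a else if f a = 0 then 0 else w₀) by simpa using key Finset.univ
    intro T
    induction T using Finset.induction_on with
    | empty =>
      convert H (∑ a, (if f a = 0 then (0 : F) else 1) • e a) w₀ hw using 1
      simp only [Z, ten, col_sum, Matrix.sum_mulVec]
      refine Finset.sum_congr rfl fun a _ => ?_
      by_cases h : f a = 0
      · simp [h, col_zero]
      · simp [h]
    | @insert a T ha ih =>
      set g : Fin m → (Fin s → Fin m) → F := fun a => if a ∈ T then f a else if f a = 0 then 0 else w₀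
      have e1 : (fun b => if b ∈ insert a T then f b else if f b = 0 then 0 else w₀) = Function.update g a (f a) := by
        funext b
        rcases eq_or_ne b a with rfl | hb <;> simp [g, *]
      rw [e1]
      rcases eq_or_ne (f a) 0 with h0 | h0
      · rwa [show Function.update g a (f a) = g from Function.update_eq_self_iff.2 (by simp [g, ha, h0])]
      refine iso_trans hτ ⊤ (fun x _ hx => ?_) (by rw [finrank_top, Module.finrank_fintype_fun_eq_card]; exact hcard)
        (P := fun x => Pt τ M (Z (Function.update g a x))) ?_ trivial trivial hw0 h0 hw (hf a) ?_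
      · by_contra hcon
        push Not at hcon
        exact hx (hτ.eq_zero_of_forall fun y => hcon y trivial)
      · intro x v k _ _ _ hv hk hx
        obtain ⟨t, ht, et⟩ := H (e a) v hv k hk
        have h1 := hx.map hU ht
        convert h1 using 1
        rw [et, Matrix.add_mulVec, Matrix.one_mulVec, Matrix.smul_mulVec, ov_mulVec, hZ, Function.update_self,
          hupd, hupd, ten_add, ten_smul, smul_smul]
        abel
      · rwa [show Function.update g a w₀ = g from Function.update_eq_self_iff.2 (by simp [g, ha, h0])]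
  -- split the rows into isotropic halves
  set T : Fin m → (Fin s → Fin m) → F := fun a => row τ i (e a) *ᵥ z with hT
  have hzT : z = Z T := sum_ten i z
  rcases eq_or_ne z 0 with rfl | hz0
  · exact Pt.zero
  obtain ⟨a₀, ha₀⟩ : ∃ a, T a ≠ 0 := by
    by_contra hcon
    push Not at hcon
    exact hz0 (by rw [hzT]; simp [Z, hcon, ten])
  obtain ⟨κ, hκ0, hκ⟩ := hτ.exists_skew
  obtain ⟨θ, hθ⟩ := hτ.exists_trace (c := (1 : F)) (map_one τ)
  obtain ⟨δ, hδ, hsum⟩ : ∃ δ : F, τ δ = -δ ∧ (∑ a, θ * hd τ (T a) (T a)) + δ ≠ 0 := by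
    by_cases h : (∑ a, θ * hd τ (T a) (T a)) = 0
    · exact ⟨κ, hκ, by rw [h, zero_add]; exact hκ0⟩
    · exact ⟨0, by simp, by rwa [add_zero]⟩
  let c : Fin m → F := fun a => θ * hd τ (T a) (T a) + if a = a₀ then δ else 0
  have hc : ∀ a, c a + τ (c a) = hd τ (T a) (T a) := fun a => by
    simp only [c, map_add, map_mul, hτ.self_fixed, apply_ite τ, hδ, map_zero]
    split_ifs <;> linear_combination hd τ (T a) (T a) * hθ
  have hp : ∀ a, ∃ p, hd τ p p = 0 ∧ hd τ p (T a) = c a := fun a => by
    rcases eq_or_ne (T a) 0 with h | h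
    · exact ⟨0, hd_zero_left _, by
        simp [c, h, hd_zero_left, hd_zero_right, show a ≠ a₀ from fun e' => ha₀ (e' ▸ h)]⟩
    · obtain ⟨p, hp, hpp⟩ := hτ.exists_prescribed (v := ![T a]) (LinearIndependent.of_subsingleton (ι := Fin 1) 0 h)
        (by omega) (fun _ => c a) (map_zero τ)
      exact ⟨p, hpp, hp 0⟩
  choose p hpp hpc using hp
  have hq : ∀ a, hd τ (T a - p a) (T a - p a) = 0 := fun a => by
    simp only [hd_sub_left, hd_sub_right, hpp, hpc, ← hτ.hd_conj (p a) (T a)]
    linear_combination -hc a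
  have hzz : ∀ f, (∀ a, hd τ (f a) (f a) = 0) → hd τ (Z f) (Z f) = 0 := fun f hf => by
    conv_lhs => arg 3; simp only [Z]
    rw [← hτ.hd_conj, hd_sum_left, map_sum]
    exact Finset.sum_eq_zero fun a _ => by rw [hτ.hd_conj, hZ, hf]
  have e3 : z = Z p + Z (fun a => T a - p a) := by
    rw [hzT]
    simp only [Z, ← Finset.sum_add_distrib, ← ten_add, add_sub_cancel]
  rw [e3] at hz ⊢
  refine Pt.move hτ hU (hrows p hpp) (hrows _ hq) (hzz p hpp) (hzz _ hq) ?_ hz
  rw [← hτ.hd_conj]
  refine (map_ne_zero τ).2 ?_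
  simp only [Z]
  rw [hd_sum_left]
  rw [Finset.sum_congr rfl fun a _ => show hd τ (ten i (e a) (T a - p a)) (Z p) = τ (c a) by
    rw [← hτ.hd_conj, hZ, hd_sub_right, hpp, hpc, sub_zero]]
  rw [← map_sum]
  exact (map_ne_zero τ).2 (by simpa [c, Finset.sum_add_distrib] using hsum)

/-- Pure isotropic centres give all of them. -/
theorem pt_all (hτ : Conj τ) (hm : 3 ≤ m) : ∀ (s : ℕ) (M : Subgroup (GL (Fin (s + 1) → Fin m) F)),
    M ≤ UG τ (Fin (s + 1) → Fin m) →
    (∀ i (A : GL (Fin m) F), A ∈ UG τ (Fin m) → (A : Matrix (Fin m) (Fin m) F).det = 1 → slotGL i A ∈ M) →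
    GoodP τ M → ∀ z, hd τ z z = 0 → Pt τ M z := by
  intro s
  induction s with
  | zero =>
    intro M hU hsu hG z hz
    have e : z = pv fun _ : Fin 1 => fun a => z fun _ => a := by
      funext x
      have hx : (fun _ => x 0) = x := funext fun j => by rw [show j = 0 from Fin.eq_zero j]
      simp [pv, hx]
    rw [e] at hz ⊢
    refine hG _ fun j => ?_
    rw [hd_pv, Fin.prod_univ_one] at hz
    exact hz
  | succ r ih =>
    intro M hU hsu hG z hz
    classical
    let M' := M.comap (emb (F := F) (m := m) (0 : Fin (r + 1 + 1)))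
    have hU' : M' ≤ UG τ (Fin (r + 1) → Fin m) := fun B hB => by
      have h1 := mem_UG.1 (hU hB)
      rw [emb_val, ad_embM, ← map_mul] at h1
      rw [mem_UG]
      exact embM_injective 0 (h1.trans (map_one _).symm)
    have hsu' : ∀ i (A : GL (Fin m) F), A ∈ UG τ (Fin m) → (A : Matrix (Fin m) (Fin m) F).det = 1 →
        slotGL i A ∈ M' := fun i A hA h1 => by
      show emb 0 (slotGL i A) ∈ M
      rw [emb_slotGL]
      exact hsu _ A hA h1
    have hten : ∀ (u : Fin m → F) (v : Fin (r + 1) → Fin m → F), (∀ j, hd τ (v j) (v j) = 0) →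
        Pt τ M (ten 0 u (pv v)) := fun u v hv => by
      by_cases hu : hd τ u u = 0
      · rw [ten_pv]
        exact hG _ ((Fin.forall_iff_succAbove 0).2 ⟨by rw [Fin.insertNth_apply_same]; exact hu,
          fun j => by rw [Fin.insertNth_apply_succAbove]; exact hv j⟩)
      · exact pt_nonsing hτ hm hU hsu hG 0 hu hv
    have hG' : GoodP τ M' := by
      intro v hv k hk
      set w := pv v with hw
      have hww : hd τ w w = 0 := by rw [hw, hd_pv]; exact Finset.prod_eq_zero (Finset.mem_univ 0) (hv 0)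
      let N : Fin m → TMat F m (r + 1 + 1) := fun a => k • ov τ (ten 0 (Pi.single a 1) w) (ten 0 (Pi.single a 1) w)
      have hNN : ∀ a b, N a * N b = 0 := fun a b => by
        simp only [N, Matrix.smul_mul, Matrix.mul_smul, ov_mul, hd_ten hτ, hww, mul_zero, zero_smul, smul_zero]
      have hsum : InM M (1 + ∑ a, N a) := by
        have key : ∀ T : Finset (Fin m), InM M (1 + ∑ a ∈ T, N a) := fun T => by
          induction T using Finset.induction_on with
          | empty => rw [Finset.sum_empty, add_zero]; exact InM.one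
          | @insert a T ha ih' =>
            convert InM.mul (hten (Pi.single a 1) v hv k hk) ih' using 1
            rw [Finset.sum_insert ha, add_mul, one_mul, mul_add, mul_one, Finset.mul_sum,
              Finset.sum_eq_zero fun b _ => hNN a b, add_zero]
            abel
        exact key Finset.univ
      have e : (∑ a, N a) = embM 0 (k • ov τ w w) := by
        simp only [N, ov_ten, ← embM_mul_col, Matrix.mul_assoc, ← Finset.smul_sum, ← Matrix.mul_sum,
          sum_slot_single, Matrix.mul_one, map_smul]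
      rw [e] at hsum
      obtain ⟨g, hg, eg⟩ := hsum
      have hinv : (1 + k • ov τ w w) * (1 - k • ov τ w w) = 1 := by
        simp only [add_mul, one_mul, mul_sub, mul_one, Matrix.smul_mul, Matrix.mul_smul, ov_mul, hww, zero_smul,
          smul_zero, add_zero, sub_zero]
        abel
      let B : GL (Fin (r + 1) → Fin m) F := ⟨_, _, hinv, mul_eq_one_comm.1 hinv⟩
      refine ⟨B, ?_, rfl⟩
      show emb 0 B ∈ M
      convert hg
      refine Units.ext ?_
      rw [eg, emb_val, map_add, map_one]
    have hrest := ih M' hU' hsu' hG'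
    refine pt_all_of_ten hτ hm r.succ_pos hU 0 (fun u w hw => ?_) hz
    rcases eq_or_ne w 0 with rfl | hw0
    · rw [ten, Matrix.mulVec_zero]; exact Pt.zero
    obtain ⟨e, f, he, hf, hef, he0, hf0⟩ := exists_pair (F := F) (m := m) hτ hm
    refine iso_trans hτ ⊤ (fun x _ hx => ?_) ?_ (P := fun x => Pt τ M (ten 0 u x)) ?_ (a := pv fun _ => e)
      trivial trivial ?_ hw0 ?_ hw (hten u _ fun _ => he)
    · by_contra hcon
      push Not at hcon
      exact hx (hτ.eq_zero_of_forall fun y => hcon y trivial)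
    · rw [finrank_top, Module.finrank_fintype_fun_eq_card, Fintype.card_fun, Fintype.card_fin, Fintype.card_fin]
      exact hm.trans (Nat.le_self_pow r.succ_ne_zero m)
    · intro x v k _ _ _ hv hk hx
      obtain ⟨B, hB, eB⟩ := hrest v hv k hk
      have h1 := hx.map hU hB
      convert h1 using 1
      rw [emb_val, embM_mulVec_ten, eB, Matrix.add_mulVec, Matrix.one_mulVec, Matrix.smul_mulVec, ov_mulVec,
        smul_smul]
    · intro h0
      have h1 := congrArg (fun x => hd τ x (pv fun _ : Fin (r + 1) => f)) h0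
      simp [hd_pv, hef, hd_zero_left] at h1
    · rw [hd_pv]; exact Finset.prod_eq_zero (Finset.mem_univ 0) he

end CfsgLib.TensorWreathSU
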