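import Cfsg.Agent.Lib.TensorWreathSU.Two

/-!
Characteristic two: an involution of two kinds, not conjugate to a root, whose centraliser lies in the tensor wreath
group, forces the group into the tensor wreath group.
-/

set_option autoImplicit false
set_option linter.unusedSectionVars false

namespace CfsgLib.TensorWreathSU

open Cfsg Cfsg.Geo CfsgLib.Aschbacher CfsgLib.AschbacherForm CfsgLib.TensorWreath CfsgLib.TensorWreathSL
open CfsgLib.TensorMax.Unitary (Conj hd hd_add_left hd_add_right hd_smul_left hd_smul_right hd_sub_left hd_sub_right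
  hd_zero_left hd_zero_right hd_neg_left hd_neg_right)
open scoped Matrix MatrixGroups

variable {F : Type*} [Field F] [Fintype F] {m s : ℕ} [NeZero m] {τ : F ≃+* F}
variable {M : Subgroup (GL (Fin (s + 1) → Fin m) F)}

/-- A one-slot square-zero element lies in a single slot. -/
theorem slot_unique {n : ℕ} {i k : Fin n} {P Q : Matrix (Fin m) (Fin m) F} (hP : P * P = 0) (hQ : Q * Q = 0)
    (hP0 : P ≠ 0) (h : slotGL i (un P hP) = slotGL k (un Q hQ)) : i = k := by
  by_contra hne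
  rw [slotGL_eq_pureGL, slotGL_eq_pureGL] at h
  exact hP0 (factor_eq h i hP (A := 0) (by simp) (by simp [un_val]) (by simp [hne]))

theorem un_eq {Z : GL (Fin m) F} (h : (Z.1 - 1) * (Z.1 - 1) = 0) : un (Z.1 - 1) h = Z :=
  Units.ext (by rw [un_val, add_sub_cancel])

/-- An involution fixing a slot commutes with a root of that slot. -/
theorem Lev.anchor (hL : Lev τ M) (h2 : (2 : F) = 0) {u : GL (Fin (s + 1) → Fin m) F} (hu : u ∈ M)
    (hus : u ∈ Std F m (s + 1)) (hu2 : u * u = 1) {π : Equiv.Perm (Fin (s + 1))} (hπ : Rep u π) {l : Fin (s + 1)}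
    (hl : π l = l) : ∃ X, ∃ hX : IsRootU τ l X, Commute u (oneAdd X hX.sq) := by
  have hτ := hL.conj
  have hm := hL.hm
  have hadd : ∀ x : F, x + x = 0 := fun x => by rw [← two_mul, h2, zero_mul]
  obtain ⟨A, B, -, rfl⟩ := std_split (by omega) hL.hs hus hπ hl
  obtain ⟨d, hd0, hdA⟩ : ∃ d : F, d ≠ 0 ∧ ad τ A.1 * A.1 = d • 1 := by
    refine factor_scalar (i := l) (Y := ad τ B.1 * B.1) ?_
    have h := mem_UG.1 (hL.ctx.ug hu)
    rw [Units.val_mul, slotGL_val, emb_val, ad_mul, ad_embM, ad_slot, mul_assoc, ← mul_assoc (slot l (ad τ A.1)),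
      ← slot_mul, ← mul_assoc, ← slot_embM_comm, mul_assoc, ← map_mul] at h
    exact h
  obtain ⟨c, hc0, hc⟩ : ∃ c : F, c ≠ 0 ∧ A.1 * A.1 = c • 1 := by
    refine factor_scalar (i := l) (Y := B.1 * B.1) ?_
    have h := congrArg Units.val hu2
    rw [Units.val_one, Units.val_mul, Units.val_mul, slotGL_val, emb_val, mul_assoc, ← mul_assoc (embM l B.1),
      ← slot_embM_comm, mul_assoc, ← map_mul, ← mul_assoc, ← slot_mul] at h
    exact h
  obtain ⟨e, he⟩ : ∃ e : F, e * e = c := by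
    obtain ⟨p, hp⟩ := CharP.exists F
    have : Fact p.Prime := ⟨CharP.char_is_prime F p⟩
    obtain rfl : p = 2 := by
      have hdvd : p ∣ 2 := (CharP.cast_eq_zero_iff F p 2).1 (by exact_mod_cast h2)
      exact (Nat.prime_dvd_prime_iff_eq Fact.out Nat.prime_two).1 hdvd
    have : ExpChar F 2 := ExpChar.prime Fact.out
    obtain ⟨e, he⟩ := Finite.injective_iff_surjective.1 (frobenius_inj F 2) c
    exact ⟨e, by rw [← he, frobenius_def, sq]⟩
  have he0 : e ≠ 0 := fun h => hc0 (by rw [← he, h, zero_mul])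
  set q := e * τ e with hq
  -- the adjoint
  have hadA : ad τ A.1 = (d / c) • A.1 := by
    have h1 : ad τ A.1 * (A.1 * A.1) = d • A.1 := by rw [← mul_assoc, hdA, Matrix.smul_mul, one_mul]
    rw [hc, Matrix.mul_smul, mul_one] at h1
    rw [← inv_smul_smul₀ hc0 (ad τ A.1), h1, smul_smul, div_eq_inv_mul]
  have hdq : d = q := by
    have h1 := congrArg (ad τ) hc
    rw [ad_mul, ad_smul, ad_one, hadA, Matrix.smul_mul, Matrix.mul_smul, hc, smul_smul, smul_smul,
      ← sub_eq_zero, ← sub_smul] at h1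
    have h1' := sub_eq_zero.1 ((smul_eq_zero.1 h1).resolve_right one_ne_zero)
    rw [← he, map_mul] at h1'
    field_simp at h1'
    have h3 : (d - q) * (d - q) = 0 := by rw [hq]; linear_combination h1' + (e * τ e * (e * τ e) - d * (e * τ e)) * h2
    exact sub_eq_zero.1 (mul_self_eq_zero.1 h3)
  set N := A.1 + e • (1 : Matrix (Fin m) (Fin m) F) with hN
  have hNN : N * N = 0 := by
    rw [hN]
    simp only [add_mul, mul_add, Matrix.smul_mul, Matrix.mul_smul, one_mul, mul_one, hc, smul_smul, he]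
    rw [add_comm (e • A.1) (c • 1), add_add_add_comm, ← add_smul, ← add_smul, hadd, hadd, zero_smul, zero_smul, add_zero]
  obtain ⟨v, hv0, hv, hAv⟩ : ∃ v, v ≠ 0 ∧ hd τ v v = 0 ∧ A.1 *ᵥ v = e • v := by
    by_cases hN0 : N = 0
    · obtain ⟨v, f, hv, -, -, hv0, -⟩ := exists_pair (F := F) (m := m) hτ hm
      refine ⟨v, hv0, hv, ?_⟩
      rw [hN, add_eq_zero_iff_eq_neg] at hN0
      rw [hN0, Matrix.neg_mulVec, Matrix.smul_mulVec, Matrix.one_mulVec, neg_eq_iff_add_eq_zero, ← add_smul, hadd,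
        zero_smul]
    · obtain ⟨e₀, he₀⟩ : ∃ e₀, N *ᵥ e₀ ≠ 0 := by
        by_contra hcon
        push Not at hcon
        exact hN0 (Matrix.ext fun a b => by
          have := congrFun (hcon (Pi.single b 1)) a
          rwa [Matrix.mulVec_single_one] at this)
      refine ⟨N *ᵥ e₀, he₀, ?_, ?_⟩
      · have hadN : ad τ N = (τ e / e) • N := by
          rw [hN, ad_add, ad_smul, ad_one, hadA, smul_add, smul_smul, div_mul_cancel₀ _ he0, hdq, hq, ← he,
            mul_div_mul_left _ _ he0]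
        rw [hd_mulVec _ _ _ hτ, hadN, Matrix.smul_mulVec, Matrix.mulVec_mulVec, hNN, Matrix.zero_mulVec, smul_zero,
          hd_zero_right]
      · have h := congrArg (fun W => W *ᵥ e₀) hNN
        simp only [← Matrix.mulVec_mulVec, Matrix.zero_mulVec] at h
        set v := N *ᵥ e₀
        rw [hN, Matrix.add_mulVec, Matrix.smul_mulVec, Matrix.one_mulVec, add_eq_zero_iff_eq_neg] at h
        rw [h, neg_eq_iff_add_eq_zero, ← add_smul, hadd, zero_smul]
  obtain ⟨k, hk0, hk⟩ := hτ.exists_skew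
  refine ⟨_, isRootU_mk (i := l) hv0 hv hk0 hk, Units.ext ?_⟩
  show (slotGL l A * emb l B).1 * (1 + slot l (k • ov τ v v)) = (1 + slot l (k • ov τ v v)) * (slotGL l A * emb l B).1
  have key : A.1 * (k • ov τ v v) = (k • ov τ v v) * A.1 := by
    rw [Matrix.mul_smul, Matrix.smul_mul, mul_ov, ov_mul_right hτ, hadA, Matrix.smul_mulVec, hAv, smul_smul,
      ov_smul_left, ov_smul_right, hdq, hq, ← he]
    congr 2
    have := (map_ne_zero τ).2 he0
    simp only [map_mul, map_div₀, hτ.invol]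
    field_simp
  rw [mul_add, add_mul, mul_one, one_mul, Units.val_mul, slotGL_val, emb_val]
  congr 1
  rw [mul_assoc, ← slot_embM_comm, ← mul_assoc, ← mul_assoc, ← slot_mul, ← slot_mul, key]

/-- Conjugates inside the tensor wreath group are conjugate there. -/
theorem Lev.fusion (hL : Lev τ M) (h2 : (2 : F) = 0) {p : GL (Fin (s + 1) → Fin m) F} (hp : p ∈ M) (hp2 : p * p = 1)
    (hC : ∀ v ∈ M, Commute v p → v ∈ Std F m (s + 1))
    (hfix : ∀ w : F → GL (Fin (s + 1) → Fin m) F,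
      (∀ μ, τ μ = μ → μ ≠ 0 → w μ ∈ Std F m (s + 1) ∧ Commute (w μ) p) → (∀ μ ν, w μ * w ν = w (μ + ν)) →
      ∃ μ, τ μ = μ ∧ μ ≠ 0 ∧ ∀ π, Rep (w μ) π → ∃ l, π l = l)
    {h : GL (Fin (s + 1) → Fin m) F} (hh : h ∈ M) (hqs : h * p * h⁻¹ ∈ Std F m (s + 1)) :
    h ∈ Std F m (s + 1) := by
  have hτ := hL.conj
  have hm2 : 2 ≤ m := le_trans (by omega) hL.hm
  set q := h * p * h⁻¹ with hqd
  have hqM : q ∈ M := mul_mem (mul_mem hh hp) (inv_mem hh)
  have hq2 : q * q = 1 := by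
    rw [hqd, show h * p * h⁻¹ * (h * p * h⁻¹) = h * (p * p) * h⁻¹ by group, hp2, mul_one, mul_inv_cancel]
  obtain ⟨π, T, hπ, hT⟩ := std_slot_conj hqs
  by_cases hfixed : ∃ l, π l = l
  · obtain ⟨l, hl⟩ := hfixed
    obtain ⟨X, hX, hc⟩ := hL.anchor h2 hqM hqs hq2 hπ hl
    have hmem : h⁻¹ * oneAdd X hX.sq * h⁻¹⁻¹ ∈ Std F m (s + 1) := by
      refine hC _ (mul_mem (mul_mem (inv_mem hh) (hL.root_mem hX)) (inv_mem (inv_mem hh))) ?_
      show h⁻¹ * oneAdd X hX.sq * h⁻¹⁻¹ * p = p * (h⁻¹ * oneAdd X hX.sq * h⁻¹⁻¹)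
      calc _ = h⁻¹ * (oneAdd X hX.sq * q) * h := by rw [hqd]; group
        _ = h⁻¹ * (q * oneAdd X hX.sq) * h := by rw [hc.eq]
        _ = _ := by rw [hqd]; group
    rw [oneAdd_conj] at hmem
    simpa using inv_mem (hL.std_of_conj hX (inv_mem hh) hmem)
  push Not at hfixed
  obtain ⟨v, f, hv, -, -, hv0, -⟩ := exists_pair (F := F) (m := m) hτ hL.hm
  obtain ⟨k, hk0, hk⟩ := hτ.exists_skew
  set X : TMat F m (s + 1) := slot (0 : Fin (s + 1)) (k • ov τ v v) with hXd
  have hX : IsRootU τ 0 X := isRootU_mk hv0 hv hk0 hk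
  obtain ⟨l, hX'⟩ := hL.root_in_std hX hqM (by
    rw [← oneAdd_conj q hX.sq]
    obtain ⟨N, hN, -, -, -, e⟩ := hX.exists_un hτ
    rw [e, hT]
    exact slotGL_mem _ _)
  set X' := cj q X with hX'd
  have hl : l = π 0 := by
    obtain ⟨a, ha⟩ := hπ 0 (k • ov τ v v)
    exact hX'.isRoot.slot_eq a (by rw [hX'd, hXd, ha])
  have hne : (0 : Fin (s + 1)) ≠ l := fun e => hfixed 0 (hl.symm.trans e.symm)
  have hμX : ∀ μ : F, μ • X * μ • X = 0 := fun μ => by rw [Matrix.smul_mul, Matrix.mul_smul, hX.sq, smul_zero, smul_zero]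
  have hμX' : ∀ μ : F, μ • X' * μ • X' = 0 := fun μ => by
    rw [Matrix.smul_mul, Matrix.mul_smul, hX'.sq, smul_zero, smul_zero]
  set W : F → GL (Fin (s + 1) → Fin m) F := fun μ => oneAdd (μ • X) (hμX μ) * oneAdd (μ • X') (hμX' μ) with hW
  have hcXX : X * X' = X' * X := hX.commute_ne hne hX'
  have hWadd : ∀ μ ν, W μ * W ν = W (μ + ν) := fun μ ν => by
    refine Units.ext ?_
    show (1 + μ • X) * (1 + μ • X') * ((1 + ν • X) * (1 + ν • X')) = (1 + (μ + ν) • X) * (1 + (μ + ν) • X')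
    have c1 : Commute (1 + μ • X') (1 + ν • X) :=
      ((Commute.one_left _).add_left (((Commute.one_right X').add_right ((show Commute X' X from hcXX.symm).smul_right ν)).smul_left μ))
    rw [mul_assoc, ← mul_assoc (1 + μ • X'), c1.eq, mul_assoc, ← mul_assoc (1 + μ • X)]
    congr 1
    · simp only [mul_add, add_mul, one_mul, mul_one, Matrix.smul_mul, Matrix.mul_smul, hX.sq, smul_zero, add_smul,
        add_zero]
      abel
    · simp only [mul_add, add_mul, one_mul, mul_one, Matrix.smul_mul, Matrix.mul_smul, hX'.sq, smul_zero, add_smul,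
        add_zero]
      abel
  have hWq : ∀ μ, Commute (W μ) q := fun μ => by
    refine (Units.ext ?_ : q * W μ = W μ * q).symm
    have e : cj q (W μ).1 = (W μ).1 := by
      show cj q ((1 + μ • X) * (1 + μ • X')) = (1 + μ • X) * (1 + μ • X')
      have e2 : cj q X' = X := by rw [hX'd, cj_cj, hq2, cj_one]
      rw [map_mul, map_add, map_add, map_one, map_smul, map_smul, ← hX'd, e2]
      simp only [mul_add, add_mul, one_mul, mul_one, Matrix.smul_mul, Matrix.mul_smul, hcXX]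
      abel
    exact (cj_eq_self_iff _ _).1 e
  set w : F → GL (Fin (s + 1) → Fin m) F := fun μ => h⁻¹ * W μ * h with hw
  have hwp : ∀ μ, Commute (w μ) p := fun μ => by
    show h⁻¹ * W μ * h * p = p * (h⁻¹ * W μ * h)
    calc _ = h⁻¹ * (W μ * q) * h := by rw [hqd]; group
      _ = h⁻¹ * (q * W μ) * h := by rw [(hWq μ).eq]
      _ = _ := by rw [hqd]; group
  have hWM : ∀ μ, τ μ = μ → μ ≠ 0 → W μ ∈ M := fun μ h1 h0 =>
    mul_mem (hL.root_mem (hX.smul_fixed h0 h1)) (hL.root_mem (hX'.smul_fixed h0 h1))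
  have hwM : ∀ μ, τ μ = μ → μ ≠ 0 → w μ ∈ M := fun μ h1 h0 =>
    mul_mem (mul_mem (inv_mem hh) (hWM μ h1 h0)) hh
  obtain ⟨μ, hμ1, hμ0, hfx⟩ := hfix w (fun μ h1 h0 => ⟨hC _ (hwM μ h1 h0) (hwp μ), hwp μ⟩) (fun μ ν => by
    rw [hw]
    show h⁻¹ * W μ * h * (h⁻¹ * W ν * h) = h⁻¹ * W (μ + ν) * h
    rw [← hWadd]; group)
  have hws := hC _ (hwM μ hμ1 hμ0) (hwp μ)
  have hw2 : w μ * w μ = 1 := by
    show h⁻¹ * W μ * h * (h⁻¹ * W μ * h) = 1
    rw [show h⁻¹ * W μ * h * (h⁻¹ * W μ * h) = h⁻¹ * (W μ * W μ) * h by group, hWadd,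
      show μ + μ = 0 by rw [← two_mul, h2, zero_mul]]
    have : W 0 = 1 := Units.ext (by show (1 + (0 : F) • X) * (1 + (0 : F) • X') = 1; simp)
    rw [this, mul_one, inv_mul_cancel]
  obtain ⟨π', -, -, hπ'⟩ := exists_rep_of_std hws
  obtain ⟨l', hl'⟩ := hfx π' hπ'
  obtain ⟨Y, hY, hcY⟩ := hL.anchor h2 (hwM μ hμ1 hμ0) hws hw2 hπ' hl'
  refine hL.std_of_conj hY hh ?_
  rw [← oneAdd_conj h hY.sq]
  refine hL.cent_pair h2 hne (hX.smul_fixed hμ0 hμ1) (hX'.smul_fixed hμ0 hμ1)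
    (mul_mem (mul_mem hh (hL.root_mem hY)) (inv_mem hh)) ?_
  show h * oneAdd Y hY.sq * h⁻¹ * W μ = W μ * (h * oneAdd Y hY.sq * h⁻¹)
  calc _ = h * (oneAdd Y hY.sq * w μ) * h⁻¹ := by simp only [hw]; group
    _ = h * (w μ * oneAdd Y hY.sq) * h⁻¹ := by rw [hcY.eq]
    _ = _ := by simp only [hw]; group

/-- The main step from a suitable involution. -/
theorem Lev.le_std_of (hL : Lev τ M) (h2 : (2 : F) = 0) {p : GL (Fin (s + 1) → Fin m) F} (hp : p ∈ M)
    (hp2 : p * p = 1) (hC : ∀ v ∈ M, Commute v p → v ∈ Std F m (s + 1))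
    (hnc : ∀ h ∈ M, ∀ (l : Fin (s + 1)) (X : TMat F m (s + 1)) (hX : IsRootU τ l X), h * oneAdd X hX.sq * h⁻¹ ≠ p)
    (hfix : ∀ w : F → GL (Fin (s + 1) → Fin m) F,
      (∀ μ, τ μ = μ → μ ≠ 0 → w μ ∈ Std F m (s + 1) ∧ Commute (w μ) p) → (∀ μ ν, w μ * w ν = w (μ + ν)) →
      ∃ μ, τ μ = μ ∧ μ ≠ 0 ∧ ∀ π, Rep (w μ) π → ∃ l, π l = l)
    (hz : ∀ h ∈ M, h ∈ Std F m (s + 1) → ∀ (l : Fin (s + 1)) (X : TMat F m (s + 1)) (hX : IsRootU τ l X) (n : ℕ),
      (h * p * h⁻¹ * oneAdd X hX.sq) ^ n ≠ 1 →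
      (h * p * h⁻¹ * oneAdd X hX.sq) ^ n * (h * p * h⁻¹ * oneAdd X hX.sq) ^ n = 1 →
      (Commute (h * p * h⁻¹) (oneAdd X hX.sq) → n = 1) →
      ∀ v ∈ M, Commute v ((h * p * h⁻¹ * oneAdd X hX.sq) ^ n) → v ∈ Std F m (s + 1)) :
    M ≤ Std F m (s + 1) := by
  intro g hg
  by_contra hgs
  have hτ := hL.conj
  obtain ⟨v₀, f, hv₀, -, -, hv00, -⟩ := exists_pair (F := F) (m := m) hτ hL.hm
  obtain ⟨k, hk0, hk⟩ := hτ.exists_skew
  have hX : IsRootU τ (0 : Fin (s + 1)) (slot 0 (k • ov τ v₀ v₀) : TMat F m (s + 1)) := isRootU_mk hv00 hv₀ hk0 hk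
  set x := oneAdd (slot (0 : Fin (s + 1)) (k • ov τ v₀ v₀) : TMat F m (s + 1)) hX.sq
  set y := g * p * g⁻¹ with hy
  have hy2 : y * y = 1 := by
    rw [hy, show g * p * g⁻¹ * (g * p * g⁻¹) = g * (p * p) * g⁻¹ by group, hp2, mul_one, mul_inv_cancel]
  have hxM : x ∈ M := hL.root_mem hX
  have hyM : y ∈ M := mul_mem (mul_mem hg hp) (inv_mem hg)
  have hr : ∀ v, v * y * v⁻¹ = (v * g) * p * (v * g)⁻¹ := fun v => by rw [hy]; group
  rcases dihedral_alt (TensorWreathSL.oneAdd_sq_one h2 hX.sq) hy2 with ⟨v, hv, e⟩ | ⟨v, hv, hP, n, hz1, hz2, hzv, hn⟩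
  · have hvM : v ∈ M := (Subgroup.closure_le _).2 (Set.pair_subset_iff.2 ⟨hxM, hyM⟩) hv
    refine hnc (v * g)⁻¹ (inv_mem (mul_mem hvM hg)) _ _ hX ?_
    show (v * g)⁻¹ * x * (v * g)⁻¹⁻¹ = p
    rw [show x = v * y * v⁻¹ from e.symm, hy]; group
  have hvM : v ∈ M := (Subgroup.closure_le _).2 (Set.pair_subset_iff.2 ⟨hxM, hyM⟩) hv
  have : Fact (Nat.Prime 2) := ⟨Nat.prime_two⟩
  have hPs := (hL.local_le hP ((Subgroup.closure_le _).2 (Set.pair_subset_iff.2
    ⟨hxM, mul_mem (mul_mem hvM hyM) (inv_mem hvM)⟩)) hX (Subgroup.subset_closure (Set.mem_insert _ _))).1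
  have hvg : v * g ∈ Std F m (s + 1) := hL.fusion h2 hp hp2 hC hfix (mul_mem hvM hg) (by
    rw [← hr]; exact hPs (Subgroup.subset_closure (Set.mem_insert_of_mem _ rfl)))
  rw [hr] at hz1 hz2 hzv hn
  have hvs := hz _ (mul_mem hvM hg) hvg _ _ hX n hz1 hz2 hn v hvM hzv.symm
  exact hgs (by rw [show g = v⁻¹ * (v * g) by group]; exact mul_mem (inv_mem hvs) hvg)

theorem slotGL_pow_two {n : ℕ} (l : Fin n) {B : GL (Fin m) F} (hB : B * B = 1) :
    slotGL l B * slotGL l B = 1 := by rw [← map_mul, hB, map_one]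

theorem un_sq (h2 : (2 : F) = 0) {N : Matrix (Fin m) (Fin m) F} (h : N * N = 0) : un N h * un N h = 1 :=
  Units.ext (by
    show (1 + N) * (1 + N) = 1
    rw [add_mul, one_mul, mul_add, mul_one, h, add_zero, add_assoc, show N + N = (2 : F) • N from (two_smul F N).symm,
      h2, zero_smul, add_zero])

/-- Centralisers of involutions of two slots. -/
theorem Lev.cent_mixed (hL : Lev τ M) (h2 : (2 : F) = 0) {l l' : Fin (s + 1)} (hll : l ≠ l')
    {Z : GL (Fin m) F} (hZU : Z ∈ UG τ (Fin m)) {R : TMat F m (s + 1)} (hR : IsRootU τ l' R) (n : ℕ)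
    (h1 : slotGL l Z * oneAdd R hR.sq ^ n ≠ 1)
    (hsq : slotGL l Z * oneAdd R hR.sq ^ n * (slotGL l Z * oneAdd R hR.sq ^ n) = 1)
    {v : GL (Fin (s + 1) → Fin m) F} (hv : v ∈ M) (hc : Commute v (slotGL l Z * oneAdd R hR.sq ^ n)) :
    v ∈ Std F m (s + 1) := by
  obtain ⟨N, hN, -, -, -, eR⟩ := hR.exists_un hL.conj
  have hcomm : Commute (slotGL l Z) (oneAdd R hR.sq ^ n) := (eR ▸ slotGL_comm hll Z _ :
    Commute (slotGL l Z) (oneAdd R hR.sq)).pow_right n
  have hR2 : oneAdd R hR.sq ^ n * oneAdd R hR.sq ^ n = 1 := by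
    rw [← pow_add, ← two_mul, pow_mul, sq, TensorWreathSL.oneAdd_sq_one h2 hR.sq, one_pow]
  have hZ2 : Z * Z = 1 := by
    have h3 : slotGL l Z * slotGL l Z = 1 := by
      rw [mul_assoc, ← mul_assoc (oneAdd R hR.sq ^ n), ← hcomm.eq, mul_assoc, hR2, mul_one] at hsq
      exact hsq
    refine Units.ext (slot_injective l ?_)
    rw [← map_mul] at h3
    rw [Units.val_one, slot_one]
    exact congrArg Units.val h3
  rcases Nat.even_or_odd n with ⟨k, hk⟩ | ⟨k, hk⟩
  · have e : oneAdd R hR.sq ^ n = 1 := by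
      rw [hk, ← two_mul, pow_mul, sq, TensorWreathSL.oneAdd_sq_one h2 hR.sq, one_pow]
    rw [e, mul_one] at hc h1
    exact hL.cent_slotGL h2 hZU hZ2 (fun e => h1 (by rw [e, map_one])) hv hc
  · have e : oneAdd R hR.sq ^ n = oneAdd R hR.sq := by
      rw [hk, pow_succ, pow_mul, sq, TensorWreathSL.oneAdd_sq_one h2 hR.sq, one_pow, one_mul]
    rw [e] at hc
    by_cases hZ1 : Z = 1
    · rw [hZ1, map_one, one_mul] at hc
      refine (hL.cent_root hR hv ((cj_eq_self_iff _ _).2 ?_)).1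
      have := congrArg Units.val hc.eq
      change v.1 * (1 + R) = (1 + R) * v.1 at this
      rw [mul_add, add_mul, mul_one, one_mul] at this
      exact add_left_cancel this
    · have hZN : (Z.1 - 1) * (Z.1 - 1) = 0 := by
        have hZZ : Z.1 * Z.1 = 1 := congrArg Units.val hZ2
        rw [sub_mul, mul_sub, hZZ, mul_one, one_mul, show (1 : Matrix (Fin m) (Fin m) F) - Z.1 - (Z.1 - 1) =
          (2 : F) • (1 - Z.1) by rw [two_smul]; abel, h2, zero_smul]
      exact hL.cent_two h2 hll hZN hR hv (by rw [un_eq hZN]; exact hc)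

/-- Characteristic two. -/
theorem Lev.le_std_two (hL : Lev τ M) (h2 : (2 : F) = 0) : M ≤ Std F m (s + 1) := by
  classical
  have hτ := hL.conj
  have hm := hL.hm
  obtain ⟨k, hk0, hk⟩ := hτ.exists_skew
  obtain ⟨v, f, hv, -, -, hv0, -⟩ := exists_pair (F := F) (m := m) hτ hm
  rcases hL.big with ⟨l, hl0, hl⟩ | hm4
  · -- two roots
    set μ₀ := l * τ l
    have hμ0 : μ₀ ≠ 0 := mul_ne_zero hl0 ((map_ne_zero τ).2 hl0)
    have hμτ : τ μ₀ = μ₀ := by show τ (l * τ l) = l * τ l; rw [map_mul, hτ.invol, mul_comm]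
    have : Nontrivial (Fin (s + 1)) := Fin.nontrivial_iff_two_le.2 (by have := hL.hs; omega)
    obtain ⟨i, j, hij⟩ := exists_pair_ne (Fin (s + 1))
    have ha : IsRootU τ i (slot i (k • ov τ v v) : TMat F m (s + 1)) := isRootU_mk hv0 hv hk0 hk
    have hb : IsRootU τ j (slot j (k • ov τ v v) : TMat F m (s + 1)) := isRootU_mk hv0 hv hk0 hk
    set A := oneAdd (slot i (k • ov τ v v) : TMat F m (s + 1)) ha.sq with hA
    set B := oneAdd (slot j (k • ov τ v v) : TMat F m (s + 1)) hb.sq with hB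
    obtain ⟨Na, hNa, hNa0, -, -, eA⟩ := ha.exists_un hτ
    obtain ⟨Nb, hNb, hNb0, -, -, eB⟩ := hb.exists_un hτ
    have hAB : Commute A B := by rw [hA, hB, eA, eB]; exact slotGL_comm hij _ _
    have hp2 : A * B * (A * B) = 1 := by
      rw [mul_assoc, ← mul_assoc B, ← hAB.eq, mul_assoc A B, TensorWreathSL.oneAdd_sq_one h2 hb.sq, mul_one,
        TensorWreathSL.oneAdd_sq_one h2 ha.sq]
    have hf : A * B = pureGL (Function.update (Function.update (fun _ => (1 : GL (Fin m) F)) j (un Nb hNb)) i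
        (un Na hNa)) := by
      rw [← slot_mul_pureGL i _ _ (by simp [hij]), ← slotGL_eq_pureGL, hA, hB, eA, eB]
    refine hL.le_std_of h2 (mul_mem (hL.root_mem ha) (hL.root_mem hb)) hp2
      (fun w hw hc => hL.cent_pair h2 hij ha hb hw hc) ?_ ?_ ?_
    · intro h hh l X hX e
      have hhs : oneAdd (cj h X) (cj_sq h hX.sq) ∈ Std F m (s + 1) := by
        rw [← oneAdd_conj h hX.sq, e, eA, eB]
        exact mul_mem (slotGL_mem _ _) (slotGL_mem _ _)
      obtain ⟨l', hl'⟩ := hL.root_in_std hX hh hhs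
      obtain ⟨Nr, hNr, -, -, -, eR⟩ := hl'.exists_un hτ
      rw [oneAdd_conj, eR, slotGL_eq_pureGL, hf] at e
      by_cases hli : l' = i
      · refine hNb0 (factor_eq e.symm j hNb (A := 0) (by simp) (by simp [hij.symm, un_val]) ?_)
        simp [show j ≠ l' from fun h' => hij (hli ▸ h'.symm)]
      · refine hNa0 (factor_eq e.symm i hNa (A := 0) (by simp) (by simp [un_val]) ?_)
        simp [Ne.symm hli]
    · intro w hw hadd
      by_contra hcon
      push Not at hcon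
      have hperm : ∀ μ, τ μ = μ → μ ≠ 0 → ∃ π, Rep (w μ) π ∧ π i = j ∧ π j = i := by
        intro μ h1 h0
        obtain ⟨hws, hwc⟩ := hw μ h1 h0
        obtain ⟨π, T, hπ, hT⟩ := std_slot_conj hws
        obtain ⟨π', hπ', hnf⟩ := hcon μ h1 h0
        obtain rfl := hπ.unique (by omega) hπ'
        obtain ⟨hA', eA'⟩ := un_conj hNa (T i)
        obtain ⟨hB', eB'⟩ := un_conj hNb (T j)
        have hz : pureGL (Function.update (Function.update (fun _ => (1 : GL (Fin m) F)) (π j) (un _ hB')) (π i)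
            (un _ hA')) = A * B := by
          rw [← slot_mul_pureGL (π i) _ _ (by simp [hij]), ← slotGL_eq_pureGL, ← eA', ← eB', ← hT, ← hT, hA, hB, eA,
            eB]
          calc _ = w μ * (slotGL i (un Na hNa) * slotGL j (un Nb hNb)) * (w μ)⁻¹ := by group
            _ = _ := by
              rw [← eA, ← eB, ← hA, ← hB, hwc.eq, mul_inv_cancel_right]
        rw [hf] at hz
        have hi : π i = i ∨ π i = j := by
          by_contra hc
          push Not at hc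
          exact hNa0 ((cj (T i)).injective ((factor_eq hz (π i) hA' (A := 0) (by simp) (by simp [un_val])
            (by simp [hc.1, hc.2])).trans (map_zero _).symm))
        have hj : π j = i ∨ π j = j := by
          by_contra hc
          push Not at hc
          exact hNb0 ((cj (T j)).injective ((factor_eq hz (π j) hB' (A := 0) (by simp) (by simp [hij.symm, un_val])
            (by simp [hc.1, hc.2])).trans (map_zero _).symm))
        exact ⟨π, hπ, hi.resolve_left (hnf i), hj.resolve_right (hnf j)⟩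
      have h11 : τ (1 + μ₀) = 1 + μ₀ := by rw [map_add, map_one, hμτ]
      have h10 : 1 + μ₀ ≠ 0 := fun e => hl (by linear_combination e - h2)
      obtain ⟨π₁, hπ₁, -, hj₁⟩ := hperm 1 (map_one τ) one_ne_zero
      obtain ⟨π₂, hπ₂, hi₂, -⟩ := hperm μ₀ hμτ hμ0
      obtain ⟨π₃, hπ₃, hi₃, -⟩ := hperm _ h11 h10
      have he : π₃ = π₁ * π₂ := hπ₃.unique (by omega) (hadd 1 μ₀ ▸ hπ₁.mul hπ₂)
      rw [he, Equiv.Perm.mul_apply, hi₂, hj₁] at hi₃
      exact hij hi₃
    · intro h hh hhs l₀ X hX n hz1 hz2 hn w hw hc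
      obtain ⟨π, T, hπ, hT⟩ := std_slot_conj hhs
      have himg : ∀ {i₁ : Fin (s + 1)} {a : TMat F m (s + 1)} (ha : IsRootU τ i₁ a),
          ∃ hR : IsRootU τ (π i₁) (cj h a), h * oneAdd a ha.sq * h⁻¹ = oneAdd (cj h a) hR.sq := by
        intro i₁ a ha
        obtain ⟨N, hN, -, -, ea, e⟩ := ha.exists_un hτ
        obtain ⟨l', hl'⟩ := hL.root_in_std ha hh (by
          rw [← oneAdd_conj h ha.sq, e, hT]; exact slotGL_mem _ _)
        obtain ⟨a', ha'⟩ := hπ i₁ N
        have := hl'.isRoot.slot_eq a' (by rw [← ha', ← ea])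
        subst this
        exact ⟨hl', oneAdd_conj h ha.sq⟩
      obtain ⟨hR₁, e₁⟩ := himg ha
      obtain ⟨hR₂, e₂⟩ := himg hb
      set R₁ := cj h (slot i (k • ov τ v v))
      set R₂ := cj h (slot j (k • ov τ v v))
      have hll : π i ≠ π j := fun e => hij (π.injective e)
      have hq : h * (A * B) * h⁻¹ = oneAdd R₁ hR₁.sq * oneAdd R₂ hR₂.sq := by
        rw [← e₁, ← e₂]; simp only [A, B]; group
      rw [hq] at hz1 hz2 hn hc
      obtain ⟨N₁, hN₁, -, hNa₁, -, eR₁⟩ := hR₁.exists_un hτ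
      obtain ⟨N₂, hN₂, -, hNa₂, -, eR₂⟩ := hR₂.exists_un hτ
      obtain ⟨Nx, hNx, -, hNxa, -, eX⟩ := hX.exists_un hτ
      by_cases hl₁ : l₀ = π i
      · subst hl₁
        have e : (oneAdd R₁ hR₁.sq * oneAdd R₂ hR₂.sq * oneAdd X hX.sq) ^ n =
            slotGL (π i) ((un N₁ hN₁ * un Nx hNx) ^ n) * oneAdd R₂ hR₂.sq ^ n := by
          have h' : oneAdd R₁ hR₁.sq * oneAdd R₂ hR₂.sq * oneAdd X hX.sq =
              slotGL (π i) (un N₁ hN₁ * un Nx hNx) * oneAdd R₂ hR₂.sq := by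
            rw [mul_assoc, eR₁, eR₂, eX, (slotGL_comm hll.symm _ (un Nx hNx)).eq, ← mul_assoc, ← map_mul]
          rw [h', Commute.mul_pow (eR₂ ▸ slotGL_comm hll _ _), map_pow]
        rw [e] at hz1 hz2 hc
        exact hL.cent_mixed h2 hll (pow_mem (mul_mem (un_UG hN₁ hNa₁) (un_UG hNx hNxa)) n) hR₂ n hz1 hz2 hw hc
      by_cases hl₂ : l₀ = π j
      · subst hl₂
        have e : (oneAdd R₁ hR₁.sq * oneAdd R₂ hR₂.sq * oneAdd X hX.sq) ^ n =
            slotGL (π j) ((un N₂ hN₂ * un Nx hNx) ^ n) * oneAdd R₁ hR₁.sq ^ n := by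
          have h' : oneAdd R₁ hR₁.sq * oneAdd R₂ hR₂.sq * oneAdd X hX.sq =
              slotGL (π j) (un N₂ hN₂ * un Nx hNx) * oneAdd R₁ hR₁.sq := by
            rw [mul_assoc, eR₁, eR₂, eX, ← map_mul, (slotGL_comm hll _ _).eq]
          rw [h', Commute.mul_pow (eR₁ ▸ slotGL_comm hll.symm _ _), map_pow]
        rw [e] at hz1 hz2 hc
        exact hL.cent_mixed h2 hll.symm (pow_mem (mul_mem (un_UG hN₂ hNa₂) (un_UG hNx hNxa)) n) hR₁ n hz1 hz2 hw hc
      have hcomm : Commute (oneAdd R₁ hR₁.sq * oneAdd R₂ hR₂.sq) (oneAdd X hX.sq) := by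
        rw [eR₁, eR₂, eX]
        exact (slotGL_comm (Ne.symm hl₁) _ _).mul_left (slotGL_comm (Ne.symm hl₂) _ _)
      rw [hn hcomm, pow_one, hcomm.eq] at hc
      exact hL.cent_three h2 hl₁ hl₂ hll hX hR₁ hR₂ hw hc
  · -- one slot, two isotropic directions
    obtain ⟨W, hW0, hli, hts⟩ := hτ.exists_ts hv0 hv 1 (by simp; omega)
    set N : Matrix (Fin m) (Fin m) F := k • (ov τ v v + ov τ (W 1) (W 1)) with hNd
    have hvr : hd τ v (W 1) = 0 := hW0 ▸ hts 0 1
    have hrv : hd τ (W 1) v = 0 := hW0 ▸ hts 1 0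
    have hN : N * N = 0 := by
      rw [hNd]
      simp only [Matrix.smul_mul, Matrix.mul_smul, add_mul, mul_add, ov_mul, hv, hts 1 1, hvr, hrv, zero_smul,
        add_zero, smul_zero]
    have hNa : ad τ N = -N := by rw [hNd, ad_smul, ad_add, ad_ov hτ, ad_ov hτ, hk, neg_smul]
    obtain ⟨z₁, hz₁⟩ := hτ.exists_dual hli ![1, 0]
    obtain ⟨z₂, hz₂⟩ := hτ.exists_dual hli ![0, 1]
    have a₁ : hd τ z₁ v = 1 := by rw [← hW0]; exact hz₁ 0
    have b₁ : hd τ z₁ (W 1) = 0 := hz₁ 1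
    have a₂ : hd τ z₂ v = 0 := by rw [← hW0]; exact hz₂ 0
    have b₂ : hd τ z₂ (W 1) = 1 := hz₂ 1
    have hN0 : N ≠ 0 := fun e => by
      have h := congrArg (fun A => A *ᵥ z₁) e
      simp only [hNd, Matrix.smul_mulVec, Matrix.add_mulVec, ov_mulVec, a₁, b₁, one_smul, zero_smul, add_zero,
        Matrix.zero_mulVec] at h
      exact hv0 ((smul_eq_zero.1 h).resolve_left hk0)
    set i : Fin (s + 1) := 0
    have hpM : slotGL i (un N hN) ∈ M := hL.ctx.su i _ (un_UG hN hNa) (by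
      rw [un_val, hNd, show (k • (ov τ v v + ov τ (W 1) (W 1))) = k • ov τ v v + k • ov τ (W 1) (W 1) from smul_add _ _ _,
        show (1 + (k • ov τ v v + k • ov τ (W 1) (W 1)) : Matrix (Fin m) (Fin m) F) =
          (tu τ v hv k).1 * (tu τ (W 1) (hts 1 1) k).1 from ?_, Matrix.det_mul, tu_det, tu_det, one_mul]
      show _ = (1 + k • ov τ v v) * (1 + k • ov τ (W 1) (W 1))
      rw [add_mul, one_mul, mul_add, mul_one, Matrix.smul_mul, Matrix.mul_smul, ov_mul, hrv, zero_smul, smul_zero,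
        smul_zero, add_zero]
      abel)
    refine hL.le_std_of h2 hpM (slotGL_pow_two i (un_sq h2 hN)) (fun w hw hc => hL.cent_slot i hN hN0 hNa hw
      ((cj_eq_self_iff _ _).2 ?_)) ?_ ?_ ?_
    · have := congrArg Units.val hc.eq
      rw [Units.val_mul, Units.val_mul, slotGL_val, un_val, slot_add, slot_one, mul_add, add_mul, mul_one, one_mul]
        at this
      exact add_left_cancel this
    · intro h hh l X hX e
      obtain ⟨l', hl'⟩ := hL.root_in_std hX hh (by rw [← oneAdd_conj h hX.sq, e]; exact slotGL_mem _ _)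
      rw [oneAdd_conj, ← oneAdd_slot i N hN (by rw [← slot_mul, hN, slot_zero])] at e
      have e' := TensorWreathSL.oneAdd_inj e
      have hl0 := hl'.isRoot.slot_eq _ e'
      subst hl0
      obtain ⟨u, k', hu0, -, -, -, eu⟩ := hl'
      rw [eu] at e'
      have e'' := slot_injective _ e'
      have h1 := congrArg (fun A => A *ᵥ z₁) e''
      have h2' := congrArg (fun A => A *ᵥ z₂) e''
      simp only [hNd, Matrix.smul_mulVec, Matrix.add_mulVec, ov_mulVec, a₁, b₁, a₂, b₂, one_smul, zero_smul, add_zero,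
        zero_add, smul_smul] at h1 h2'
      have h3 := Fintype.linearIndependent_iff.1 hli ![k' * hd τ z₂ u * k, -(k' * hd τ z₁ u * k)] (by
        rw [Fin.sum_univ_two, hW0]
        simp only [Matrix.cons_val_zero, Matrix.cons_val_one, neg_smul, ← smul_smul _ k]
        rw [← h1, ← h2', smul_smul (k' * hd τ z₂ u), smul_smul (k' * hd τ z₁ u), mul_comm, add_neg_cancel]) 1
      simp only [Matrix.cons_val_one, Matrix.cons_val_zero, neg_eq_zero] at h3
      rw [(mul_eq_zero.1 h3).resolve_right hk0, zero_smul] at h1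
      exact hv0 ((smul_eq_zero.1 h1.symm).resolve_left hk0)
    · intro w hw _
      obtain ⟨hws, hwc⟩ := hw 1 (map_one τ) one_ne_zero
      refine ⟨1, map_one τ, one_ne_zero, fun π' hπ' => ⟨i, ?_⟩⟩
      obtain ⟨π, T, hπ, hT⟩ := std_slot_conj hws
      obtain rfl := hπ'.unique (by omega) hπ
      obtain ⟨hN', eN'⟩ := un_conj hN (T i)
      refine slot_unique hN' hN (fun e => hN0 ((cj (T i)).injective (e.trans (map_zero _).symm))) ?_
      rw [← eN', ← hT, hwc.eq, mul_inv_cancel_right]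
    · intro h hh hhs l₀ X hX n hz1 hz2 hn w hw hc
      obtain ⟨π, T, hπ, hT⟩ := std_slot_conj hhs
      obtain ⟨hN', eN'⟩ := un_conj hN (T i)
      rw [hT, eN'] at hz1 hz2 hn hc
      set N' := cj (T i) N
      have hu : slotGL (π i) (un N' hN') ∈ UG τ (Fin (s + 1) → Fin m) := by
        rw [← eN', ← hT]
        exact mul_mem (mul_mem (hL.ctx.ug hh) (hL.ctx.ug hpM)) (inv_mem (hL.ctx.ug hh))
      have huU : un N' hN' ∈ UG τ (Fin m) := by
        rw [mem_UG, slotGL_val, ad_slot, ← slot_mul, ← slot_one (F := F) (d := m) (π i)] at hu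
        exact mem_UG.2 (slot_injective _ hu)
      obtain ⟨Nx, hNx, -, hNxa, -, eX⟩ := hX.exists_un hτ
      by_cases hl : l₀ = π i
      · subst hl
        rw [eX, ← map_mul, ← map_pow] at hz1 hz2 hc
        refine hL.cent_slotGL h2 (pow_mem (mul_mem huU (un_UG hNx hNxa)) n) ?_ (fun e => hz1 (by rw [e, map_one])) hw hc
        refine Units.ext (slot_injective (π i) ?_)
        rw [← map_mul] at hz2
        rw [Units.val_one, slot_one]
        exact congrArg Units.val hz2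
      · have hcomm : Commute (slotGL (π i) (un N' hN')) (oneAdd X hX.sq) :=
          eX ▸ slotGL_comm (Ne.symm hl) _ _
        rw [hn hcomm, pow_one] at hc
        exact hL.cent_two h2 (Ne.symm hl) hN' hX hw hc

end CfsgLib.TensorWreathSU
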