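import Cfsg.Agent.Lib.TensorWreathSU.Fusion
import Cfsg.Agent.Lib.TensorWreath.RepThree

/-!
Odd characteristic, and the conclusion: a unitary group containing the special unitary group of each slot without
twisted roots lies in the tensor wreath group.
-/

set_option autoImplicit false
set_option linter.unusedSectionVars false

namespace CfsgLib.TensorWreathSU

open Cfsg Cfsg.Geo CfsgLib.Aschbacher CfsgLib.AschbacherForm CfsgLib.TensorWreath CfsgLib.TensorWreathSL
open CfsgLib.TensorMax.Unitary (Conj hd hd_add_left hd_add_right hd_smul_left hd_smul_right hd_sub_left hd_sub_right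
  hd_zero_left hd_zero_right hd_neg_left hd_neg_right)
open scoped Matrix MatrixGroups
open Polynomial (aeval)

variable {F : Type*} [Field F] [Fintype F] {m s : ℕ} [NeZero m] {τ : F ≃+* F}

/-- The fixed field. -/
abbrev fixF (τ : F ≃+* F) : Subfield F := RingHom.eqLocusField (τ : F →+* F) (RingHom.id F)

theorem smul_fixF {n : ℕ} (c : fixF τ) (Y : TMat F m n) : c • Y = (c : F) • Y := rfl

theorem ad_aeval {n : ℕ} {z : TMat F m n} (hz : ad τ z = z) (p : Polynomial (fixF τ)) :
    ad τ (aeval z p) = aeval z p := by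
  have hzn : ∀ k : ℕ, ad τ (z ^ k) = z ^ k := fun k => by
    induction k with
    | zero => rw [pow_zero, ad_one]
    | succ k ih => rw [pow_succ, ad_mul, hz, ih, ← pow_succ', pow_succ]
  induction p using Polynomial.induction_on' with
  | add p q hp hq => rw [map_add, ad_add, hp, hq]
  | monomial k c =>
    rw [Polynomial.aeval_monomial, ← Algebra.smul_def, smul_fixF, ad_smul, hzn, show τ (c : F) = c from c.2]

theorem ad_zEl {n : ℕ} {X b : TMat F m n} (hX : ad τ X = -X) (hb : ad τ b = -b) :
    ad τ (zEl X b) = zEl X b := by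
  rw [zEl, ad_add, ad_mul, ad_mul, hX, hb, neg_mul_neg, neg_mul_neg, add_comm]

theorem fixed_of_skew {n : ℕ} {W X : TMat F m n} (hW : ad τ W = -W) (hX : ad τ X = -X) (hX0 : X ≠ 0)
    {c : F} (h : W = c • X) : τ c = c := by
  rw [h, ad_smul, hX, smul_neg, neg_inj, ← sub_eq_zero, ← sub_smul] at hW
  exact sub_eq_zero.1 ((smul_eq_zero.1 hW).resolve_right hX0)

variable {M : Subgroup (GL (Fin (s + 1) → Fin m) F)}

theorem Lev.unip (hL : Lev τ M) {i : Fin (s + 1)} {X : TMat F m (s + 1)} (hX : IsRootU τ i X) :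
    Unip (fixF τ) M X := by
  refine ⟨hX.sq, fun c => ?_⟩
  rcases eq_or_ne c 0 with rfl | hc
  · exact ⟨1, one_mem _, by simp⟩
  · exact ⟨_, hL.root_mem (hX.smul_fixed (fun e => hc (Subtype.ext e)) c.2), rfl⟩

theorem Lev.unip_conj (hL : Lev τ M) {i : Fin (s + 1)} {X : TMat F m (s + 1)} (hX : IsRootU τ i X)
    {g : GL (Fin (s + 1) → Fin m) F} (hg : g ∈ M) : Unip (fixF τ) M (cj g X) := by
  refine ⟨cj_sq g hX.sq, fun c => ?_⟩
  rcases eq_or_ne c 0 with rfl | hc
  · exact ⟨1, one_mem _, by simp⟩
  · refine ⟨_, hL.conj_mem (hX.smul_fixed (fun e => hc (Subtype.ext e)) c.2) hg, ?_⟩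
    show (1 : TMat F m (s + 1)) + cj g ((c : F) • X) = 1 + c • cj g X
    rw [map_smul]
    rfl

/-- An element `1 + P X` with `P` commuting with the root `X` is in the root group. -/
theorem Lev.rad_scalar (hL : Lev τ M) {i : Fin (s + 1)} {X P : TMat F m (s + 1)} (hX : IsRootU τ i X)
    (hP : Commute P X) (h : InM M (1 + P * X)) : ∃ c : F, P * X = c • X := by
  have hτ := hL.conj
  obtain ⟨v, k, hv0, hv, hk0, -, eX⟩ := id hX
  obtain ⟨v', -, hvv'⟩ := hτ.exists_partner hv0 hv
  set b : TMat F m (s + 1) := slot i (k⁻¹ • ov τ v' v')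
  have eXc : X = k • (col i v * row τ i v) := by rw [eX, slot_smul, slot_ov]
  have hXbX : X * b * X = X := by
    rw [eX, ← slot_mul, ← slot_mul]
    simp only [Matrix.smul_mul, Matrix.mul_smul, ov_mul, hvv', hd_one hτ hvv', one_smul, smul_smul]
    rw [show k * (k⁻¹ * k) = k by field_simp]
  set D := (k * k) • (row τ i v * (b * P) * col i v)
  have e : P * X = col i v * D * row τ i v := by
    calc P * X = X * P := hP.eq
      _ = (X * b * X) * P := by rw [hXbX]
      _ = X * (b * P) * X := by simp only [mul_assoc, hP.eq]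
      _ = col i v * D * row τ i v := by
        simp only [eXc, D, Matrix.smul_mul, Matrix.mul_smul, smul_smul, Matrix.mul_assoc]
  obtain ⟨c, hc⟩ := (hL.ctx.one i).rad hv0 hv (C := D) (e ▸ h)
  refine ⟨c / k, ?_⟩
  rw [e, hc, Matrix.mul_smul, Matrix.mul_one, Matrix.smul_mul, eXc, smul_smul, div_mul_cancel₀ _ hk0]

/-- In odd characteristic a root sandwiches a skew unipotent element into its line. -/
theorem Lev.scal (hL : Lev τ M) (h2 : (2 : F) ≠ 0) {i : Fin (s + 1)} {X C : TMat F m (s + 1)}
    (hX : IsRootU τ i X) (hC : Unip (fixF τ) M C) (hCa : ad τ C = -C) : ∃ c : F, X * C * X = c • X := by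
  by_contra hcon
  push Not at hcon
  have hτ := hL.conj
  have hXu := hL.unip hX
  have hXa := hX.ad_eq hτ
  have hn : ∀ c : fixF τ, X * C * X ≠ c • X := fun c => hcon c
  have hskew : ∀ (b : TMat F m (s + 1)), ad τ b = -b → ∀ p : Polynomial (fixF τ),
      ad τ (aeval (zEl X b) p * X) = -(aeval (zEl X b) p * X) := fun b hb p => by
    rw [ad_mul, hXa, ad_aeval (ad_zEl hXa hb), neg_mul, aeval_comm (commute_left hXu.sq)]
  have key : ¬ ∃ p : Polynomial (fixF τ), InM M (1 + aeval (zEl X C) p * X) ∧
      ∀ c : fixF τ, aeval (zEl X C) p * X ≠ c • X := by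
    rintro ⟨p, hp, hne⟩
    obtain ⟨c, hc⟩ := hL.rad_scalar hX (aeval_comm (commute_left hXu.sq) p).symm hp
    exact hne ⟨c, fixed_of_skew (hskew C hCa p) hXa hX.ne_zero hc⟩ hc
  have h2K : (2 : fixF τ) ≠ 0 := fun e => h2 (congrArg Subtype.val e)
  by_cases h5 : 5 ≤ Nat.card (fixF τ)
  · exact key (pair_rad h2K h5 hXu hC hn)
  have hk3 : Nat.card (fixF τ) = 3 := by
    have := Fintype.ofFinite (fixF τ)
    have hodd : Odd (Fintype.card (fixF τ)) := Nat.odd_iff.2 (FiniteField.odd_card_of_char_ne_two fun e =>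
      h2K (by rw [← Nat.cast_two, ← e]; exact ringChar.Nat.cast_ringChar))
    have := Fintype.one_lt_card (α := fixF τ)
    rw [Nat.card_eq_fintype_card] at h5 ⊢
    obtain ⟨k, hk⟩ := hodd
    omega
  have hP : ∀ x : TMat F m (s + 1), ad τ x = -x →
      ad τ ((1 + (1 : fixF τ) • x) * X * (1 - (1 : fixF τ) • x)) =
        -((1 + (1 : fixF τ) • x) * X * (1 - (1 : fixF τ) • x)) := fun x hx => by
    simp only [one_smul, ad_mul, ad_sub, ad_add, ad_one, hx, hXa]
    rw [sub_neg_eq_add, ← sub_eq_add_neg, neg_mul, mul_neg, mul_assoc]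
  rcases pair_three hk3 (fun x => ad τ x = -x) hXu hP hC hCa hn with h | ⟨b, -, hb, hlev⟩
  · exact key h
  obtain ⟨r, u, v, ⟨g, hg, hge⟩, -, -, hu⟩ := hlev
  set z := zEl X b with hz
  have cz : ∀ p : Polynomial (fixF τ), aeval z p * X = X * aeval z p := fun p =>
    (aeval_comm (commute_left hXu.sq) p).symm
  have hXX := hXu.sq
  have hgX : g.1 * X = X * (1 + aeval z u * (b * X)) := by
    rw [hge]
    simp only [add_mul, one_mul, mul_assoc, hXX, mul_zero, add_zero, mul_add, mul_one]
    rw [← mul_assoc X (aeval z u), ← cz u, mul_assoc]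
  obtain ⟨-, A, B, -, -, -, eg⟩ := hL.std_of_mul hX hg hgX
  obtain ⟨w, k, hw0, hw, hk0, -, eX⟩ := id hX
  obtain ⟨w', hw', hww'⟩ := hτ.exists_partner hw0 hw
  obtain ⟨n, hnw, -, hnn⟩ := exists_mid hτ hL.hm hw hw' hww'
  have eXc : X = k • (col i w * row τ i w) := by rw [eX, slot_smul, slot_ov]
  have hrX : row τ i n * X = 0 := by
    rw [eXc, Matrix.mul_smul, ← Matrix.mul_assoc, row_mul_col, hτ.hd_symm_zero hnw, zero_smul, Matrix.zero_mul,
      smul_zero]
  have hXn : X * col i n = 0 := by
    rw [eXc, Matrix.smul_mul, Matrix.mul_assoc, row_mul_col, hnw, zero_smul, Matrix.mul_zero, smul_zero]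
  have hmid : hd τ (A.1 *ᵥ n) n • (B : TMat F m s) = hd τ n n • 1 := by
    have h1 : row τ i n * g.1 * col i n = hd τ (A.1 *ᵥ n) n • (B : TMat F m s) := by
      rw [eg, Units.val_mul, slotGL_val, emb_val, Matrix.mul_assoc, Matrix.mul_assoc, embM_mul_col,
        ← Matrix.mul_assoc, ← Matrix.mul_assoc, row_slot_col, Matrix.smul_mul, Matrix.one_mul]
    have a1 : row τ i n * (aeval z r * X) * col i n = 0 := by
      rw [cz, ← Matrix.mul_assoc, hrX, Matrix.zero_mul, Matrix.zero_mul]
    have a2 : row τ i n * (aeval z u * (X * b)) * col i n = 0 := by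
      rw [← mul_assoc (aeval z u), cz, mul_assoc X, ← Matrix.mul_assoc, hrX, Matrix.zero_mul, Matrix.zero_mul]
    have a3 : row τ i n * (aeval z v * (b * X)) * col i n = 0 := by
      rw [← mul_assoc (aeval z v), Matrix.mul_assoc, Matrix.mul_assoc, hXn, Matrix.mul_zero, Matrix.mul_zero]
    rw [← h1, hge, Matrix.mul_add, Matrix.mul_add, Matrix.mul_add, Matrix.add_mul, Matrix.add_mul, Matrix.add_mul,
      a1, a2, a3, add_zero, add_zero, add_zero, Matrix.mul_one, row_mul_col]
  set kk : F := hd τ (A.1 *ᵥ n) n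
  have hkk : kk ≠ 0 := fun e => by
    rw [e, zero_smul] at hmid
    exact hnn ((smul_eq_zero.1 hmid.symm).resolve_right one_ne_zero)
  have hB : (B : TMat F m s) = (kk⁻¹ * hd τ n n) • 1 := by rw [← smul_smul, ← hmid, inv_smul_smul₀ hkk]
  set A' := (kk⁻¹ * hd τ n n) • A.1
  have hgA : g.1 = slot i A' := by
    rw [eg, Units.val_mul, slotGL_val, emb_val, hB, map_smul, map_one, Matrix.mul_smul, mul_one, slot_smul]
  have hzu : aeval z (Polynomial.X * u) * X = X * (aeval z u * b) * X := by
    rw [mul_comm Polynomial.X u, map_mul (aeval z), Polynomial.aeval_X, mul_assoc, hz, zEl_mul_left hXX]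
    simp only [← mul_assoc, ← hz, cz u]
  have hslot : aeval z (Polynomial.X * u) * X = slot i (A' * (k • ov τ w w) - k • ov τ w w) := by
    rw [slot_minus, slot_mul, ← hgA, ← eX, hgX, hzu, mul_add, mul_one, add_sub_cancel_left]
    simp only [mul_assoc]
  set D := (k * k) • (row τ i w * (aeval z u * b) * col i w)
  have hform : aeval z (Polynomial.X * u) * X = col i w * D * row τ i w := by
    rw [hzu]
    simp only [eXc, D, Matrix.smul_mul, Matrix.mul_smul, smul_smul, Matrix.mul_assoc]
  obtain ⟨d, hd'⟩ : ∃ d : F, D = d • 1 := by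
    refine ⟨hd τ ((A' * (k • ov τ w w) - k • ov τ w w) *ᵥ w') w', ?_⟩
    have h1 := congrArg (fun Y => row τ i w' * Y * col i w') (hform.symm.trans hslot)
    simp only [row_slot_col] at h1
    rw [show row τ i w' * (col i w * D * row τ i w) * col i w' = (row τ i w' * col i w) * D * (row τ i w * col i w') by
      simp only [Matrix.mul_assoc], row_mul_col, row_mul_col, hd_one hτ hww', hww', one_smul, Matrix.one_mul,
      Matrix.mul_one] at h1
    exact h1
  have hWX : aeval z (Polynomial.X * u) * X = (d / k) • X := by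
    rw [hform, hd', Matrix.mul_smul, Matrix.mul_one, Matrix.smul_mul, eXc, smul_smul, div_mul_cancel₀ _ hk0]
  exact hu ⟨d / k, fixed_of_skew (hskew b hb _) hXa hX.ne_zero hWX⟩ hWX

/-- A square-zero element of the shape `S ⊗ 1 + 1 ⊗ X` lies in one factor. -/
theorem split_sq (h2 : (2 : F) ≠ 0) {i : Fin (s + 1)} {S : Matrix (Fin m) (Fin m) F} {X : TMat F m s}
    (h : (slot i S + embM i X) * (slot i S + embM i X) = 0) :
    (∃ S', slot i S + embM i X = slot i S') ∨ Cent i (slot i S + embM i X) := by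
  have hent : ∀ k l, (S * S) k l • (1 : TMat F m s) + (2 : F) • S k l • X + (if k = l then X * X else 0) = 0 := by
    intro k l
    have h1 := congrFun (congrFun (congrArg (blk i) h) k) l
    rw [map_mul, map_add, blk_slot_self, blk_embM, map_zero] at h1
    simp only [add_mul, mul_add] at h1
    rw [← map_mul up, ← map_mul dg, dg_up_comm] at h1
    simp only [Matrix.add_apply, up_dg_apply, up_apply, dg_apply, Matrix.zero_apply] at h1
    refine Eq.trans ?_ h1
    rw [two_smul]
    abel
  by_cases hX : ∃ c : F, X = c • 1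
  · obtain ⟨c, rfl⟩ := hX
    exact Or.inl ⟨S + c • 1, by rw [map_smul, map_one, slot_add, slot_smul, slot_one]⟩
  right
  have hS : S = S 0 0 • (1 : Matrix (Fin m) (Fin m) F) := by
    have hoff : ∀ k l, k ≠ l → S k l = 0 := fun k l hkl => by
      by_contra hne
      have h1 := hent k l
      rw [if_neg hkl, add_zero, smul_smul] at h1
      refine hX ⟨((2 : F) * S k l)⁻¹ * -(S * S) k l, ?_⟩
      rw [← smul_smul, neg_smul, ← eq_neg_of_add_eq_zero_right h1, inv_smul_smul₀ (mul_ne_zero h2 hne)]
    have hsq : ∀ k, (S * S) k k = S k k * S k k := fun k => by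
      rw [Matrix.mul_apply, Finset.sum_eq_single k (fun l _ hl => by rw [hoff k l (Ne.symm hl), zero_mul]) (by simp)]
    ext k l
    rw [Matrix.smul_apply, Matrix.one_apply, smul_eq_mul]
    rcases eq_or_ne k l with rfl | hkl
    · rw [if_pos rfl, mul_one]
      by_contra hne
      have h1 := hent k k
      have h0 := hent 0 0
      rw [if_pos rfl, hsq, smul_smul] at h1 h0
      have h3 : (S k k * S k k - S 0 0 * S 0 0) • (1 : TMat F m s) + ((2 : F) * (S k k - S 0 0)) • X = 0 := by
        rw [sub_smul, mul_sub, sub_smul, sub_add_sub_comm, sub_eq_zero]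
        exact add_right_cancel (h1.trans h0.symm)
      refine hX ⟨((2 : F) * (S k k - S 0 0))⁻¹ * -(S k k * S k k - S 0 0 * S 0 0), ?_⟩
      rw [← smul_smul, neg_smul, ← eq_neg_of_add_eq_zero_right h3,
        inv_smul_smul₀ (mul_ne_zero h2 (sub_ne_zero.2 hne))]
    · rw [if_neg hkl, mul_zero]; exact hoff k l hkl
  rw [hS]
  exact (cent_iff i _).2 ⟨S 0 0 • 1 + X, by rw [map_add, map_smul, map_one, slot_smul, slot_one]⟩

/-- Odd characteristic. -/
theorem Lev.le_std_odd (hL : Lev τ M) (h2 : (2 : F) ≠ 0) : M ≤ Std F m (s + 1) := by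
  intro g hg
  have hτ := hL.conj
  obtain ⟨e, f, he, hf, hef, he0, hf0⟩ := exists_pair (F := F) (m := m) hτ hL.hm
  obtain ⟨k, hk0, hk⟩ := hτ.exists_skew
  set a : TMat F m (s + 1) := slot (0 : Fin (s + 1)) (k • ov τ e e)
  have ha : IsRootU τ (0 : Fin (s + 1)) a := isRootU_mk he0 he hk0 hk
  set C := cj g a with hC
  have hCu := hL.unip_conj ha hg
  have hCa : ad τ C = -C := by rw [hC, cj_ad (hL.ctx.ug hg), ha.ad_eq hτ, map_neg]
  have hCsq : C * C = 0 := cj_sq g ha.sq
  have hiso : ∀ (i : Fin (s + 1)) (v : Fin m → F), hd τ v v = 0 →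
      ∃ c : F, row τ i v * C * col i v = c • 1 := by
    intro i v hv
    rcases eq_or_ne v 0 with rfl | hv0
    · exact ⟨0, by rw [col_zero, Matrix.mul_zero, zero_smul]⟩
    obtain ⟨c, hc⟩ := hL.scal h2 (isRootU_mk (i := i) hv0 hv hk0 hk) hCu hCa
    obtain ⟨v', hv', hvv'⟩ := hτ.exists_partner hv0 hv
    refine ⟨(k * k)⁻¹ * (c * k), ?_⟩
    have h1 := congrArg (fun Y => row τ i v' * Y * col i v') hc
    simp only [slot_smul, slot_ov, Matrix.smul_mul, Matrix.mul_smul, smul_smul] at h1
    rw [show row τ i v' * (col i v * row τ i v * C * (col i v * row τ i v)) * col i v' =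
        (row τ i v' * col i v) * (row τ i v * C * col i v) * (row τ i v * col i v') by simp only [Matrix.mul_assoc],
      show row τ i v' * (col i v * row τ i v) * col i v' = (row τ i v' * col i v) * (row τ i v * col i v') by
        simp only [Matrix.mul_assoc], row_mul_col, row_mul_col, hd_one hτ hvv', hvv', one_smul, Matrix.one_mul,
      Matrix.mul_one, Matrix.one_mul] at h1
    rw [← smul_smul, ← h1, inv_smul_smul₀ (mul_ne_zero hk0 hk0)]
  have hshape : ∀ i : Fin (s + 1), (∃ S', C = slot i S') ∨ Cent i C := by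
    intro i
    let U : Submodule F (TMat F m s) := F ∙ (1 : TMat F m s)
    have hΨ := sesq_eq hτ (W := TMat F m s ⧸ U) (fun y z => Submodule.Quotient.mk (row τ i z * C * col i y))
      (fun x y z => by rw [col_add, Matrix.mul_add, Submodule.Quotient.mk_add])
      (fun x y z => by rw [row_add, Matrix.add_mul, Matrix.add_mul, Submodule.Quotient.mk_add])
      (fun c x y => by rw [col_smul, Matrix.mul_smul, Submodule.Quotient.mk_smul])
      (fun c x y => by rw [row_smul, Matrix.smul_mul, Matrix.smul_mul, Submodule.Quotient.mk_smul])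
      (fun v hv => (Submodule.Quotient.mk_eq_zero U).2 (Submodule.mem_span_singleton.2
        ((hiso i v hv).imp fun c hc => hc.symm))) he hf hef
    set X₀ := row τ i f * C * col i e
    have hblk : ∀ p q : Fin m, ∃ c : F, blk i C p q = (if p = q then X₀ else 0) + c • 1 := by
      intro p q
      have h1 := hΨ (Pi.single q 1) (Pi.single p 1)
      simp only [← Submodule.Quotient.mk_smul, Submodule.Quotient.eq, U, Submodule.mem_span_singleton] at h1
      obtain ⟨c, hc⟩ := h1
      have e1 : row τ i (Pi.single p (1 : F)) * C * col i (Pi.single q (1 : F)) = blk i C p q := by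
        rw [rowM_mul_colM, Finset.sum_eq_single p, Finset.sum_eq_single q]
        · simp
        · intro b _ hb; simp [hb]
        · simp
        · intro b _ hb; exact Finset.sum_eq_zero fun l _ => by simp [hb]
        · simp
      refine ⟨c, ?_⟩
      rw [← e1, hc, TensorMax.Unitary.hd_single_right, map_one, mul_one, Pi.single_apply]
      by_cases h : p = q
      · subst h; simp
      · simp [h]
    choose c hc using hblk
    have hCe : C = slot i (Matrix.of c) + embM i X₀ := (blk i).injective (by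
      rw [map_add, blk_slot_self, blk_embM]
      ext p q : 2
      rw [Matrix.add_apply, up_apply, dg_apply, hc, Matrix.of_apply, add_comm])
    have := split_sq h2 (i := i) (S := Matrix.of c) (X := X₀) (hCe ▸ hCsq)
    rwa [← hCe] at this
  obtain ⟨i, S, hS⟩ : ∃ i S, C = slot i S := by
    by_contra hcon
    push Not at hcon
    obtain ⟨c, hc⟩ := eq_scalar_of_cent fun i => (hshape i).resolve_left fun ⟨S, h⟩ => hcon i S h
    have h0 := hCsq
    rw [hc, Matrix.smul_mul, one_mul, smul_smul] at h0
    have hc0 : c = 0 := mul_self_eq_zero.1 ((smul_eq_zero.1 h0).resolve_right one_ne_zero)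
    exact ha.ne_zero ((cj g).injective (by rw [map_zero, ← hC, hc, hc0, zero_smul]))
  refine hL.std_of_conj ha hg ?_
  have hSS : S * S = 0 := slot_injective i (by rw [slot_mul, ← hS, hCsq, slot_zero])
  rw [show oneAdd (cj g a) (cj_sq g ha.sq) = slotGL i (un S hSS) from Units.ext (by
    show (1 : TMat F m (s + 1)) + C = slot i (1 + S)
    rw [hS, slot_add, slot_one])]
  exact slotGL_mem _ _

/-- A unitary group containing the special unitary groups of the slots without twisted roots is in the tensor wreath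
group. -/
theorem le_std (hm : 3 ≤ m) (hbig : Big τ m) :
    ∀ (s : ℕ) (M : Subgroup (GL (Fin (s + 1) → Fin m) F)), SUCtx τ M → M ≤ Std F m (s + 1) := by
  intro s
  induction s with
  | zero =>
    intro M _ g _
    refine std_of_rep (π := 1) Nat.one_pos fun i a =>
      ⟨Matrix.of fun p q => cj g (slot i a) (fun _ => p) (fun _ => q), Matrix.ext fun x y => ?_⟩
    have hx : ∀ x : Fin 1 → Fin m, (fun _ => x i) = x := fun x => funext fun j => by
      rw [Subsingleton.elim (α := Fin 1) j i]
    show _ = slot i _ x y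
    conv_rhs => rw [slot, Matrix.of_apply, Matrix.of_apply,
      if_pos (fun j hj => absurd (Subsingleton.elim (α := Fin 1) j i) hj)]
    rw [hx, hx]
  | succ s ih =>
    intro M hM
    have hL : Lev τ M := ⟨hm, s.succ_pos, hbig, hM, ih⟩
    by_cases h2 : (2 : F) = 0
    · exact hL.le_std_two h2
    · exact hL.le_std_odd h2

end CfsgLib.TensorWreathSU
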