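import Cfsg.Agent.Lib.TensorWreathSU.Odd

/-!
Pure vectors of a tensor power and centres all whose unitary transvections lie in a group.
-/

set_option autoImplicit false
set_option linter.unusedSectionVars false

namespace CfsgLib.TensorWreathSU

open Cfsg Cfsg.Geo CfsgLib.Aschbacher CfsgLib.AschbacherForm CfsgLib.TensorWreath CfsgLib.TensorWreathSL
open CfsgLib.TensorMax.Unitary (Conj hd hd_add_left hd_add_right hd_smul_left hd_smul_right hd_sub_left hd_sub_right
  hd_zero_left hd_zero_right hd_neg_left hd_neg_right hd_sum_left)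
open scoped Matrix MatrixGroups

variable {F : Type*} [Field F] [Fintype F] {m s : ℕ} [NeZero m] {τ : F ≃+* F}

section rect

variable {ι κ : Type} [Fintype ι] [Fintype κ]

theorem hd_adj (hτ : Conj τ) (A : Matrix ι κ F) (u : κ → F) (v : ι → F) :
    hd τ (A *ᵥ u) v = hd τ u (ad τ A *ᵥ v) := by
  simp only [TensorMax.Unitary.hd_apply, Matrix.mulVec, dotProduct, ad_apply, map_sum, map_mul, hτ.invol,
    Finset.sum_mul, Finset.mul_sum]
  rw [Finset.sum_comm]
  exact Finset.sum_congr rfl fun _ _ => Finset.sum_congr rfl fun _ _ => by ring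

theorem ov_mulVec_mulVec (A : Matrix ι κ F) (B : Matrix ι κ F) (u v : κ → F) :
    ov τ (A *ᵥ u) (B *ᵥ v) = A * ov τ u v * ad τ B := by
  rw [ov, ov, Matrix.mul_vecMulVec, Matrix.vecMulVec_mul]
  congr 1
  funext b
  simp [Matrix.vecMul, Matrix.mulVec, dotProduct, ad_apply, map_sum, mul_comm]

end rect

/-! ### Full centres -/

section full

variable {ι : Type} [Fintype ι] [DecidableEq ι] {M : Subgroup (GL ι F)}

/-- All transvections with the given centre are in the group. -/
def Pt (τ : F ≃+* F) (M : Subgroup (GL ι F)) (z : ι → F) : Prop :=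
  ∀ k : F, τ k = -k → InM M (1 + k • ov τ z z)

theorem Pt.zero : Pt τ M 0 := fun k _ => by rw [ov_zero_left, smul_zero, add_zero]; exact InM.one

theorem Pt.smul (hτ : Conj τ) {z : ι → F} (h : Pt τ M z) (c : F) : Pt τ M (c • z) := fun k hk => by
  rw [ov_smul_left, ov_smul_right, smul_smul, smul_smul]
  exact h _ (by rw [map_mul, map_mul, hk, hτ.invol]; ring)

theorem Pt.map (hM : M ≤ UG τ ι) {z : ι → F} (h : Pt τ M z) {g : GL ι F} (hg : g ∈ M) :
    Pt τ M ((g : Matrix ι ι F) *ᵥ z) := fun k hk => by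
  obtain ⟨x, hx, ex⟩ := h k hk
  refine ⟨g * x * g⁻¹, mul_mem (mul_mem hg hx) (inv_mem hg), ?_⟩
  rw [Units.val_mul, Units.val_mul, ex, ov_mulVec_mulVec, ad_of_mem (hM hg), Matrix.mul_add, Matrix.add_mul,
    mul_one, Units.mul_inv, Matrix.mul_smul, Matrix.smul_mul]

/-- A full centre moved by the transvections of another one. -/
theorem Pt.move (hτ : Conj τ) (hM : M ≤ UG τ ι) {u v : ι → F} (hu : Pt τ M u) (hv : Pt τ M v) (huu : hd τ u u = 0)
    (hvv : hd τ v v = 0) (huv : hd τ u v ≠ 0) (hsum : hd τ (u + v) (u + v) = 0) : Pt τ M (u + v) := by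
  have hk : τ (hd τ u v)⁻¹ = -(hd τ u v)⁻¹ := by
    simp only [hd_add_left, hd_add_right, huu, hvv] at hsum
    rw [map_inv₀, ← inv_neg, hτ.hd_conj]
    congr 1
    linear_combination hsum
  obtain ⟨g, hg, eg⟩ := hv _ hk
  have h := hu.map hM hg
  rwa [eg, Matrix.add_mulVec, Matrix.one_mulVec, Matrix.smul_mulVec, ov_mulVec, smul_smul, inv_mul_cancel₀ huv,
    one_smul] at h

end full

/-! ### Pure vectors -/

/-- A pure vector of the tensor power. -/
def pv {n : ℕ} (v : Fin n → Fin m → F) : (Fin n → Fin m) → F := fun x => ∏ j, v j (x j)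

/-- A vector of one slot times one of the others. -/
abbrev ten (i : Fin (s + 1)) (u : Fin m → F) (w : (Fin s → Fin m) → F) : (Fin (s + 1) → Fin m) → F :=
  col i u *ᵥ w

theorem pure'_mulVec_pv {n : ℕ} (a : Fin n → Matrix (Fin m) (Fin m) F) (v : Fin n → Fin m → F) :
    (pure' a : TMat F m n) *ᵥ pv v = pv fun j => a j *ᵥ v j := by
  funext x
  simp only [pv, pure', Matrix.mulVec, dotProduct, Matrix.of_apply, Fintype.prod_sum, Finset.prod_mul_distrib]

theorem ov_pv {n : ℕ} (v w : Fin n → Fin m → F) : ov τ (pv v) (pv w) = pure' fun j => ov τ (v j) (w j) := by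
  ext x y
  simp [ov, pv, pure', Matrix.vecMulVec_apply, map_prod, Finset.prod_mul_distrib]

theorem hd_pv {n : ℕ} (v w : Fin n → Fin m → F) : hd τ (pv v) (pv w) = ∏ j, hd τ (v j) (w j) := by
  simp only [TensorMax.Unitary.hd_apply, pv, map_prod, ← Finset.prod_mul_distrib, Fintype.prod_sum]

theorem pv_zero_of {n : ℕ} {v : Fin n → Fin m → F} (j : Fin n) (h : v j = 0) : pv v = 0 := by
  funext x
  exact Finset.prod_eq_zero (Finset.mem_univ j) (by simp [h])

theorem slot_mulVec_pv {n : ℕ} (i : Fin n) (A : Matrix (Fin m) (Fin m) F) (v : Fin n → Fin m → F) :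
    slot i A *ᵥ pv v = pv (Function.update v i (A *ᵥ v i)) := by
  rw [slot_eq_pure, pure'_mulVec_pv]
  congr 1
  funext j
  rcases eq_or_ne j i with rfl | hj <;> simp [*]

theorem ten_pv (i : Fin (s + 1)) (u : Fin m → F) (v : Fin s → Fin m → F) :
    ten i u (pv v) = pv (i.insertNth u v) := by
  funext x
  simp only [ten, colM, Matrix.mulVec, dotProduct, Matrix.of_apply, ite_mul, zero_mul, if_true,
    Finset.sum_ite_eq, Finset.mem_univ, pv]
  rw [Fin.prod_univ_succAbove _ i]
  simp [Fin.removeNth]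

theorem ten_add (i : Fin (s + 1)) (u : Fin m → F) (w w' : (Fin s → Fin m) → F) :
    ten i u (w + w') = ten i u w + ten i u w' := Matrix.mulVec_add _ _ _

theorem ten_smul (i : Fin (s + 1)) (u : Fin m → F) (c : F) (w : (Fin s → Fin m) → F) :
    ten i u (c • w) = c • ten i u w := Matrix.mulVec_smul _ _ _

theorem ten_add_left (i : Fin (s + 1)) (u u' : Fin m → F) (w : (Fin s → Fin m) → F) :
    ten i (u + u') w = ten i u w + ten i u' w := by simp only [ten, col_add, Matrix.add_mulVec]

theorem ten_smul_left (i : Fin (s + 1)) (c : F) (u : Fin m → F) (w : (Fin s → Fin m) → F) :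
    ten i (c • u) w = c • ten i u w := by simp only [ten, col_smul, Matrix.smul_mulVec]

theorem hd_ten (hτ : Conj τ) (i : Fin (s + 1)) (u u' : Fin m → F) (w w' : (Fin s → Fin m) → F) :
    hd τ (ten i u w) (ten i u' w') = hd τ u u' * hd τ w w' := by
  rw [hd_adj hτ, ad_col, Matrix.mulVec_mulVec, row_mul_col, Matrix.smul_mulVec, Matrix.one_mulVec, hd_smul_right,
    hτ.hd_conj]

theorem slot_mulVec_ten (i : Fin (s + 1)) (A : Matrix (Fin m) (Fin m) F) (u : Fin m → F)
    (w : (Fin s → Fin m) → F) : slot i A *ᵥ ten i u w = ten i (A *ᵥ u) w := by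
  rw [Matrix.mulVec_mulVec, slot_mul_col]

theorem embM_mulVec_ten (i : Fin (s + 1)) (B : TMat F m s) (u : Fin m → F)
    (w : (Fin s → Fin m) → F) : embM i B *ᵥ ten i u w = ten i u (B *ᵥ w) := by
  rw [Matrix.mulVec_mulVec, embM_mul_col, ← Matrix.mulVec_mulVec]

theorem ov_ten (i : Fin (s + 1)) (u u' : Fin m → F) (w w' : (Fin s → Fin m) → F) :
    ov τ (ten i u w) (ten i u' w') = col i u * ov τ w w' * row τ i u' := by
  rw [ov_mulVec_mulVec, ad_col]

/-- Vectors as sums over the rows of one slot. -/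
theorem sum_ten (i : Fin (s + 1)) (z : (Fin (s + 1) → Fin m) → F) :
    z = ∑ a : Fin m, ten i (Pi.single a 1) (row τ i (Pi.single a 1) *ᵥ z) := by
  conv_lhs => rw [← Matrix.one_mulVec z, ← sum_slot_single (τ := τ) i, Matrix.sum_mulVec]
  exact Finset.sum_congr rfl fun a _ => (Matrix.mulVec_mulVec _ _ _).symm

/-- Centres all of whose slots are isotropic. -/
def GoodP {n : ℕ} (τ : F ≃+* F) (M : Subgroup (GL (Fin n → Fin m) F)) : Prop :=
  ∀ v : Fin n → Fin m → F, (∀ j, hd τ (v j) (v j) = 0) → Pt τ M (pv v)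

end CfsgLib.TensorWreathSU
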