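import Cfsg.Agent.Lib.TensorWreathSU.Split
import Cfsg.Agent.Lib.TensorWreathSL.Root

/-!
A conjugate of a one-slot root inside the tensor wreath group is a one-slot root, and then the conjugating element
lies in the tensor wreath group.
-/

set_option autoImplicit false
set_option linter.unusedSectionVars false

namespace CfsgLib.TensorWreathSU

open Cfsg Cfsg.Geo CfsgLib.Aschbacher CfsgLib.AschbacherForm CfsgLib.TensorWreath CfsgLib.TensorWreathSL
open CfsgLib.TensorMax.Unitary (Conj hd hd_add_left hd_add_right hd_smul_left hd_smul_right hd_sub_left hd_sub_right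
  hd_zero_left hd_zero_right hd_neg_left hd_neg_right)
open scoped Matrix MatrixGroups

variable {F : Type*} [Field F] [Fintype F] {m s : ℕ} [NeZero m] {τ : F ≃+* F}

theorem isRootU_mk {n : ℕ} {i : Fin n} {v : Fin m → F} {k : F} (hv0 : v ≠ 0) (hv : hd τ v v = 0) (hk0 : k ≠ 0)
    (hk : τ k = -k) : IsRootU τ i (slot i (k • ov τ v v)) :=
  ⟨v, k, hv0, hv, hk0, hk, rfl⟩

theorem IsRootU.sq {n : ℕ} {i : Fin n} {N : TMat F m n} (h : IsRootU τ i N) : N * N = 0 := h.isRoot.sq

theorem IsRootU.ne_zero {n : ℕ} {i : Fin n} {N : TMat F m n} (h : IsRootU τ i N) : N ≠ 0 := h.isRoot.ne_zero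

theorem IsRootU.ad_eq {n : ℕ} {i : Fin n} {N : TMat F m n} (hτ : Conj τ) (h : IsRootU τ i N) : ad τ N = -N := by
  obtain ⟨v, k, -, -, -, hk, rfl⟩ := h
  rw [ad_slot, ad_smul, ad_ov hτ, hk, neg_smul, slot_neg]

theorem IsRootU.smul_fixed {n : ℕ} {i : Fin n} {N : TMat F m n} (h : IsRootU τ i N) {μ : F} (hμ0 : μ ≠ 0)
    (hμ : τ μ = μ) : IsRootU τ i (μ • N) := by
  obtain ⟨v, k, hv0, hv, hk0, hk, rfl⟩ := h
  exact ⟨v, μ * k, hv0, hv, mul_ne_zero hμ0 hk0, by rw [map_mul, hk, hμ, mul_neg], by rw [← slot_smul, smul_smul]⟩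

/-- A skew root is a unitary root. -/
theorem isRootU_of_skew (hτ : Conj τ) {n : ℕ} {i : Fin n} {N : TMat F m n} (h : IsRoot i N) (ha : ad τ N = -N) :
    IsRootU τ i N := by
  obtain ⟨v, φ, hv, hφ, h0, rfl⟩ := h
  set w : Fin m → F := ⇑τ ∘ φ
  have hw : Matrix.vecMulVec v φ = ov τ v w := by
    rw [ov]; congr 1; funext a; simp [w, hτ.invol]
  rw [hw, ad_slot, ad_ov hτ, ← slot_neg] at ha
  have h1 := slot_injective i ha
  obtain ⟨x, hx⟩ : ∃ x, hd τ x v ≠ 0 := by
    by_contra hcon
    push Not at hcon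
    exact hv (hτ.eq_zero_of_forall fun x => hτ.hd_symm_zero (hcon x))
  have h2 := congrArg (fun W => W *ᵥ x) h1
  simp only [Matrix.neg_mulVec, ov_mulVec] at h2
  obtain ⟨c, hc⟩ : ∃ c : F, w = c • v := ⟨(hd τ x v)⁻¹ * -hd τ x w, by
    rw [← smul_smul, neg_smul, ← h2, inv_smul_smul₀ hx]⟩
  have hc0 : c ≠ 0 := fun e => hφ (funext fun a => by
    have := congrFun hc a
    rw [e, zero_smul] at this
    exact (map_eq_zero τ).1 this)
  have hvv : hd τ v v = 0 := by
    have e : hd τ v w = φ ⬝ᵥ v := by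
      rw [hd, dotProduct_comm]; congr 1; funext a; simp [w, hτ.invol]
    rw [hc, hd_smul_right, h0] at e
    exact (mul_eq_zero.1 e).resolve_left ((map_ne_zero τ).2 hc0)
  refine ⟨v, τ c, hv, hvv, (map_ne_zero τ).2 hc0, ?_, by rw [hw, hc, ov_smul_right]⟩
  rw [hc, ov_smul_left, ov_smul_right, ← sub_eq_zero, sub_neg_eq_add, ← add_smul] at h1
  rw [hτ.invol]
  exact eq_neg_of_add_eq_zero_left ((smul_eq_zero.1 h1).resolve_right (ov_ne_zero hv hv))

variable {M : Subgroup (GL (Fin (s + 1) → Fin m) F)}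

theorem Lev.root_mem (hL : Lev τ M) {i : Fin (s + 1)} {N : TMat F m (s + 1)} (h : IsRootU τ i N) :
    oneAdd N h.sq ∈ M := by
  obtain ⟨w, k, -, hw, -, hk, e⟩ := id h
  have : oneAdd N h.sq = slotGL i (tu τ w hw k) := Units.ext (by
    show (1 : TMat F m (s + 1)) + N = slot i (1 + k • ov τ w w)
    rw [slot_add, slot_one, e])
  rw [this]
  exact hL.ctx.su i _ (tu_mem hL.conj w hw hk) (tu_det w hw k)

theorem Lev.conj_mem (hL : Lev τ M) {i : Fin (s + 1)} {N : TMat F m (s + 1)} (hN : IsRootU τ i N)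
    {g : GL (Fin (s + 1) → Fin m) F} (hg : g ∈ M) : oneAdd (cj g N) (cj_sq g hN.sq) ∈ M := by
  rw [← oneAdd_conj g hN.sq]
  exact mul_mem (mul_mem hg (hL.root_mem hN)) (inv_mem hg)

/-- Blocks of the exchange of two slots. -/
theorem row_swap_col (i : Fin (s + 1)) (j : Fin s) (y z : Fin m → F) :
    row τ i y * (permGL (Equiv.swap i (i.succAbove j)) : GL (Fin (s + 1) → Fin m) F).1 * col i z =
      slot j (ov τ z y) := by
  rw [rowM_mul_colM]
  ext u u'
  simp only [Matrix.sum_apply, Matrix.smul_apply, blk_apply, smul_eq_mul, Function.comp_apply]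
  have hP : ∀ k l : Fin m, (permGL (Equiv.swap i (i.succAbove j)) : GL (Fin (s + 1) → Fin m) F).1
      (i.insertNth k u) (i.insertNth l u') =
        if (l = u j ∧ k = u' j) ∧ ∀ a, a ≠ j → u a = u' a then 1 else 0 := by
    intro k l
    show (if i.insertNth l u' = i.insertNth k u ∘ ⇑(Equiv.swap i (i.succAbove j)) then (1 : F) else 0) = _
    refine if_congr ⟨fun h => ⟨⟨?_, ?_⟩, fun a ha => ?_⟩, ?_⟩ rfl rfl
    · simpa using congrFun h i
    · simpa using (congrFun h (i.succAbove j)).symm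
    · have := congrFun h (i.succAbove a)
      rw [Fin.insertNth_apply_succAbove, Function.comp_apply, Equiv.swap_apply_of_ne_of_ne (Fin.succAbove_ne i a)
        (fun e => ha (Fin.succAbove_right_injective e)), Fin.insertNth_apply_succAbove] at this
      exact this.symm
    · rintro ⟨⟨rfl, rfl⟩, h⟩
      funext x
      rcases Fin.eq_self_or_eq_succAbove i x with rfl | ⟨a, rfl⟩
      · simp
      · rcases eq_or_ne a j with rfl | ha
        · simp
        · rw [Fin.insertNth_apply_succAbove, Function.comp_apply, Equiv.swap_apply_of_ne_of_ne (Fin.succAbove_ne i a)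
            (fun e => ha (Fin.succAbove_right_injective e)), Fin.insertNth_apply_succAbove, h a ha]
  simp only [hP]
  rw [Finset.sum_eq_single (u' j) (fun k _ hk => Finset.sum_eq_zero fun l _ => by simp [hk]) (by simp),
    Finset.sum_eq_single (u j) (fun l _ hl => by simp [hl]) (by simp)]
  simp only [slot, Matrix.of_apply, ov, Matrix.vecMulVec_apply, Function.comp_apply, and_self, true_and]
  split_ifs <;> simp [mul_comm]

/-- In characteristic two an exchange of two slots is no conjugate of a root. -/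
theorem Lev.no_swap {M : Subgroup (GL (Fin (s + 1) → Fin 3) F)} (hL : Lev τ M) (h2 : (2 : F) = 0) {i0 : Fin (s + 1)}
    {N : TMat F 3 (s + 1)} (hN : IsRootU τ i0 N) {g : GL (Fin (s + 1) → Fin 3) F} (hg : g ∈ M)
    (T : GL (Fin 3) F) {i : Fin (s + 1)} {j : Fin s}
    (hsw : cj (slotGL (i.succAbove j) T) (cj g (1 + N)) =
      (permGL (Equiv.swap i (i.succAbove j)) : GL (Fin (s + 1) → Fin 3) F).1) : False := by
  have hτ := hL.conj
  obtain ⟨l, hl0, hl⟩ : ∃ l : F, l ≠ 0 ∧ l * τ l ≠ 1 := hL.big.resolve_right (by omega)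
  set μ := l * τ l with hμd
  have hμ0 : μ ≠ 0 := mul_ne_zero hl0 ((map_ne_zero τ).2 hl0)
  have hμ : τ μ = μ := by rw [hμd, map_mul, hτ.invol, mul_comm]
  set c := 1 + μ
  obtain ⟨v, v', hv, hv', hvv', hv0, -⟩ := exists_pair (F := F) (m := 3) hτ le_rfl
  obtain ⟨r, hrv, -, hrr⟩ := exists_mid hτ le_rfl hv hv' hvv'
  obtain ⟨κ₀, hκ0, hκ⟩ := hτ.exists_skew
  set D := slotGL (i.succAbove j) T
  set P : GL (Fin (s + 1) → Fin 3) F := permGL (Equiv.swap i (i.succAbove j)) with hPd
  set a : TMat F 3 (s + 1) := slot i (κ₀ • ov τ v v) with had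
  have haR : IsRootU τ i a := isRootU_mk hv0 hv hκ0 hκ
  set a' : TMat F 3 s := slot j (κ₀ • ov τ v v) with ha'd
  have hDa : cj D a = a := (cj_eq_self_iff _ _).2 (slot_commute (Fin.succAbove_ne i j) _ _)
  -- the involution
  set y := g * oneAdd (μ • N) (hN.smul_fixed hμ0 hμ).sq * g⁻¹ with hyd
  have hroot : ∀ {R : TMat F 3 (s + 1)} {b : Fin (s + 1)} (h : IsRootU τ b R), oneAdd R h.sq ∈ M :=
    fun h => hL.root_mem h
  have hyM : y ∈ M := mul_mem (mul_mem hg (hroot (hN.smul_fixed hμ0 hμ))) (inv_mem hg)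
  have hY : cj D y.1 = c • 1 + μ • P.1 := by
    rw [hyd, ← cj_val, show (oneAdd (μ • N) _).1 = 1 + μ • N from rfl, ← hsw]
    simp only [map_add, map_one, map_smul, smul_add, c, add_smul, one_smul]
    have h20 : μ • (1 : TMat F 3 (s + 1)) + μ • (1 : TMat F 3 (s + 1)) = 0 := by
      rw [← add_smul, show μ + μ = 0 by linear_combination μ * h2, zero_smul]
    rw [add_assoc (1 : TMat F 3 (s + 1)), ← add_assoc (μ • (1 : TMat F 3 (s + 1))) (μ • (1 : TMat F 3 (s + 1))), h20,
      zero_add]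
  have hy2 : y * y = 1 := by
    have h := TensorWreathSL.oneAdd_sq_one h2 (hN.smul_fixed hμ0 hμ).sq
    rw [hyd]
    generalize oneAdd (μ • N) (hN.smul_fixed hμ0 hμ).sq = u at h ⊢
    calc g * u * g⁻¹ * (g * u * g⁻¹) = g * (u * u) * g⁻¹ := by group
      _ = 1 := by rw [h, mul_one, mul_inv_cancel]
  have hyinv : y⁻¹ = y := inv_eq_of_mul_eq_one_right hy2
  -- the conjugate of a root
  set e := y * oneAdd a haR.sq * y⁻¹ with hed
  have heM : e ∈ M := mul_mem (mul_mem hyM (hroot haR)) (inv_mem hyM)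
  have hPa : ∀ b, P.1 * slot i b = slot (i.succAbove j) b * P.1 := fun b => by
    have h := permGL_conj_slot (F := F) (d := 3) (Equiv.swap i (i.succAbove j)) i b
    rw [Equiv.swap_apply_left] at h
    rw [← h, ← hPd, cj_apply, mul_assoc, mul_assoc, Units.inv_mul, mul_one]
  have hPb : ∀ b, P.1 * slot (i.succAbove j) b = slot i b * P.1 := fun b => by
    have h := permGL_conj_slot (F := F) (d := 3) (Equiv.swap i (i.succAbove j)) (i.succAbove j) b
    rw [Equiv.swap_apply_right] at h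
    rw [← h, ← hPd, cj_apply, mul_assoc, mul_assoc, Units.inv_mul, mul_one]
  have hPP : P.1 * P.1 = 1 := by
    rw [hPd, ← Units.val_mul, AschbacherOrth.permGL_mul, Equiv.swap_mul_self, TensorWreathSL.permGL_one, Units.val_one]
  set b := slot (i.succAbove j) (κ₀ • ov τ v v) with hbd
  have hab : a * b = b * a := slot_commute (Fin.succAbove_ne i j).symm _ _
  set E := (c * c) • a + (c * μ) • (a * P.1 + P.1 * a) + (μ * μ) • b with hEd
  have hc1 : c * c + μ * μ = 1 := by
    show (1 + μ) * (1 + μ) + μ * μ = 1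
    linear_combination (μ + μ * μ) * h2
  have hcjy : cj D (cj y a) = E := by
    have key : cj D (cj y a) = cj D y.1 * cj D a * cj D y⁻¹.1 := by rw [cj_apply y, map_mul, map_mul]
    rw [key, hyinv, hY, hDa, hEd]
    have h1 : P.1 * a * P.1 = b := by rw [had, hPa, mul_assoc, hPP, mul_one, ← hbd]
    simp only [add_mul, mul_add, Matrix.smul_mul, Matrix.mul_smul, Matrix.one_mul, Matrix.mul_one, smul_add, smul_smul,
      h1, mul_comm μ c]
    abel
  have hfix : cj e a = a := by
    refine (cj_eq_self_iff _ _).2 ?_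
    have hcomm : E * a = a * E := by
      have h1 : a * a = 0 := haR.sq
      have h2' : P.1 * a * a = 0 := by rw [mul_assoc, h1, mul_zero]
      have h3 : a * (a * P.1) = 0 := by rw [← mul_assoc, h1, zero_mul]
      have h4 : a * P.1 * a = a * b * P.1 := by rw [mul_assoc, had, hPa, ← hbd, ← mul_assoc]
      have h5 : a * (P.1 * a) = a * b * P.1 := by rw [← mul_assoc, h4]
      simp only [hEd, add_mul, mul_add, Matrix.smul_mul, Matrix.mul_smul, smul_add, h1, h2', h3, h4, h5, smul_zero,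
        zero_add, add_zero, hab]
    have he : e.1 = 1 + cj y a := by
      rw [hed, ← cj_val, show (oneAdd a haR.sq).1 = 1 + a from rfl, map_add, map_one]
    refine (cj D).injective ?_
    rw [map_mul, map_mul, he, map_add, map_one, hcjy, hDa, add_mul, mul_add, one_mul, mul_one, hcomm]
  obtain ⟨-, A, B, -, -, -, heAB⟩ := hL.cent_root haR heM hfix
  -- it splits
  obtain ⟨B', hB'⟩ : ∃ B' : TMat F 3 s, 1 + E = slot i (A : Matrix (Fin 3) (Fin 3) F) * embM i B' := by
    refine ⟨cj (slotGL j T) B.1, ?_⟩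
    have he : e.1 = 1 + cj y a := by
      rw [hed, ← cj_val, show (oneAdd a haR.sq).1 = 1 + a from rfl, map_add, map_one]
    have h := congrArg (cj D) he
    rw [map_add, map_one, hcjy, heAB, Units.val_mul, map_mul, slotGL_val, emb_val,
      (cj_eq_self_iff _ _).2 (slot_commute (Fin.succAbove_ne i j) T.1 A.1)] at h
    rw [← h]
    congr 1
    show D.1 * embM i B.1 * (D⁻¹).1 = _
    simp only [D, ← map_inv, slotGL_val]
    rw [← embM_slot, ← embM_slot, ← map_mul, ← map_mul, cj_apply, ← map_inv, slotGL_val, slotGL_val]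
  have hrows : ∀ x z : Fin 3 → F, row τ i x * (1 + E) * col i z =
      hd τ z x • (1 : TMat F 3 s) + (c * c * κ₀ * (hd τ z v * hd τ v x)) • (1 : TMat F 3 s) +
      (c * μ * κ₀) • (hd τ v x • slot j (ov τ z v) + hd τ z v • slot j (ov τ v x)) + (μ * μ * hd τ z x) • a' := by
    intro x z
    have f1 : row τ i x * a = (κ₀ * hd τ v x) • row τ i v := by
      rw [had, slot_smul, slot_ov, Matrix.mul_smul, ← Matrix.mul_assoc, row_mul_col, Matrix.smul_mul, Matrix.one_mul,
        smul_smul]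
    have f2 : a * col i z = (κ₀ * hd τ z v) • col i v := by
      rw [had, slot_smul, slot_ov, Matrix.smul_mul, Matrix.mul_assoc, row_mul_col, Matrix.mul_smul, Matrix.mul_one,
        smul_smul]
    have f3 : row τ i x * b * col i z = hd τ z x • a' := by
      rw [hbd, ← embM_slot, row_mul_embM hτ, Matrix.mul_assoc, row_mul_col, Matrix.mul_smul, Matrix.mul_one]
    rw [Matrix.mul_add, Matrix.add_mul, Matrix.mul_one, row_mul_col, hEd]
    simp only [Matrix.mul_add, Matrix.add_mul, Matrix.mul_smul, Matrix.smul_mul, ← Matrix.mul_assoc, f1, f3]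
    rw [Matrix.mul_assoc (row τ i x * P.1) a, f2, Matrix.mul_smul, row_mul_col, hPd, row_swap_col, row_swap_col]
    simp only [smul_add, smul_smul]
    rw [show c * μ * (κ₀ * hd τ v x) = c * μ * κ₀ * hd τ v x by ring,
      show c * μ * (κ₀ * hd τ z v) = c * μ * κ₀ * hd τ z v by ring,
      show c * c * (κ₀ * hd τ v x * hd τ z v) = c * c * κ₀ * (hd τ z v * hd τ v x) by ring]
    abel
  have hsplit : ∀ x z : Fin 3 → F, row τ i x * (1 + E) * col i z = hd τ (A.1 *ᵥ z) x • B' := fun x z => by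
    rw [hB', ← Matrix.mul_assoc, Matrix.mul_assoc _ (embM i B'), embM_mul_col, ← Matrix.mul_assoc, row_slot_col,
      Matrix.smul_mul, Matrix.one_mul]
  have eα := hrows v' v
  rw [hsplit] at eα
  have eβ := hrows r r
  rw [hsplit] at eβ
  simp only [hv, hrv, hτ.hd_symm_zero hrv, hvv', mul_zero, zero_smul, smul_zero, add_zero, one_smul,
    mul_one] at eα eβ
  set α := hd τ (A.1 *ᵥ v) v'
  set β := hd τ (A.1 *ᵥ r) r
  have ea : slot j (ov τ v v) = κ₀⁻¹ • a' := by rw [ha'd, slot_smul, inv_smul_smul₀ hκ0]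
  rw [ea, smul_smul, show c * μ * κ₀ * κ₀⁻¹ = c * μ by field_simp, add_assoc, ← add_smul,
    show c * μ + μ * μ = μ by show (1 + μ) * μ + μ * μ = μ; linear_combination μ * μ * h2] at eα
  have ha'0 : a' ≠ 0 := (isRootU_mk (τ := τ) (i := j) hv0 hv hκ0 hκ).ne_zero
  have ha'1 : ∀ x z : F, x • (1 : TMat F 3 s) + z • a' = 0 → x = 0 ∧ z = 0 := by
    intro x z h
    have h' := congrArg (· * a') h
    simp only [add_mul, Matrix.smul_mul, one_mul, zero_mul,
      ha'd ▸ (isRootU_mk (τ := τ) (i := j) hv0 hv hκ0 hκ).sq, smul_zero, add_zero] at h'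
    have hx : x = 0 := (smul_eq_zero.1 h').resolve_right ha'0
    rw [hx, zero_smul, zero_add] at h
    exact ⟨hx, (smul_eq_zero.1 h).resolve_right ha'0⟩
  have hlin : (β - α * hd τ r r) • (1 : TMat F 3 s) + (β * μ - α * (μ * μ * hd τ r r)) • a' = 0 := by
    have e1 : β • (α • B') = α • (β • B') := smul_comm β α B'
    rw [eα, eβ, smul_add, smul_add, smul_smul, smul_smul, smul_smul] at e1
    rw [sub_smul, sub_smul, sub_add_sub_comm, e1, sub_self]
  obtain ⟨e1, e2⟩ := ha'1 _ _ hlin
  have hα0 : α ≠ 0 := fun e => by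
    rw [e, zero_smul] at eα
    exact one_ne_zero ((ha'1 1 μ (by rw [one_smul]; exact eα.symm)).1)
  have h3 : α * hd τ r r * μ * (1 - μ) = 0 := by linear_combination e2 - μ * e1
  simp only [mul_eq_zero, hα0, hrr, hμ0, or_self, false_or] at h3
  exact hl (sub_eq_zero.1 h3).symm

/-- A conjugate of a root inside the tensor wreath group is a root. -/
theorem Lev.root_in_std (hL : Lev τ M) {i0 : Fin (s + 1)} {N : TMat F m (s + 1)} (hN : IsRootU τ i0 N)
    {g : GL (Fin (s + 1) → Fin m) F} (hg : g ∈ M) (h : oneAdd (cj g N) (cj_sq g hN.sq) ∈ Std F m (s + 1)) :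
    ∃ j, IsRootU τ j (cj g N) := by
  classical
  have hτ := hL.conj
  obtain ⟨π, A, he, hπ⟩ := exists_rep_of_std h
  have huM := hL.conj_mem hN hg
  set u := oneAdd (cj g N) (cj_sq g hN.sq) with hu
  have hu1 : u.1 - 1 = cj g N := by show 1 + cj g N - 1 = _; rw [add_sub_cancel_left]
  have hsq : (u.1 - 1) * (u.1 - 1) = 0 := by rw [hu1]; exact cj_sq g hN.sq
  have hrk : (u.1 - 1).rank ≤ m ^ s := by rw [hu1]; exact (rank_cj_le g N).trans hN.isRoot.rank_le
  have hm2 : 2 ≤ m := le_trans (by omega) hL.hm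
  by_cases hfix : ∃ l, π l = l ∧ ∃ a, cj u (slot l a) ≠ slot l a
  · obtain ⟨l, hl, a, ha⟩ := hfix
    obtain ⟨A', B, -, e⟩ := std_split hm2 hL.hs h hπ hl
    refine ⟨l, isRootU_of_skew hτ (hu1 ▸ pure_root hL.hm e hsq hrk fun c hc => ha ?_) ?_⟩
    · rw [e, slot_emb_conj, cj_scalar A' hc]
    · rw [cj_ad (hL.ctx.ug hg), hN.ad_eq hτ, map_neg]
  push Not at hfix
  exfalso
  by_cases hall : ∀ l, π l = l
  · obtain ⟨c, hc⟩ := scalar_of_commutes_slots (u : TMat F m (s + 1)) fun l a =>
      ((cj_eq_self_iff u _).1 (hfix l (hall l) a)).symm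
    have h1 : (u.1 - 1) = (c - 1) • (1 : TMat F m (s + 1)) := by rw [hc, sub_smul, one_smul]
    rw [h1, Matrix.smul_mul, one_mul, smul_smul] at hsq
    have h0 : c - 1 = 0 := mul_self_eq_zero.1 ((smul_eq_zero.1 hsq).resolve_right one_ne_zero)
    rw [h0, zero_smul, hu1] at h1
    exact hN.ne_zero ((cj g).injective (by rw [h1, map_zero]))
  push Not at hall
  obtain ⟨j, hj⟩ := hall
  obtain ⟨p, hp⟩ := CharP.exists F
  have : Fact p.Prime := ⟨CharP.char_is_prime F p⟩
  have hup : u ^ p = 1 := Units.ext (by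
    rw [Units.val_pow_eq_pow_val, Units.val_one]; exact one_add_pow_char p (cj_sq g hN.sq))
  have hπp : π ^ p = 1 := (hπ.pow p).unique hm2 (hup ▸ rep_one)
  by_cases h2 : (2 : F) = 0
  · obtain rfl : p = 2 := by
      have hdvd : p ∣ 2 := (CharP.cast_eq_zero_iff F p 2).1 (by exact_mod_cast h2)
      exact (Nat.prime_dvd_prime_iff_eq Fact.out Nat.prime_two).1 hdvd
    set i := π j
    have hi : π i = j := by
      have := congrArg (fun σ : Equiv.Perm (Fin (s + 1)) => σ j) hπp
      simpa [sq] using this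
    set T : Fin (s + 1) → GL (Fin m) F := Function.update (fun _ => 1) j (A j) with hT
    set D : GL (Fin (s + 1) → Fin m) F := pureGL T
    set A' : Fin (s + 1) → GL (Fin m) F := fun l => T (π l) * A l * (T l)⁻¹ with hA'
    have he' : D * u * D⁻¹ = permGL π * pureGL A' := by
      rw [he, ← mul_assoc, AschbacherOrth.pureGL_permGL, pureGL_inv, mul_assoc, mul_assoc, ← AschbacherForm.pureGL_mul,
        ← AschbacherForm.pureGL_mul]
      simp only [hA', mul_assoc]
    have hsq' : (D * u * D⁻¹) * (D * u * D⁻¹) = 1 := by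
      rw [show (D * u * D⁻¹) * (D * u * D⁻¹) = D * u ^ 2 * D⁻¹ by rw [sq]; group, hup, mul_one, mul_inv_cancel]
    have hA'j : A' j = 1 := by simp [hA', hT, show π j ≠ j from hj]
    obtain ⟨c, -, hc⟩ : ∃ c : F, c ≠ 0 ∧ (A' i : Matrix (Fin m) (Fin m) F) = c • 1 := by
      have h3 : (pureGL fun l => A' (π l) * A' l : GL (Fin (s + 1) → Fin m) F) = 1 := by
        rw [← hsq', he', AschbacherForm.pureGL_mul, mul_assoc (permGL π), ← mul_assoc (pureGL A'),
          AschbacherOrth.pureGL_permGL, mul_assoc (permGL π) (pureGL fun l => A' (π l)), ← mul_assoc (permGL π)]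
        have : (permGL π : GL (Fin (s + 1) → Fin m) F) * permGL π = 1 := by
          rw [AschbacherOrth.permGL_mul, ← sq, hπp, TensorWreathSL.permGL_one]
        rw [this, one_mul]
      have := pure_proportional (A := fun l => A' (π l) * A' l) (B := fun _ => (1 : GL (Fin m) F)) (c := 1) (by
        rw [one_smul]
        simpa [pureGL, pure'_one] using congrArg Units.val h3) j
      simpa [hA'j] using this
    have hrk' : ((D * u * D⁻¹).1 - 1).rank ≤ m ^ s := by
      rw [← cj_val, ← map_one (cj D), ← map_sub]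
      exact (rank_cj_le D _).trans hrk
    obtain ⟨hm3, hsw⟩ := swap_shape hL.hm (fun e : j = i => hj e.symm) rfl hi hA'j he' hsq' hc hrk'
    subst hm3
    obtain ⟨j', hj'⟩ := Fin.exists_succAbove_eq (show j ≠ i from fun e => hj e.symm)
    refine hL.no_swap h2 hN hg (A j) (i := i) (j := j') ?_
    rw [hj', cj_oneAdd, slotGL_eq_pureGL, ← hT, Equiv.swap_comm, ← hsw, ← cj_val]
    rfl
  · refine no_move_odd hL.hm h2 he hsq hrk hj fun h3 => hj ?_
    obtain ⟨k, hk⟩ : Odd p := (Fact.out : p.Prime).odd_of_ne_two fun e => h2 (by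
      subst e; exact_mod_cast CharP.cast_eq_zero F 2)
    have h4 : ∀ k : ℕ, (π ^ (2 * k)) j = j := fun k => by
      induction k with
      | zero => simp
      | succ k ih =>
        rw [Nat.mul_succ, pow_add, Equiv.Perm.mul_apply, sq, Equiv.Perm.mul_apply, h3, ih]
    have := congrArg (fun σ : Equiv.Perm (Fin (s + 1)) => σ j) hπp
    rw [hk, pow_succ'] at this
    simpa [h4] using this

theorem IsRootU.commute_ne {i k : Fin (s + 1)} (h : i ≠ k) {N R : TMat F m (s + 1)} (hN : IsRootU τ i N)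
    (hR : IsRootU τ k R) : N * R = R * N := hN.isRoot.commute_ne h hR.isRoot

/-- An element conjugating a root into the tensor wreath group lies in it. -/
theorem Lev.std_of_conj (hL : Lev τ M) {i : Fin (s + 1)} {N : TMat F m (s + 1)} (hN : IsRootU τ i N)
    {g : GL (Fin (s + 1) → Fin m) F} (hg : g ∈ M) (h : oneAdd (cj g N) (cj_sq g hN.sq) ∈ Std F m (s + 1)) :
    g ∈ Std F m (s + 1) := by
  classical
  have hτ := hL.conj
  obtain ⟨j, hj⟩ := hL.root_in_std hN hg h
  have hm := hL.hm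
  obtain ⟨e, f, he, hf, hef, he0, hf0⟩ := exists_pair (F := F) (m := m) hτ hm
  obtain ⟨κ₀, hκ0, hκ⟩ := hτ.exists_skew
  have transfer : ∀ {a b : Fin (s + 1)} {P R : TMat F m (s + 1)}, (∃ c, IsRootU τ c (cj g P)) → IsRootU τ a P →
      ∀ hR : IsRootU τ b R, P * R = R * P → ∃ c, IsRootU τ c (cj g R) := by
    rintro a b P R ⟨c, hc⟩ hP hR hcomm
    refine hL.root_in_std hR hg (hL.cent_root hc (hL.conj_mem hR hg) ?_).1
    refine cj_oneAdd_self _ ?_
    rw [← map_mul, ← map_mul, hcomm]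
  have hall : ∀ {b : Fin (s + 1)} {R : TMat F m (s + 1)}, IsRootU τ b R → ∃ c, IsRootU τ c (cj g R) := by
    intro b R hR
    rcases eq_or_ne b i with rfl | hb
    · obtain ⟨k, hk⟩ : ∃ k, k ≠ b := by
        have : Nontrivial (Fin (s + 1)) := Fin.nontrivial_iff_two_le.2 (by have := hL.hs; omega)
        exact exists_ne b
      have hr : IsRootU τ k (slot k (κ₀ • ov τ e e)) := isRootU_mk he0 he hκ0 hκ
      exact transfer (transfer ⟨j, hj⟩ hN hr (hN.commute_ne hk.symm hr)) hr hR (hr.commute_ne hk hR)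
    · exact transfer ⟨j, hj⟩ hN hR (hN.commute_ne hb.symm hR)
  have himg : ∀ l (v : Fin m → F), v ≠ 0 → hd τ v v = 0 →
      ∃ c, IsRootU τ c (cj g (slot l (κ₀ • ov τ v v))) := fun l v h0 hv => hall (isRootU_mk h0 hv hκ0 hκ)
  choose! J hJ using himg
  have hsame : ∀ l {v w : Fin m → F}, v ≠ 0 → hd τ v v = 0 → w ≠ 0 → hd τ w w = 0 → hd τ v w ≠ 0 →
      J l v = J l w := by
    intro l v w hv0 hv hw0 hw hvw
    by_contra hne
    have h1 := (hJ l v hv0 hv).commute_ne hne (hJ l w hw0 hw)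
    rw [← map_mul, ← map_mul, ← slot_mul, ← slot_mul] at h1
    have h2 := slot_injective l ((cj g).injective h1)
    simp only [Matrix.smul_mul, Matrix.mul_smul, ov_mul, smul_smul] at h2
    have h3 := congrArg (fun W => W *ᵥ v) h2
    simp only [Matrix.smul_mulVec, ov_mulVec, hv, zero_smul, smul_zero, smul_smul] at h3
    refine hv0 ((smul_eq_zero.1 h3).resolve_left ?_)
    exact mul_ne_zero (mul_ne_zero hκ0 (mul_ne_zero hκ0 fun e => hvw (hτ.hd_symm_zero e))) hvw
  have hconst : ∀ l v, v ≠ 0 → hd τ v v = 0 → J l v = J l e := by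
    intro l v hv0 hv
    have hfe : J l f = J l e := hsame l hf0 hf he0 he (by rw [hd_one hτ hef]; exact one_ne_zero)
    by_cases h1 : hd τ v e ≠ 0
    · exact hsame l hv0 hv he0 he h1
    by_cases h2 : hd τ v f ≠ 0
    · exact (hsame l hv0 hv hf0 hf h2).trans hfe
    rw [not_not] at h1 h2
    obtain ⟨p, hp, hvp⟩ := hτ.exists_partner hv0 hv
    have hp0 : p ≠ 0 := fun e => by rw [e, hd_zero_right] at hvp; exact zero_ne_one hvp
    have hjp := hsame l hv0 hv hp0 hp (by rw [hvp]; exact one_ne_zero)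
    by_cases h3 : hd τ p e ≠ 0
    · exact hjp.trans (hsame l hp0 hp he0 he h3)
    by_cases h4 : hd τ p f ≠ 0
    · exact hjp.trans ((hsame l hp0 hp hf0 hf h4).trans hfe)
    rw [not_not] at h3 h4
    have hu : hd τ (e + p) (e + p) = 0 := by
      simp only [hd_add_left, hd_add_right, he, hp, h3, hτ.hd_symm_zero h3, add_zero]
    have huf : hd τ (e + p) f = 1 := by rw [hd_add_left, hef, h4, add_zero]
    have hu0 : e + p ≠ 0 := fun h => by rw [h, hd_zero_left] at huf; exact zero_ne_one huf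
    exact ((hsame l hv0 hv hu0 hu (by rw [hd_add_right, h1, hvp, zero_add]; exact one_ne_zero)).trans
      (hsame l hu0 hu hf0 hf (by rw [huf]; exact one_ne_zero))).trans hfe
  have hrange : ∀ l (a : Matrix (Fin m) (Fin m) F), ∃ a', cj g (slot l a) = slot (J l e) a' := by
    intro l
    let K : Submodule F (Matrix (Fin m) (Fin m) F) :=
      { carrier := {a | ∃ a', cj g (slot l a) = slot (J l e) a'}
        zero_mem' := ⟨0, by rw [slot_zero, map_zero, slot_zero]⟩
        add_mem' := fun {P Q} ⟨P', e1⟩ ⟨Q', e2⟩ => ⟨P' + Q', by rw [slot_add, map_add, e1, e2, slot_add]⟩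
        smul_mem' := fun x {P} ⟨P', e1⟩ => ⟨x • P', by rw [slot_smul, map_smul, e1, slot_smul]⟩ }
    have hgen : ∀ v, v ≠ 0 → hd τ v v = 0 → ov τ v v ∈ K := fun v hv0 hv => by
      obtain ⟨w, k, -, -, -, -, e1⟩ := hJ l v hv0 hv
      rw [hconst l v hv0 hv] at e1
      rw [← inv_smul_smul₀ hκ0 (ov τ v v)]
      exact K.smul_mem _ ⟨_, e1⟩
    have htop : K = ⊤ := span_top hτ he hf hef
      (fun a ⟨a', e1⟩ b ⟨b', e2⟩ => ⟨a' * b', by rw [slot_mul, map_mul, e1, e2, slot_mul]⟩)
      (hgen e he0 he) (hgen f hf0 hf) (fun r hr0 hre hrf => by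
        obtain ⟨b, hb⟩ := hτ.exists_trace (c := -hd τ r r) (by rw [map_neg, hτ.self_fixed])
        refine ⟨1, b, Or.inl one_ne_zero, hgen _ (fun h => ?_) ?_⟩
        · have h' := congrArg (fun x => hd τ x f) h
          simp only [one_smul, hd_add_left, hd_smul_left, hf, hef, hrf, mul_zero, add_zero, hd_zero_left] at h'
          exact one_ne_zero h'
        · simp only [one_smul, hd_add_left, hd_add_right, hd_smul_left, hd_smul_right, he, hf, hef, hd_one hτ hef,
            hre, hrf, hτ.hd_symm_zero hre, hτ.hd_symm_zero hrf]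
          linear_combination hb)
    intro a
    exact (htop.symm ▸ Submodule.mem_top : a ∈ K)
  have hinj : Function.Injective fun l => J l e := by
    intro l l' hll
    by_contra hne
    choose θ hθ using hrange l
    have hθinj : Function.Injective θ := fun a a' e1 =>
      slot_injective l ((cj g).injective (by rw [hθ, hθ, e1]))
    have hlin : ∀ a a', θ (a + a') = θ a + θ a' := fun a a' => slot_injective (J l e) (by
      rw [← hθ, slot_add, slot_add, map_add, hθ, hθ])
    have hsmul : ∀ (c : F) a, θ (c • a) = c • θ a := fun c a => slot_injective (J l e) (by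
      rw [← hθ, slot_smul, slot_smul, map_smul, hθ])
    obtain ⟨b', hb'⟩ := hrange l' (κ₀ • ov τ e e)
    simp only at hll
    rw [← hll] at hb'
    obtain ⟨c, hc⟩ : b' ∈ Set.range (Matrix.scalar (Fin m) : F →+* _) := by
      refine Matrix.mem_range_scalar_of_commute_single fun x y _ => ?_
      obtain ⟨a, ha⟩ := (LinearMap.injective_iff_surjective (f := (⟨⟨θ, hlin⟩, hsmul⟩ : Matrix (Fin m) (Fin m) F →ₗ[F]
        Matrix (Fin m) (Fin m) F))).1 hθinj (Matrix.single x y 1)
      refine slot_injective (J l e) ?_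
      rw [slot_mul, slot_mul, ← hb', ← show θ a = Matrix.single x y 1 from ha, ← hθ, ← map_mul, ← map_mul,
        slot_commute hne]
    have hr : IsRootU τ l' (slot l' (κ₀ • ov τ e e)) := isRootU_mk he0 he hκ0 hκ
    have h0 : b' * b' = 0 := slot_injective (J l e) (by
      rw [slot_mul, ← hb', ← map_mul, hr.sq, map_zero, slot_zero])
    rw [← hc, ← map_mul, ← map_zero (Matrix.scalar (Fin m) : F →+* _)] at h0
    have hc0 : c = 0 := mul_self_eq_zero.1 (Matrix.scalar_inj.1 h0)
    rw [← hc, hc0, map_zero, slot_zero] at hb'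
    exact hr.ne_zero ((cj g).injective (hb'.trans (map_zero _).symm))
  exact std_of_rep (π := Equiv.ofBijective _ (Finite.injective_iff_bijective.1 hinj)) s.succ_pos hrange

end CfsgLib.TensorWreathSU
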