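import Cfsg.Agent.Lib.TensorWreathSU.Stab

/-!
The blocks of an element preserving the columns of an isotropic vector are proportional; the inductive situation.
-/

set_option autoImplicit false
set_option linter.unusedSectionVars false

namespace CfsgLib.TensorWreathSU

open Cfsg Cfsg.Geo CfsgLib.Aschbacher CfsgLib.AschbacherForm CfsgLib.TensorWreath CfsgLib.TensorWreathSL
open CfsgLib.TensorMax.Unitary (Conj hd hd_add_left hd_add_right hd_smul_left hd_smul_right hd_sub_left hd_sub_right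
  hd_zero_left hd_zero_right hd_neg_left hd_neg_right perp mem_perp le_finrank_perp)
open scoped Matrix MatrixGroups

variable {F : Type*} [Field F] [Fintype F] {m s : ℕ} [NeZero m] {τ : F ≃+* F}

/-- A non-singular vector orthogonal to a hyperbolic pair. -/
theorem exists_mid (hτ : Conj τ) (hm : 3 ≤ m) {e f : Fin m → F} (he : hd τ e e = 0) (hf : hd τ f f = 0)
    (hef : hd τ e f = 1) : ∃ r, hd τ r e = 0 ∧ hd τ r f = 0 ∧ hd τ r r ≠ 0 := by
  by_contra hcon
  push Not at hcon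
  obtain ⟨r, hr, hr0⟩ := (perp τ ![e, f]).exists_mem_ne_zero_of_ne_bot fun h => by
    have := le_finrank_perp (τ := τ) ![e, f]
    rw [h, finrank_bot, Fintype.card_fin] at this
    omega
  refine hr0 (hτ.eq_zero_of_forall fun x => ?_)
  obtain ⟨a, b, z, rfl, hze, hzf⟩ := exists_split hτ he hf hef x
  have h1 : hd τ r e = 0 := mem_perp.1 hr 0
  have h2 : hd τ r f = 0 := mem_perp.1 hr 1
  have h3 := hτ.polar (S := perp τ ![e, f]) (fun y hy => hcon y (mem_perp.1 hy 0) (mem_perp.1 hy 1)) hr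
    (mem_perp.2 fun k => by fin_cases k <;> assumption : z ∈ perp τ ![e, f])
  simp only [hd_add_right, hd_smul_right, h1, h2, h3, mul_zero, add_zero]

theorem ext_row (i : Fin (s + 1)) {X Y : Matrix (Fin (s + 1) → Fin m) (Fin s → Fin m) F}
    (h : ∀ y : Fin m → F, row τ i y * X = row τ i y * Y) : X = Y := by
  have e : ∀ W : Matrix (Fin (s + 1) → Fin m) (Fin s → Fin m) F, W =
      ∑ k : Fin m, col i (Pi.single k (1 : F)) * (row τ i (Pi.single k (1 : F)) * W) := fun W => by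
    conv_lhs => rw [← Matrix.one_mul W, ← sum_slot_single (F := F) (τ := τ) (m := m) i, Matrix.sum_mul]
    exact Finset.sum_congr rfl fun k _ => Matrix.mul_assoc _ _ _
  rw [e X, e Y]
  exact Finset.sum_congr rfl fun k _ => by rw [h]

section one

variable {M : Subgroup (GL (Fin (s + 1) → Fin m) F)} {i : Fin (s + 1)}

theorem One.blocks_aux (hM : One τ M i) {v v' : Fin m → F} (hv0 : v ≠ 0) (hv : hd τ v v = 0)
    (hvv' : hd τ v v' = 1) {g : GL (Fin (s + 1) → Fin m) F} (hg : g ∈ M) {B B' : TMat F m s} (hBB : B * B' = 1)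
    (h : g.1 * col i v = col i v * B) {d : Fin m → F} (hdv : hd τ d v = 0) :
    (∀ r, hd τ r v = 0 → ∃ a : F, row τ i r * g.1 * col i d = a • ad τ B') ∧
    ∃ a c : F, row τ i v' * g.1 * col i d * ad τ B - B * ad τ (row τ i v' * g.1 * col i d) + c • (B * ad τ B) = a • 1 := by
  have hτ := hM.conj
  have hB'B : B' * B = 1 := mul_eq_one_comm.1 hBB
  have hgi : g⁻¹.1 * col i v = col i v * B' := by
    have := congrArg (fun W => g⁻¹.1 * W * B') h
    simp only [← Matrix.mul_assoc, Units.inv_mul, Matrix.one_mul] at this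
    rw [Matrix.mul_assoc (g⁻¹.1 * col i v), hBB, Matrix.mul_one] at this
    exact this.symm
  have hrow : row τ i v * g⁻¹.1 = ad τ B * row τ i v := by
    have := congrArg (ad τ) h
    rwa [ad_mul, ad_mul, ad_col, ad_of_mem (hM.ug hg)] at this
  obtain ⟨c, hc⟩ := hτ.exists_trace (c := -hd τ d d) (by rw [map_neg, hτ.self_fixed])
  obtain ⟨S, hS, hS1, hSe, hSv⟩ := exists_siegel hτ hv hdv (c := c) (by linear_combination hc)
  set x := g * slotGL i S * g⁻¹ with hx
  have hxM : x ∈ M := mul_mem (mul_mem hg (hM.su S hS hS1)) (inv_mem hg)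
  have hxe : x.1 = 1 + (c • (col i v * B * ad τ B * row τ i v) + g.1 * col i d * ad τ B * row τ i v -
      col i v * B * (row τ i d * g⁻¹.1)) := by
    rw [hx, ← cj_val, slotGL_val, hSe, slot_add, slot_one, map_add, map_one, slot_minus, slot_add, slot_smul, slot_ov,
      slot_ov, slot_ov, map_sub, map_add, map_smul, cj_apply, cj_apply, cj_apply]
    simp only [← Matrix.mul_assoc, h]
    simp only [Matrix.mul_assoc, hrow]
  have hxv : x.1 * col i v = col i v := by
    rw [hx, Units.val_mul, Units.val_mul, slotGL_val, Matrix.mul_assoc, hgi, ← Matrix.mul_assoc, Matrix.mul_assoc g.1,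
      slot_mul_col, hSv, hv, hτ.hd_symm_zero hdv]
    simp only [mul_zero, sub_zero, zero_smul, add_zero]
    rw [h, Matrix.mul_assoc, hBB, Matrix.mul_one]
  have hyz : ∀ y z : Fin m → F, row τ i y * x.1 * col i z = hd τ z y • 1 +
      (c • (hd τ v y • hd τ z v • (B * ad τ B)) + hd τ z v • (row τ i y * g.1 * col i d * ad τ B) -
        hd τ v y • (B * (row τ i d * g⁻¹.1 * col i z))) := fun y z => by
    rw [hxe, Matrix.mul_add, Matrix.add_mul, Matrix.mul_one, row_mul_col, Matrix.mul_sub, Matrix.sub_mul,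
      Matrix.mul_add, Matrix.add_mul, Matrix.mul_smul, Matrix.smul_mul,
      show row τ i y * (col i v * B * ad τ B * row τ i v) * col i z =
        (row τ i y * col i v) * (B * ad τ B) * (row τ i v * col i z) by simp only [Matrix.mul_assoc],
      show row τ i y * (g.1 * col i d * ad τ B * row τ i v) * col i z =
        row τ i y * g.1 * col i d * ad τ B * (row τ i v * col i z) by simp only [Matrix.mul_assoc],
      show row τ i y * (col i v * B * (row τ i d * g⁻¹.1)) * col i z =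
        (row τ i y * col i v) * (B * (row τ i d * g⁻¹.1 * col i z)) by simp only [Matrix.mul_assoc],
      row_mul_col, row_mul_col]
    simp only [Matrix.smul_mul, Matrix.mul_smul, Matrix.one_mul, Matrix.mul_one, smul_comm (hd τ z v) (hd τ v y)]
  obtain ⟨A, hA⟩ := hM.fix_one hv0 hv hvv' hxM hxv (fun y z hy hz => by
    rw [hyz, hz, hτ.hd_symm_zero hy]; simp)
  have hscal : ∀ y z : Fin m → F, ∃ a : F, row τ i y * x.1 * col i z = a • 1 := fun y z =>
    ⟨hd τ (A *ᵥ z) y, by rw [hA, row_slot_col]⟩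
  have hv'v : hd τ v' v = 1 := hd_one hτ hvv'
  refine ⟨fun r hr => ?_, ?_⟩
  · obtain ⟨a, ha⟩ := hscal r v'
    rw [hyz, hτ.hd_symm_zero hr, hv'v] at ha
    simp only [zero_smul, smul_zero, zero_add, sub_zero, one_smul] at ha
    refine ⟨a - hd τ v' r, ?_⟩
    have e : row τ i r * g.1 * col i d * ad τ B = (a - hd τ v' r) • 1 := by rw [sub_smul, ← ha, add_sub_cancel_left]
    have := congrArg (· * ad τ B') e
    simp only [Matrix.smul_mul, Matrix.one_mul] at this
    rwa [Matrix.mul_assoc, ← ad_mul, hB'B, ad_one, Matrix.mul_one] at this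
  · obtain ⟨a, ha⟩ := hscal v' v'
    rw [hyz, hvv', hv'v] at ha
    simp only [one_smul] at ha
    refine ⟨a - hd τ v' v', c, ?_⟩
    rw [sub_smul, ← ha, ad_mul, ad_mul, ad_col, ad_row hτ, ad_of_mem (hM.ug hg)]
    simp only [Matrix.mul_assoc]
    abel

/-- The blocks of an element preserving the columns of an isotropic vector. -/
theorem One.blocks (hM : One τ M i) (hm : 3 ≤ m) {v v' : Fin m → F} (hv0 : v ≠ 0) (hv : hd τ v v = 0)
    (hv' : hd τ v' v' = 0) (hvv' : hd τ v v' = 1) {g : GL (Fin (s + 1) → Fin m) F} (hg : g ∈ M) {B B' : TMat F m s}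
    (hBB : B * B' = 1) (h : g.1 * col i v = col i v * B) :
    ∃ ν : F, ν ≠ 0 ∧ τ ν = ν ∧ B * ad τ B = ν • 1 ∧
      ∀ y z : Fin m → F, hd τ y v = 0 ∨ hd τ z v = 0 → ∃ a : F, row τ i y * g.1 * col i z = a • B := by
  classical
  have hτ := hM.conj
  have hv'v : hd τ v' v = 1 := hd_one hτ hvv'
  have hB'B : B' * B = 1 := mul_eq_one_comm.1 hBB
  have hgi : g⁻¹.1 * col i v = col i v * B' := by
    have := congrArg (fun W => g⁻¹.1 * W * B') h
    simp only [← Matrix.mul_assoc, Units.inv_mul, Matrix.one_mul] at this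
    rw [Matrix.mul_assoc (g⁻¹.1 * col i v), hBB, Matrix.mul_one] at this
    exact this.symm
  have haux := fun {d} (hdv : hd τ d v = 0) => hM.blocks_aux hv0 hv hvv' hg hBB h hdv
  have haux' := fun {d} (hdv : hd τ d v = 0) => hM.blocks_aux hv0 hv hvv' (inv_mem hg) hB'B hgi hdv
  -- some middle block is not zero
  obtain ⟨r, d, hr, hd', hne⟩ : ∃ r d, hd τ r v = 0 ∧ hd τ d v = 0 ∧ row τ i r * g.1 * col i d ≠ 0 := by
    by_contra hcon
    push Not at hcon
    obtain ⟨r₀, hr0v, -, hr00⟩ := exists_mid hτ hm hv hv' hvv'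
    have e : g.1 * col i r₀ = col i v * (row τ i v' * g.1 * col i r₀) := ext_row (τ := τ) i fun y => by
      have hy : hd τ (y - hd τ y v • v') v = 0 := by
        rw [hd_sub_left, hd_smul_left, hv'v, mul_one, sub_self]
      conv_lhs => rw [← sub_add_cancel y (hd τ y v • v'), row_add, Matrix.add_mul, ← Matrix.mul_assoc,
        hcon _ _ hy hr0v, row_smul, Matrix.smul_mul, ← Matrix.mul_assoc, zero_add]
      rw [← Matrix.mul_assoc (row τ i y), row_mul_col, Matrix.smul_mul, Matrix.one_mul, hτ.hd_conj]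
    have h1 := congrArg (fun W => ad τ W * W) e
    simp only [ad_mul, ad_col] at h1
    rw [Matrix.mul_assoc, ← Matrix.mul_assoc (ad τ g.1), mem_UG.1 (hM.ug hg), Matrix.one_mul, row_mul_col,
      Matrix.mul_assoc _ (row τ i v), ← Matrix.mul_assoc (row τ i v), row_mul_col, hv, zero_smul, Matrix.zero_mul,
      Matrix.mul_zero] at h1
    exact hr00 ((smul_eq_zero.1 h1).resolve_right one_ne_zero)
  obtain ⟨a, ha⟩ := (haux hd').1 r hr
  obtain ⟨a', ha'⟩ := (haux' hr).1 d hd'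
  have ha0 : a ≠ 0 := fun e => hne (by rw [ha, e, zero_smul])
  have e1 : τ a • B' = a' • ad τ B := by
    rw [← ha', ← ad_ad hτ B', ← ad_smul, ← ha, ad_mul, ad_mul, ad_col, ad_row hτ, ad_of_mem (hM.ug hg),
      Matrix.mul_assoc]
  have e2 : τ a • (1 : TMat F m s) = a' • (B * ad τ B) := by rw [← Matrix.mul_smul, ← e1, Matrix.mul_smul, hBB]
  have ha'0 : a' ≠ 0 := fun e => by
    rw [e, zero_smul] at e2
    exact (map_ne_zero τ).2 ha0 ((smul_eq_zero.1 e2).resolve_right one_ne_zero)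
  set ν := a'⁻¹ * τ a with hνd
  have hν0 : ν ≠ 0 := mul_ne_zero (inv_ne_zero ha'0) ((map_ne_zero τ).2 ha0)
  have hν : B * ad τ B = ν • 1 := by rw [hνd, ← smul_smul, e2, inv_smul_smul₀ ha'0]
  have hντ : τ ν = ν := by
    have h1 := congrArg (ad τ) hν
    rw [ad_mul, ad_ad hτ, ad_smul, ad_one, hν, ← sub_eq_zero, ← sub_smul] at h1
    exact (sub_eq_zero.1 ((smul_eq_zero.1 h1).resolve_right one_ne_zero)).symm
  have hadB : ad τ B' = ν⁻¹ • B := by
    have h1 := congrArg (· * ad τ B') hν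
    simp only [Matrix.smul_mul, Matrix.one_mul, Matrix.mul_assoc, ← ad_mul, hB'B, ad_one, Matrix.mul_one] at h1
    rw [h1, inv_smul_smul₀ hν0]
  have key : ∀ (g : GL (Fin (s + 1) → Fin m) F) (B B' : TMat F m s) (ν : F), g ∈ M → B * B' = 1 →
      g.1 * col i v = col i v * B → B * ad τ B = ν • 1 → (∃ x : F, ad τ B' = x • B) →
      ∀ y d : Fin m → F, hd τ d v = 0 → ∃ a : F, row τ i y * g.1 * col i d = a • B := by
    intro g B B' ν hg hBB h hν ⟨x, hx⟩ y d hdv
    have hB'B : B' * B = 1 := mul_eq_one_comm.1 hBB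
    have hsc : ∀ d, hd τ d v = 0 → ∃ a : F,
        row τ i v' * g.1 * col i d * ad τ B - B * ad τ (row τ i v' * g.1 * col i d) = a • 1 := fun d hdv => by
      obtain ⟨a, c, e⟩ := (hM.blocks_aux hv0 hv hvv' hg hBB h hdv).2
      rw [hν, smul_smul] at e
      exact ⟨a - c * ν, by rw [sub_smul, ← e, add_sub_cancel_right]⟩
    set G := row τ i v' * g.1 * col i d with hG
    obtain ⟨μ, hμ0, hμ⟩ := exists_nonfixed hτ
    obtain ⟨a₁, e₁⟩ := hsc d hdv
    obtain ⟨a₂, e₂⟩ := hsc (μ • d) (by rw [hd_smul_left, hdv, mul_zero])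
    rw [col_smul, Matrix.mul_smul, ← hG, ad_smul, Matrix.smul_mul, Matrix.mul_smul] at e₂
    rw [← hG] at e₁
    have e3 : (μ - τ μ) • (G * ad τ B) = (a₂ - τ μ * a₁) • 1 := by
      rw [sub_smul, sub_smul, ← e₂, ← smul_smul (τ μ) a₁, ← e₁, smul_sub (τ μ) (G * ad τ B) (B * ad τ G)]
      abel
    obtain ⟨b, hb⟩ : ∃ b : F, G = b • B := by
      refine ⟨(μ - τ μ)⁻¹ * (a₂ - τ μ * a₁) * x, ?_⟩
      have e4 : G * ad τ B = ((μ - τ μ)⁻¹ * (a₂ - τ μ * a₁)) • 1 := by
        rw [← smul_smul, ← e3, inv_smul_smul₀ (sub_ne_zero.2 (Ne.symm hμ))]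
      have := congrArg (· * ad τ B') e4
      simp only [Matrix.smul_mul, Matrix.one_mul] at this
      rw [Matrix.mul_assoc, ← ad_mul, hB'B, ad_one, Matrix.mul_one, hx, smul_smul] at this
      exact this
    have hy : hd τ (y - hd τ y v • v') v = 0 := by
      rw [hd_sub_left, hd_smul_left, hd_one hτ hvv', mul_one, sub_self]
    obtain ⟨a₃, e₃⟩ := (hM.blocks_aux hv0 hv hvv' hg hBB h hdv).1 _ hy
    refine ⟨a₃ * x + τ (hd τ y v) * b, ?_⟩
    conv_lhs => rw [← sub_add_cancel y (hd τ y v • v'), row_add, Matrix.add_mul, Matrix.add_mul, e₃, row_smul,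
      Matrix.smul_mul, Matrix.smul_mul, ← hG, hb, hx, smul_smul, smul_smul, ← add_smul]
  refine ⟨ν, hν0, hντ, hν, fun y z hyz => ?_⟩
  rcases hyz with hy | hz
  · have hν' : B' * ad τ B' = ν⁻¹ • 1 := by rw [hadB, Matrix.mul_smul, hB'B]
    have hx' : ∃ x : F, ad τ B = x • B' := ⟨ν, by
      have := congrArg (B' * ·) hν
      simp only [Matrix.mul_smul, Matrix.mul_one, ← Matrix.mul_assoc, hB'B, Matrix.one_mul] at this
      exact this⟩
    obtain ⟨b, hb⟩ := key g⁻¹ B' B ν⁻¹ (inv_mem hg) hB'B hgi hν' hx' z y hy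
    refine ⟨τ b * ν⁻¹, ?_⟩
    rw [← smul_smul, ← hadB, ← ad_smul, ← hb, ad_mul, ad_mul, ad_col, ad_row hτ, ad_inv_of_mem (hM.ug hg),
      Matrix.mul_assoc]
  · exact key g B B' ν hg hBB h hν ⟨ν⁻¹, hadB⟩ y z hz

theorem mul_ov (A : Matrix (Fin m) (Fin m) F) (v w : Fin m → F) : A * ov τ v w = ov τ (A *ᵥ v) w :=
  Matrix.mul_vecMulVec _ _ _

theorem ov_mul_right (hτ : Conj τ) (A : Matrix (Fin m) (Fin m) F) (v w : Fin m → F) :
    ov τ v w * A = ov τ v (ad τ A *ᵥ w) := by
  rw [← ad_ad hτ (ov τ v w * A), ad_mul, ad_ov hτ, mul_ov, ad_ov hτ]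

/-- Elements preserving the columns of an isotropic vector split. -/
theorem One.split (hM : One τ M i) (hm : 3 ≤ m) (hbig : Big τ m) {v : Fin m → F} (hv0 : v ≠ 0)
    (hv : hd τ v v = 0) {g : GL (Fin (s + 1) → Fin m) F} (hg : g ∈ M) {B : TMat F m s}
    (h : g.1 * col i v = col i v * B) :
    ∃ (A : GL (Fin m) F) (B₀ : GL (Fin s → Fin m) F), A ∈ UG τ (Fin m) ∧ B₀ ∈ UG τ (Fin s → Fin m) ∧
      g = slotGL i A * emb i B₀ := by
  have hτ := hM.conj
  obtain ⟨v', hv', hvv'⟩ := hτ.exists_partner hv0 hv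
  have hv'v : hd τ v' v = 1 := hd_one hτ hvv'
  set B' := row τ i v' * g⁻¹.1 * col i v with hB'
  have hB'B : B' * B = 1 := by
    rw [hB', Matrix.mul_assoc, ← h, ← Matrix.mul_assoc, Matrix.mul_assoc (row τ i v'), Units.inv_mul, Matrix.mul_one,
      row_mul_col, hvv', one_smul]
  have hBB : B * B' = 1 := mul_eq_one_comm.1 hB'B
  obtain ⟨ν, hν0, hντ, hν, hblk⟩ := hM.blocks hm hv0 hv hv' hvv' hg hBB h
  obtain ⟨t, ht⟩ := hτ.exists_norm hντ
  have ht0 : t ≠ 0 := fun e => hν0 (by rw [← ht, e, zero_mul])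
  have hadB : ad τ B = ν • B' := by
    have := congrArg (B' * ·) hν
    simp only [Matrix.mul_smul, Matrix.mul_one, ← Matrix.mul_assoc, hB'B, Matrix.one_mul] at this
    exact this
  let B₀ : GL (Fin s → Fin m) F := ⟨t⁻¹ • B, t • B',
    by rw [Matrix.smul_mul, Matrix.mul_smul, smul_smul, inv_mul_cancel₀ ht0, one_smul, hBB],
    by rw [Matrix.smul_mul, Matrix.mul_smul, smul_smul, mul_inv_cancel₀ ht0, one_smul, hB'B]⟩
  have hB₀ : B₀ ∈ UG τ (Fin s → Fin m) := by
    rw [mem_UG]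
    show ad τ (t⁻¹ • B) * (t⁻¹ • B) = 1
    rw [ad_smul, hadB, Matrix.smul_mul, Matrix.smul_mul, Matrix.mul_smul, hB'B, smul_smul, smul_smul, map_inv₀, ← ht]
    have := (map_ne_zero τ).2 ht0
    rw [show (τ t)⁻¹ * (t * τ t) * t⁻¹ = 1 by field_simp, one_smul]
  set g₁ := (emb i B₀)⁻¹ * g with hg₁
  have hg₁U : g₁ ∈ UG τ (Fin (s + 1) → Fin m) := mul_mem (inv_mem (emb_UG hB₀)) (hM.ug hg)
  have hval : g₁.1 = embM i (t • B') * g.1 := by rw [hg₁, ← map_inv, Units.val_mul, emb_val]; rfl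
  have hg₁v : g₁.1 * col i v = t • col i v := by
    rw [hval, Matrix.mul_assoc, h, ← Matrix.mul_assoc, embM_mul_col, Matrix.mul_assoc, Matrix.smul_mul, hB'B,
      Matrix.mul_smul, Matrix.mul_one]
  have hblk₁ : ∀ y z : Fin m → F, hd τ y v = 0 ∨ hd τ z v = 0 → ∃ a : F, row τ i y * g₁.1 * col i z = a • 1 := by
    intro y z hyz
    obtain ⟨a, ha⟩ := hblk y z hyz
    refine ⟨t * a, ?_⟩
    rw [hval, ← Matrix.mul_assoc, row_mul_embM hτ, Matrix.mul_assoc, Matrix.mul_assoc, ← Matrix.mul_assoc (row τ i y),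
      ha, Matrix.smul_mul, Matrix.mul_smul, hB'B, smul_smul]
  let u₀ : Fin s → Fin m := fun _ => 0
  set A₀ : Matrix (Fin m) (Fin m) F :=
    Matrix.of fun k l => (row τ i (Pi.single k (1 : F)) * g₁.1 * col i (Pi.single l (1 : F))) u₀ u₀
  have hA₀ : ∀ y z, hd τ (A₀ *ᵥ z) y = (row τ i y * g₁.1 * col i z) u₀ u₀ := by
    intro y z
    conv_rhs => rw [← CfsgLib.TensorWreath.sum_single y, ← CfsgLib.TensorWreath.sum_single z, col_sum, ← ad_col,
      col_sum, ad_sum, Matrix.sum_mul, Matrix.sum_mul]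
    simp only [Matrix.mul_sum, Matrix.sum_apply, col_smul, ad_smul, ad_col, Matrix.smul_mul, Matrix.mul_smul,
      Matrix.smul_apply, smul_eq_mul, TensorMax.Unitary.hd_apply, Matrix.mulVec, dotProduct, Finset.sum_mul]
    exact Finset.sum_congr rfl fun k _ => Finset.sum_congr rfl fun l _ => by simp only [A₀, Matrix.of_apply]; ring
  have hblk₂ : ∀ y z : Fin m → F, hd τ y v = 0 ∨ hd τ z v = 0 →
      row τ i y * g₁.1 * col i z = hd τ (A₀ *ᵥ z) y • 1 := fun y z hyz => by
    obtain ⟨a, ha⟩ := hblk₁ y z hyz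
    rw [hA₀, ha, Matrix.smul_apply, Matrix.one_apply_eq, smul_eq_mul, mul_one]
  set E := row τ i v' * (g₁.1 - slot i A₀) * col i v'
  have hcor : g₁.1 = slot i A₀ + col i v * E * row τ i v := by
    have hc := corner hτ i hv hvv' (X := g₁.1 - slot i A₀) (fun y z hyz => by
      rw [Matrix.mul_sub, Matrix.sub_mul, hblk₂ y z hyz, row_slot_col, sub_self])
    rw [← hc, add_sub_cancel]
  have hAv : A₀ *ᵥ v = t • v := hτ.eq_of_forall fun y => by
    rw [hA₀, Matrix.mul_assoc, hg₁v, Matrix.mul_smul, row_mul_col, smul_smul, Matrix.smul_apply, Matrix.one_apply_eq,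
      smul_eq_mul, mul_one, hd_smul_left]
  have hrow₁ : row τ i v * g₁.1 = (τ t)⁻¹ • row τ i v := by
    have h1 := congrArg (fun W => g₁⁻¹.1 * W) hg₁v
    simp only [← Matrix.mul_assoc, Units.inv_mul, Matrix.one_mul, Matrix.mul_smul] at h1
    have h2 := congrArg (ad τ) h1
    rw [ad_smul, ad_mul, ad_inv_of_mem hg₁U, ad_col] at h2
    conv_rhs => rw [h2, inv_smul_smul₀ ((map_ne_zero τ).2 ht0)]
  have hAadv : ad τ A₀ *ᵥ v = t⁻¹ • v := by
    refine hτ.eq_of_forall fun y => ?_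
    rw [← hτ.hd_conj y (ad τ A₀ *ᵥ v), ← hd_mulVec _ _ _ hτ, hA₀, hrow₁, Matrix.smul_mul, row_mul_col,
      Matrix.smul_apply, Matrix.smul_apply, Matrix.one_apply_eq, smul_eq_mul, smul_eq_mul, mul_one, map_mul, map_inv₀,
      hτ.invol, hτ.hd_conj, hd_smul_left]
  have hU : slot i (ad τ A₀ * A₀ - 1) = col i v * -(t⁻¹ • E + (τ t)⁻¹ • ad τ E) * row τ i v := by
    have h1 := mem_UG.1 hg₁U
    rw [hcor, ad_add, ad_mul, ad_mul, ad_slot, ad_row hτ, ad_col, Matrix.add_mul, Matrix.mul_add, Matrix.mul_add,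
      ← slot_mul,
      show slot i (ad τ A₀) * (col i v * E * row τ i v) = (slot i (ad τ A₀) * col i v) * E * row τ i v by
        simp only [Matrix.mul_assoc],
      show col i v * (ad τ E * row τ i v) * slot i A₀ = col i v * ad τ E * (row τ i v * slot i A₀) by
        simp only [Matrix.mul_assoc],
      show col i v * (ad τ E * row τ i v) * (col i v * E * row τ i v) =
        col i v * ad τ E * (row τ i v * col i v) * E * row τ i v by simp only [Matrix.mul_assoc],
      slot_mul_col, row_mul_slot hτ, hAadv, row_smul, col_smul, map_inv₀, row_mul_col, hv, zero_smul,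
      Matrix.mul_zero, Matrix.zero_mul, Matrix.zero_mul, add_zero] at h1
    rw [slot_minus, slot_one, sub_eq_iff_eq_add]
    conv_rhs => rw [← h1]
    simp only [Matrix.mul_neg, Matrix.neg_mul, Matrix.mul_add, Matrix.add_mul, Matrix.smul_mul, Matrix.mul_smul,
      Matrix.mul_assoc]
    abel
  set X := ad τ A₀ * A₀ - 1 with hXd
  set β := hd τ (X *ᵥ v') v'
  have hX : X = β • ov τ v v := by
    have h1 := congrArg (fun W => row τ i v' * W * col i v') hU
    simp only [row_slot_col] at h1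
    rw [show row τ i v' * (col i v * -(t⁻¹ • E + (τ t)⁻¹ • ad τ E) * row τ i v) * col i v' =
      (row τ i v' * col i v) * -(t⁻¹ • E + (τ t)⁻¹ • ad τ E) * (row τ i v * col i v') by simp only [Matrix.mul_assoc],
      row_mul_col, row_mul_col, hvv', hv'v, one_smul, Matrix.one_mul, Matrix.mul_one] at h1
    refine slot_injective i ?_
    rw [hU, ← h1, Matrix.mul_smul, Matrix.mul_one, Matrix.smul_mul, ← slot_ov, slot_smul]
  have hβ : τ β = β := by
    have h1 : ad τ X = X := by rw [hXd, ad_sub, ad_mul, ad_ad hτ, ad_one]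
    rw [hX, ad_smul, ad_ov hτ, ← sub_eq_zero, ← sub_smul] at h1
    exact sub_eq_zero.1 ((smul_eq_zero.1 h1).resolve_right (ov_ne_zero hv0 hv0))
  obtain ⟨l, hl⟩ := hτ.exists_trace (c := -β) (by rw [map_neg, hβ])
  set A₁ : Matrix (Fin m) (Fin m) F := A₀ + (t * l) • ov τ v v with hA₁d
  have hA₁ : ad τ A₁ * A₁ = 1 := by
    rw [hA₁d, ad_add, ad_smul, ad_ov hτ]
    simp only [Matrix.add_mul, Matrix.mul_add, Matrix.smul_mul, Matrix.mul_smul, ov_mul, hv, zero_smul, smul_zero,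
      add_zero]
    rw [mul_ov, ov_mul_right hτ, hAadv, ov_smul_left, ov_smul_right, smul_smul, smul_smul]
    rw [show ad τ A₀ * A₀ = 1 + β • ov τ v v by rw [← hX, hXd, add_sub_cancel], add_assoc, add_assoc, ← add_smul,
      ← add_smul, map_mul, map_inv₀]
    have := (map_ne_zero τ).2 ht0
    rw [show β + (τ t * τ l * (τ t)⁻¹ + t * l * t⁻¹) = 0 by field_simp; linear_combination hl, zero_smul, add_zero]
  let A : GL (Fin m) F := ⟨A₁, ad τ A₁, mul_eq_one_comm.1 hA₁, hA₁⟩
  have hA : A ∈ UG τ (Fin m) := mem_UG.2 hA₁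
  have hA₁v : A₁ *ᵥ v = t • v := by
    rw [hA₁d, Matrix.add_mulVec, Matrix.smul_mulVec, ov_mulVec, hv, zero_smul, smul_zero, add_zero, hAv]
  obtain ⟨E', hE'⟩ : ∃ X : TMat F m s, X = t⁻¹ • E - l • (1 : TMat F m s) := ⟨_, rfl⟩
  set H := (slotGL i A)⁻¹ * g₁ with hHd
  have hH : H.1 = 1 + col i v * E' * row τ i v := by
    refine (slotGL i A).isUnit.mul_left_cancel ?_
    rw [← Units.val_mul, hHd, mul_inv_cancel_left, hcor, slotGL_val, show (A : Matrix (Fin m) (Fin m) F) = A₁ from rfl,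
      Matrix.mul_add, Matrix.mul_one, show slot i A₁ * (col i v * E' * row τ i v) = (slot i A₁ * col i v) * E' *
        row τ i v by simp only [Matrix.mul_assoc], slot_mul_col, hA₁v, col_smul, hA₁d, slot_add, slot_smul, slot_ov,
      hE']
    simp only [Matrix.smul_mul, Matrix.mul_sub, Matrix.sub_mul, Matrix.mul_smul, Matrix.mul_one,
      smul_smul, mul_comm l t, inv_mul_cancel₀ ht0, one_smul]
    abel
  set T := slotGL i A * emb i B₀
  have hgT : g = T * H := by
    rw [hHd, hg₁]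
    simp only [T]
    rw [slotGL_emb_comm]
    group
  have hM' : One τ (M.comap (MulAut.conj T).toMonoidHom) i := hM.conjBy hA hB₀
  have hinv : H⁻¹.1 = 1 - col i v * E' * row τ i v := by
    refine left_inv_eq_right_inv (Units.inv_mul H) ?_
    rw [hH, Matrix.add_mul, Matrix.one_mul, Matrix.mul_sub, Matrix.mul_one,
      show col i v * E' * row τ i v * (col i v * E' * row τ i v) = col i v * E' * (row τ i v * col i v) * E' *
        row τ i v by simp only [Matrix.mul_assoc], row_mul_col, hv, zero_smul, Matrix.mul_zero, Matrix.zero_mul,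
      Matrix.zero_mul, sub_zero, sub_add_cancel]
  obtain ⟨e, he⟩ := hM'.scalar_of_pair hm hbig hv0 hv (C := E') (fun S hS hS1 hSv => by
    refine ⟨H * slotGL i S * H⁻¹ * (slotGL i S)⁻¹, mul_mem ?_ (inv_mem (hM'.su S hS hS1)), ?_⟩
    · show T * (H * slotGL i S * H⁻¹) * T⁻¹ ∈ M
      rw [show T * (H * slotGL i S * H⁻¹) * T⁻¹ = (T * H) * slotGL i S * (T * H)⁻¹ by group, ← hgT]
      exact mul_mem (mul_mem hg (hM.su S hS hS1)) (inv_mem hg)
    · rw [mul_assoc (H * slotGL i S), mul_assoc H, ← mul_assoc (slotGL i S) H⁻¹, Units.val_mul, ← cj_val, hH, hinv,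
        map_sub, map_one, cj_apply, ← map_inv, slotGL_val, slotGL_val,
        show slot i (S : Matrix (Fin m) (Fin m) F) * (col i v * E' * row τ i v) *
          slot i (↑S⁻¹ : Matrix (Fin m) (Fin m) F) = (slot i (S : Matrix (Fin m) (Fin m) F) * col i v) * E' *
          (row τ i v * slot i (↑S⁻¹ : Matrix (Fin m) (Fin m) F)) by simp only [Matrix.mul_assoc],
        slot_mul_col, row_mul_slot hτ, ad_inv_of_mem hS]
      set w := (S : Matrix (Fin m) (Fin m) F) *ᵥ v
      rw [Matrix.add_mul, Matrix.one_mul, Matrix.mul_sub, Matrix.mul_one,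
        show col i v * E' * row τ i v * (col i w * E' * row τ i w) = col i v * E' * (row τ i v * col i w) * E' *
          row τ i w by simp only [Matrix.mul_assoc], row_mul_col, hSv, zero_smul, Matrix.mul_zero, Matrix.zero_mul,
        Matrix.zero_mul, sub_zero]
      abel)
  have hHs : H = slotGL i (tu τ v hv e) := Units.ext (by
    rw [hH, he, slotGL_val]
    show _ = slot i (1 + e • ov τ v v)
    rw [slot_add, slot_one, slot_smul, slot_ov, Matrix.mul_smul, Matrix.mul_one, Matrix.smul_mul])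
  have hHU : tu τ v hv e ∈ UG τ (Fin m) := by
    have h1 : slotGL i (tu τ v hv e) ∈ UG τ (Fin (s + 1) → Fin m) :=
      hHs ▸ mul_mem (inv_mem (slotGL_UG hA)) hg₁U
    rw [mem_UG, slotGL_val, ad_slot, ← slot_mul, ← slot_one (F := F) (d := m) i] at h1
    exact mem_UG.2 (slot_injective i h1)
  refine ⟨A * tu τ v hv e, B₀, mul_mem hA hHU, hB₀, ?_⟩
  rw [hgT, hHs]
  simp only [T]
  rw [map_mul, mul_assoc, mul_assoc, slotGL_emb_comm i (tu τ v hv e) B₀]

end one

/-! ### The inductive situation -/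

/-- The coefficients of the elements of a group fixing a slot. -/
def coef (τ : F ≃+* F) (M : Subgroup (GL (Fin (s + 1) → Fin m) F)) (i : Fin (s + 1)) :
    Subgroup (GL (Fin s → Fin m) F) where
  carrier := {B | B ∈ UG τ (Fin s → Fin m) ∧ ∃ A : GL (Fin m) F, A ∈ UG τ (Fin m) ∧ slotGL i A * emb i B ∈ M}
  one_mem' := ⟨one_mem _, 1, one_mem _, by simp [one_mem]⟩
  mul_mem' := fun {a b} ⟨ha, A, hA, h⟩ ⟨hb, A', hA', h'⟩ => ⟨mul_mem ha hb, A * A', mul_mem hA hA', by
    have := mul_mem h h'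
    rwa [map_mul, map_mul, mul_assoc, ← mul_assoc (slotGL i A'), slotGL_emb_comm i A' a, mul_assoc,
      ← mul_assoc (slotGL i A)]⟩
  inv_mem' := fun {a} ⟨ha, A, hA, h⟩ => ⟨inv_mem ha, A⁻¹, inv_mem hA, by
    have := inv_mem h
    rwa [slotGL_emb_comm, mul_inv_rev, ← map_inv, ← map_inv] at this⟩

theorem SUCtx.coef {M : Subgroup (GL (Fin (s + 1) → Fin m) F)} (hM : SUCtx τ M) (hm : 3 ≤ m) (hbig : Big τ m)
    (i : Fin (s + 1)) : SUCtx τ (CfsgLib.TensorWreathSU.coef τ M i) := by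
  refine ⟨hM.conj, fun B hB => hB.1, fun j A hA hA1 => ⟨slotGL_UG hA, 1, one_mem _, ?_⟩,
    fun j v k hv0 hv hk0 hk C hC h => ?_⟩
  · rw [map_one, one_mul, emb_slotGL]
    exact hM.su _ A hA hA1
  obtain ⟨B, ⟨-, A, hA, hg⟩, hBv⟩ := h
  set j' := i.succAbove j with hj'
  have hcent : Cent j' (embM i C) := fun a => by
    rw [hj', ← embM_slot, ← map_mul, ← map_mul, hC a]
  obtain ⟨D, hD⟩ := (cent_iff j' _).1 hcent
  have hslot : ∀ w, slot j' (k • ov τ w w) * embM i C = col j' w * (k • D) * row τ j' w := fun w => by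
    rw [hD, slot_smul, Matrix.smul_mul, Matrix.mul_smul, Matrix.smul_mul, col_row_eq_slot]
  obtain ⟨c, hc⟩ := (hM.one j').scalar_of_pair hm hbig hv0 hv (C := k • D) (fun S hS hS1 hSv => by
    refine ⟨slotGL i A * emb i B * slotGL j' S * (slotGL i A * emb i B)⁻¹ * (slotGL j' S)⁻¹,
      mul_mem (mul_mem (mul_mem hg (hM.su _ S hS hS1)) (inv_mem hg)) (inv_mem (hM.su _ S hS hS1)), ?_⟩
    have e : slotGL i A * emb i B * slotGL j' S * (slotGL i A * emb i B)⁻¹ * (slotGL j' S)⁻¹ =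
        emb i (B * slotGL j S * B⁻¹ * (slotGL j S)⁻¹) := by
      rw [hj', ← emb_slotGL, mul_inv_rev, map_mul, map_mul, map_mul, map_inv, map_inv]
      have e1 : slotGL i A * (emb i B * emb i (slotGL j S) * (emb i B)⁻¹) =
          emb i B * emb i (slotGL j S) * (emb i B)⁻¹ * slotGL i A := by
        rw [← map_inv, ← map_mul, ← map_mul, slotGL_emb_comm]
      calc _ = slotGL i A * (emb i B * emb i (slotGL j S) * (emb i B)⁻¹) * (slotGL i A)⁻¹ * (emb i (slotGL j S))⁻¹ := by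
            simp only [mul_assoc]
        _ = _ := by rw [e1, mul_inv_cancel_right]
    rw [e, emb_val, ← hslot, ← hslot, ← embM_slot, hj', ← embM_slot, ← map_mul, ← map_mul, ← map_sub,
      ← map_one (embM (F := F) (m := m) (s := s) i), ← map_add]
    refine congrArg _ ?_
    set N := slot j (k • ov τ v v) * C with hN
    have hN2 : N * N = 0 := by
      rw [hN, mul_assoc, ← mul_assoc C, ← hC, mul_assoc, ← mul_assoc, ← slot_mul, Matrix.smul_mul, Matrix.mul_smul,
        ov_mul, hv, zero_smul, smul_zero, smul_zero, slot_zero, zero_mul]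
    have hinv : B⁻¹.1 = 1 - N := left_inv_eq_right_inv (Units.inv_mul B) (by
      rw [hBv, add_mul, one_mul, mul_sub, mul_one, hN2, sub_zero, sub_add_cancel])
    rw [mul_assoc (B * slotGL j S), mul_assoc B, ← mul_assoc (slotGL j S) B⁻¹, Units.val_mul, ← cj_val, hBv, hinv,
      map_sub, map_one, cj_apply, ← map_inv, slotGL_val, slotGL_val]
    set w := (S : Matrix (Fin m) (Fin m) F) *ᵥ v
    have eN : slot j (S : Matrix (Fin m) (Fin m) F) * N * slot j (↑S⁻¹ : Matrix (Fin m) (Fin m) F) =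
        slot j (k • ov τ w w) * C := by
      rw [hN, mul_assoc, mul_assoc, ← hC, ← mul_assoc, ← mul_assoc, ← slot_mul, ← slot_mul]
      congr 2
      rw [Matrix.mul_smul, Matrix.smul_mul, mul_ov, ov_mul_right hM.conj, ad_inv_of_mem hS]
    rw [eN, add_mul, one_mul, mul_sub, mul_one, hN, mul_assoc _ C, ← mul_assoc C, ← hC, mul_assoc (slot j _) C,
      ← mul_assoc (slot j (k • ov τ v v)), ← slot_mul, Matrix.smul_mul, Matrix.mul_smul, ov_mul, hSv, zero_smul,
      smul_zero, smul_zero, slot_zero, zero_mul, sub_zero]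
    abel)
  have h1 : embM i C = (k⁻¹ * c) • 1 := by
    rw [hD, ← inv_smul_smul₀ hk0 D, hc, smul_smul, map_smul, map_one]
  exact ⟨k⁻¹ * c, embM_injective i (by rw [h1, map_smul, map_one])⟩

/-- The hypotheses of the inductive step. -/
structure Lev (τ : F ≃+* F) (M : Subgroup (GL (Fin (s + 1) → Fin m) F)) : Prop where
  hm : 3 ≤ m
  hs : 0 < s
  big : Big τ m
  ctx : SUCtx τ M
  ih : ∀ K : Subgroup (GL (Fin s → Fin m) F), SUCtx τ K → K ≤ Std F m s

variable {M : Subgroup (GL (Fin (s + 1) → Fin m) F)}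

theorem Lev.conj (hL : Lev τ M) : Conj τ := hL.ctx.conj

/-- An element preserving the columns of an isotropic vector of a slot lies in the tensor wreath group. -/
theorem Lev.std_of_col (hL : Lev τ M) {i : Fin (s + 1)} {v : Fin m → F} (hv0 : v ≠ 0) (hv : hd τ v v = 0)
    {g : GL (Fin (s + 1) → Fin m) F} (hg : g ∈ M) {B : TMat F m s} (h : g.1 * col i v = col i v * B) :
    g ∈ Std F m (s + 1) ∧ ∃ (A : GL (Fin m) F) (B : GL (Fin s → Fin m) F),
      A ∈ UG τ (Fin m) ∧ B ∈ UG τ (Fin s → Fin m) ∧ B ∈ Std F m s ∧ g = slotGL i A * emb i B := by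
  obtain ⟨A, B₀, hA, hB₀, rfl⟩ := (hL.ctx.one i).split hL.hm hL.big hv0 hv hg h
  have hB : B₀ ∈ Std F m s := hL.ih _ (hL.ctx.coef hL.hm hL.big i) ⟨hB₀, A, hA, hg⟩
  exact ⟨mul_mem (slotGL_mem i A) (emb_mem i hB), A, B₀, hA, hB₀, hB, rfl⟩

/-- An element mapping the image of a root into itself lies in the tensor wreath group and fixes the slot. -/
theorem Lev.std_of_mul (hL : Lev τ M) {i : Fin (s + 1)} {N R : TMat F m (s + 1)} (hN : IsRootU τ i N)
    {g : GL (Fin (s + 1) → Fin m) F} (hg : g ∈ M) (h : g.1 * N = N * R) :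
    g ∈ Std F m (s + 1) ∧ ∃ (A : GL (Fin m) F) (B : GL (Fin s → Fin m) F),
      A ∈ UG τ (Fin m) ∧ B ∈ UG τ (Fin s → Fin m) ∧ B ∈ Std F m s ∧ g = slotGL i A * emb i B := by
  obtain ⟨v, k, hv0, hv, hk0, -, rfl⟩ := hN
  obtain ⟨v', -, hvv'⟩ := hL.conj.exists_partner hv0 hv
  refine hL.std_of_col hv0 hv hg (B := row τ i v * R * col i v') ?_
  rw [slot_smul, slot_ov, Matrix.mul_smul, Matrix.smul_mul] at h
  have h1 := congrArg (fun W => W * col i v') (smul_right_injective _ hk0 h)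
  rw [← Matrix.mul_assoc, Matrix.mul_assoc _ (row τ i v), row_mul_col, hd_one hL.conj hvv', one_smul,
    Matrix.mul_one] at h1
  rw [h1]
  simp only [Matrix.mul_assoc]

/-- Centralisers of roots. -/
theorem Lev.cent_root (hL : Lev τ M) {i : Fin (s + 1)} {N : TMat F m (s + 1)} (hN : IsRootU τ i N)
    {g : GL (Fin (s + 1) → Fin m) F} (hg : g ∈ M) (h : cj g N = N) :
    g ∈ Std F m (s + 1) ∧ ∃ (A : GL (Fin m) F) (B : GL (Fin s → Fin m) F),
      A ∈ UG τ (Fin m) ∧ B ∈ UG τ (Fin s → Fin m) ∧ B ∈ Std F m s ∧ g = slotGL i A * emb i B :=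
  hL.std_of_mul hN hg ((cj_eq_self_iff g N).1 h)

end CfsgLib.TensorWreathSU
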