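import Cfsg.Agent.Lib.TensorWreathSU.Base

/-!
Elements preserving the columns of an isotropic vector of one slot split along that slot, unless the group has a
root element twisted by a non-scalar coefficient.
-/

set_option autoImplicit false
set_option linter.unusedSectionVars false

namespace CfsgLib.TensorWreathSU

open Cfsg Cfsg.Geo CfsgLib.Aschbacher CfsgLib.AschbacherForm CfsgLib.TensorWreath CfsgLib.TensorWreathSL
open CfsgLib.TensorMax.Unitary (Conj hd hd_add_left hd_add_right hd_smul_left hd_smul_right hd_sub_left hd_sub_right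
  hd_zero_left hd_zero_right hd_neg_left hd_neg_right perp mem_perp)
open scoped Matrix MatrixGroups

variable {F : Type*} [Field F] [Fintype F] {m s : ℕ} [NeZero m] {τ : F ≃+* F}

/-- A scalar of norm other than one, or room for a totally isotropic plane. -/
def Big (τ : F ≃+* F) (m : ℕ) : Prop := (∃ l : F, l ≠ 0 ∧ l * τ l ≠ 1) ∨ 4 ≤ m

/-- Coefficients of twisted roots of one slot are scalar. -/
def NR (τ : F ≃+* F) (M : Subgroup (GL (Fin s → Fin m) F)) (i : Fin s) : Prop :=
  ∀ (v : Fin m → F) (k : F), v ≠ 0 → hd τ v v = 0 → k ≠ 0 → τ k = -k → ∀ C : TMat F m s, Cent i C →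
    InM M (1 + slot i (k • ov τ v v) * C) → ∃ c : F, C = c • 1

/-- A unitary group containing the special unitary group of one slot, without twisted roots there. -/
structure One (τ : F ≃+* F) (M : Subgroup (GL (Fin s → Fin m) F)) (i : Fin s) : Prop where
  conj : Conj τ
  ug : M ≤ UG τ (Fin s → Fin m)
  su : ∀ A : GL (Fin m) F, A ∈ UG τ (Fin m) → (A : Matrix (Fin m) (Fin m) F).det = 1 → slotGL i A ∈ M
  nr : NR τ M i

/-- A unitary group containing the special unitary group of every slot, without twisted roots. -/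
structure SUCtx (τ : F ≃+* F) (M : Subgroup (GL (Fin s → Fin m) F)) : Prop where
  conj : Conj τ
  ug : M ≤ UG τ (Fin s → Fin m)
  su : ∀ i (A : GL (Fin m) F), A ∈ UG τ (Fin m) → (A : Matrix (Fin m) (Fin m) F).det = 1 → slotGL i A ∈ M
  nr : ∀ i, NR τ M i

theorem SUCtx.one {M : Subgroup (GL (Fin s → Fin m) F)} (h : SUCtx τ M) (i : Fin s) : One τ M i :=
  ⟨h.conj, h.ug, h.su i, h.nr i⟩

theorem det_pair (hτ : Conj τ) {v d : Fin m → F} (hv : hd τ v v = 0) (hdv : hd τ d v = 0) (c : F) :
    (1 + (c • ov τ v v + ov τ d v - ov τ v d)).det = 1 := by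
  let U : Matrix (Fin m) (Fin 2) F := Matrix.of fun a j => ![v a, d a] j
  let W : Matrix (Fin 2) (Fin m) F := Matrix.of fun j b => ![c * τ (v b) - τ (d b), τ (v b)] j
  have e : c • ov τ v v + ov τ d v - ov τ v d = U * W := by
    ext a b
    simp only [U, W, Matrix.mul_apply, Fin.sum_univ_two, Matrix.of_apply, Matrix.cons_val_zero, Matrix.cons_val_one,
      ov, Matrix.sub_apply, Matrix.add_apply, Matrix.smul_apply, Matrix.vecMulVec_apply, Function.comp_apply,
      smul_eq_mul]
    ring
  rw [e, Matrix.det_one_add_mul_comm]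
  have h1 : ∀ x y : Fin m → F, ∑ a, τ (y a) * x a = hd τ x y := fun x y => by
    rw [TensorMax.Unitary.hd_apply]; exact Finset.sum_congr rfl fun _ _ => mul_comm _ _
  have h2 : ∀ x y z : Fin m → F, ∑ a, (c * τ (y a) - τ (z a)) * x a = c * hd τ x y - hd τ x z := fun x y z => by
    rw [← h1, ← h1, Finset.mul_sum, ← Finset.sum_sub_distrib]
    exact Finset.sum_congr rfl fun _ _ => by ring
  rw [Matrix.det_fin_two]
  simp only [Matrix.add_apply, Matrix.one_apply, Matrix.mul_apply, U, W, Matrix.of_apply, Matrix.cons_val_zero,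
    Matrix.cons_val_one, h1, h2, hv, hdv, hτ.hd_symm_zero hdv]
  simp

/-- Siegel transvections. -/
theorem exists_siegel (hτ : Conj τ) {v d : Fin m → F} (hv : hd τ v v = 0) (hdv : hd τ d v = 0) {c : F}
    (hc : c + τ c + hd τ d d = 0) :
    ∃ S ∈ UG τ (Fin m), (S : Matrix (Fin m) (Fin m) F).det = 1 ∧
      (S : Matrix (Fin m) (Fin m) F) = 1 + (c • ov τ v v + ov τ d v - ov τ v d) ∧
      ∀ z, (S : Matrix (Fin m) (Fin m) F) *ᵥ z = z + (c * hd τ z v - hd τ z d) • v + hd τ z v • d := by
  set N := c • ov τ v v + ov τ d v - ov τ v d with hN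
  have hdet := det_pair hτ hv hdv c
  have hvd : hd τ v d = 0 := hτ.hd_symm_zero hdv
  have hNv : ∀ z, (1 + N) *ᵥ z = z + (c * hd τ z v - hd τ z d) • v + hd τ z v • d := fun z => by
    rw [hN, Matrix.add_mulVec, Matrix.one_mulVec, Matrix.sub_mulVec, Matrix.add_mulVec, Matrix.smul_mulVec,
      ov_mulVec, ov_mulVec, ov_mulVec, smul_smul, sub_smul]
    abel
  refine ⟨Matrix.GeneralLinearGroup.mkOfDetNeZero (1 + N) (by rw [hdet]; exact one_ne_zero), ?_, hdet, rfl, hNv⟩
  have h1 : ad τ N = τ c • ov τ v v + ov τ v d - ov τ d v := by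
    rw [hN, ad_sub, ad_add, ad_smul, ad_ov hτ, ad_ov hτ, ad_ov hτ]
  have h2 : ad τ N * N = hd τ d d • ov τ v v := by
    rw [h1, hN]
    simp only [Matrix.sub_mul, Matrix.add_mul, Matrix.mul_sub, Matrix.mul_add, Matrix.smul_mul, Matrix.mul_smul,
      ov_mul, hv, hdv, hvd, zero_smul, smul_zero, add_zero, sub_zero, zero_add]
  rw [mem_UG]
  show ad τ (1 + N) * (1 + N) = 1
  rw [ad_add, ad_one, add_mul, one_mul, mul_add, mul_one, h2, h1, hN]
  calc (1 : Matrix (Fin m) (Fin m) F) + (c • ov τ v v + ov τ d v - ov τ v d) +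
        (τ c • ov τ v v + ov τ v d - ov τ d v + hd τ d d • ov τ v v) =
      1 + (c + τ c + hd τ d d) • ov τ v v := by rw [add_smul, add_smul]; abel
    _ = 1 := by rw [hc, zero_smul, add_zero]

theorem col_row_eq_slot (i : Fin (s + 1)) (v w : Fin m → F) (C : TMat F m s) :
    col i v * C * row τ i w = slot i (ov τ v w) * embM i C := by
  rw [slot_embM_comm, ← embM_mul_col, slot_ov, Matrix.mul_assoc]

theorem row_slot_col (i : Fin (s + 1)) (A : Matrix (Fin m) (Fin m) F) (y z : Fin m → F) :
    row τ i y * slot i A * col i z = hd τ (A *ᵥ z) y • (1 : TMat F m s) := by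
  rw [Matrix.mul_assoc, slot_mul_col, row_mul_col]

/-- A matrix supported on a single corner. -/
theorem corner (hτ : Conj τ) (i : Fin (s + 1)) {v v' : Fin m → F} (hv : hd τ v v = 0) (hvv' : hd τ v v' = 1)
    {X : TMat F m (s + 1)} (h : ∀ y z : Fin m → F, hd τ y v = 0 ∨ hd τ z v = 0 → row τ i y * X * col i z = 0) :
    X = col i v * (row τ i v' * X * col i v') * row τ i v := by
  refine ext_row_col (τ := τ) i fun y z => ?_
  set D := row τ i v' * X * col i v'
  have hy : hd τ (y - hd τ y v • v') v = 0 := by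
    rw [hd_sub_left, hd_smul_left, hd_one hτ hvv', mul_one, sub_self]
  have hz : hd τ (z - hd τ z v • v') v = 0 := by
    rw [hd_sub_left, hd_smul_left, hd_one hτ hvv', mul_one, sub_self]
  have e1 : row τ i y * X * col i z = row τ i (hd τ y v • v') * X * col i (hd τ z v • v') := by
    have a1 : row τ i y * X * col i z = row τ i (hd τ y v • v') * X * col i z := by
      conv_lhs => rw [← sub_add_cancel y (hd τ y v • v'), row_add, Matrix.add_mul, Matrix.add_mul,
        h _ z (Or.inl hy), zero_add]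
    have a2 : col i z = col i (z - hd τ z v • v') + col i (hd τ z v • v') := by
      rw [← col_add, sub_add_cancel]
    rw [a1, a2, Matrix.mul_add, h _ _ (Or.inr hz), zero_add]
  have e2 : row τ i y * (col i v * D * row τ i v) * col i z = hd τ v y • hd τ z v • D := by
    rw [show row τ i y * (col i v * D * row τ i v) * col i z = row τ i y * col i v * D * (row τ i v * col i z) by
      simp only [Matrix.mul_assoc], row_mul_col, row_mul_col, Matrix.smul_mul, Matrix.one_mul, Matrix.mul_smul,
      Matrix.mul_one, smul_comm]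
  rw [e1, e2, row_smul, col_smul, Matrix.smul_mul, Matrix.smul_mul, Matrix.mul_smul, hτ.hd_conj]

section one

variable {M : Subgroup (GL (Fin (s + 1) → Fin m) F)} {i : Fin (s + 1)}

theorem One.rad (hM : One τ M i) {v : Fin m → F} (hv0 : v ≠ 0) (hv : hd τ v v = 0) {C : TMat F m s}
    (h : InM M (1 + col i v * C * row τ i v)) : ∃ c : F, C = c • 1 := by
  obtain ⟨k, hk0, hk⟩ := hM.conj.exists_skew
  obtain ⟨c, hc⟩ := hM.nr v k hv0 hv hk0 hk (embM i (k⁻¹ • C)) ((cent_iff i _).2 ⟨_, rfl⟩) (by
    rwa [map_smul, slot_smul, Matrix.smul_mul, Matrix.mul_smul, smul_smul, mul_inv_cancel₀ hk0, one_smul,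
      ← col_row_eq_slot])
  refine ⟨k * c, ?_⟩
  have h1 : k⁻¹ • C = c • 1 := embM_injective i (by rw [hc, map_smul, map_one])
  rw [← smul_smul, ← h1, smul_inv_smul₀ hk0]

theorem One.conjBy (hM : One τ M i) {A : GL (Fin m) F} {B : GL (Fin s → Fin m) F} (hA : A ∈ UG τ (Fin m))
    (hB : B ∈ UG τ (Fin s → Fin m)) : One τ (M.comap (MulAut.conj (slotGL i A * emb i B)).toMonoidHom) i := by
  set T := slotGL i A * emb i B with hT
  have hTU : T ∈ UG τ (Fin (s + 1) → Fin m) := mul_mem (slotGL_UG hA) (emb_UG hB)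
  refine ⟨hM.conj, fun x hx => ?_, fun S hS hS1 => ?_, fun v k hv0 hv hk0 hk C hC h => ?_⟩
  · have h1 := mul_mem (mul_mem (inv_mem hTU) (hM.ug hx)) hTU
    rwa [show (MulAut.conj T).toMonoidHom x = T * x * T⁻¹ from rfl,
      show T⁻¹ * (T * x * T⁻¹) * T = x by group] at h1
  · show T * slotGL i S * T⁻¹ ∈ M
    rw [show T * slotGL i S * T⁻¹ = slotGL i (A * S * A⁻¹) by
      rw [hT, mul_inv_rev, map_mul, map_mul, map_inv, mul_assoc (slotGL i A), ← slotGL_emb_comm i S]
      group]
    refine hM.su _ (mul_mem (mul_mem hA hS) (inv_mem hA)) ?_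
    rw [Units.val_mul, Units.val_mul, Matrix.det_mul, Matrix.det_mul, hS1, mul_one, ← Matrix.det_mul,
      Units.mul_inv, Matrix.det_one]
  · obtain ⟨g, hg, hgv⟩ := h
    obtain ⟨C', rfl⟩ := (cent_iff i C).1 hC
    have e : cj T (slot i (k • ov τ v v) * embM i C') =
        slot i (k • ov τ ((A : Matrix (Fin m) (Fin m) F) *ᵥ v) ((A : Matrix (Fin m) (Fin m) F) *ᵥ v)) *
          embM i (cj B C') := by
      have e1 : cj T (slot i (k • ov τ v v)) =
          slot i (k • ov τ ((A : Matrix (Fin m) (Fin m) F) *ᵥ v) ((A : Matrix (Fin m) (Fin m) F) *ᵥ v)) := by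
        rw [hT, slot_emb_conj, map_smul, ov, cj_vmv]
        congr 2
        rw [← ad_of_mem hA]
        congr 1
        funext b
        simp [Matrix.vecMul, Matrix.mulVec, dotProduct, ad_apply, map_sum, mul_comm]
      have e2 : cj T (embM i C') = embM i (cj B C') := by
        rw [hT, ← cj_cj, show cj (emb i B) (embM i C') = embM i (cj B C') by
          rw [cj_apply, cj_apply, emb_val, ← map_inv, emb_val, ← map_mul, ← map_mul]]
        exact (cj_eq_self_iff _ _).2 (slot_embM_comm i _ _)
      rw [map_mul, e1, e2]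
    have hm : InM M (1 + slot i (k • ov τ ((A : Matrix (Fin m) (Fin m) F) *ᵥ v) ((A : Matrix (Fin m) (Fin m) F) *ᵥ v)) *
        embM i (cj B C')) := by
      refine ⟨(MulAut.conj T).toMonoidHom g, hg, ?_⟩
      show (T * g * T⁻¹).1 = _
      rw [← cj_val, hgv, map_add, map_one, e]
    obtain ⟨c, hc⟩ := hM.nr _ k (fun e => hv0 (Matrix.mulVec_injective_of_isUnit A.isUnit
      (e.trans (Matrix.mulVec_zero _).symm))) (by rw [hd_unitary hM.conj hA, hv]) hk0 hk _
      ((cent_iff i _).2 ⟨_, rfl⟩) hm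
    refine ⟨c, ?_⟩
    have h1 : cj B C' = c • 1 := embM_injective i (by rw [hc, map_smul, map_one])
    rw [← map_one (cj B), ← map_smul] at h1
    rw [(cj B).injective h1, map_smul, map_one]

/-- The coefficient of a pair of roots is scalar. -/
theorem One.scalar_of_pair (hM : One τ M i) (hm : 3 ≤ m) (hbig : Big τ m) {v : Fin m → F} (hv0 : v ≠ 0)
    (hv : hd τ v v = 0) {C : TMat F m s}
    (h : ∀ A : GL (Fin m) F, A ∈ UG τ (Fin m) → (A : Matrix (Fin m) (Fin m) F).det = 1 →
      hd τ ((A : Matrix (Fin m) (Fin m) F) *ᵥ v) v = 0 →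
      InM M (1 + (col i v * C * row τ i v - col i ((A : Matrix (Fin m) (Fin m) F) *ᵥ v) * C *
        row τ i ((A : Matrix (Fin m) (Fin m) F) *ᵥ v)))) : ∃ c : F, C = c • 1 := by
  have hτ := hM.conj
  have hw : ∀ w, w ≠ 0 → hd τ w w = 0 → hd τ w v = 0 →
      InM M (1 + (col i v * C * row τ i v - col i w * C * row τ i w)) := fun w hw0 hww hwv => by
    obtain ⟨A, hA, hA1, e⟩ := exists_slot_move hτ hm hv0 hw0 hv hww
    have := h A hA hA1 (by rw [e]; exact hwv)
    rwa [e] at this
  by_cases hl : ∃ l : F, l ≠ 0 ∧ l * τ l ≠ 1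
  · obtain ⟨l, hl0, hl1⟩ := hl
    have h1 := hw (l • v) (smul_ne_zero hl0 hv0) (by rw [hd_smul_left, hd_smul_right, hv, mul_zero, mul_zero])
      (by rw [hd_smul_left, hv, mul_zero])
    rw [row_smul, col_smul, Matrix.smul_mul, Matrix.smul_mul, Matrix.mul_smul, smul_smul] at h1
    obtain ⟨c, hc⟩ := hM.rad hv0 hv (C := (1 - l * τ l) • C) (by
      rwa [Matrix.mul_smul, Matrix.smul_mul, sub_smul, one_smul])
    exact ⟨(1 - l * τ l)⁻¹ * c, by rw [← smul_smul, ← hc, inv_smul_smul₀ (sub_ne_zero.2 (Ne.symm hl1))]⟩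
  have hm4 : 4 ≤ m := hbig.resolve_left hl
  push Not at hl
  have h2 : (2 : F) = 0 := by
    by_contra h2
    have h := hl 2 h2
    rw [map_ofNat] at h
    have h3 : (3 : F) = 0 := by linear_combination h
    obtain ⟨κ₀, hκ0, hκ⟩ := hτ.exists_skew
    have h' := hl (1 + κ₀) (fun e => by
      have e2 := congrArg τ e
      rw [map_add, map_one, hκ, map_zero] at e2
      exact h2 (by linear_combination e + e2))
    rw [map_add, map_one, hκ] at h'
    exact hκ0 (mul_self_eq_zero.1 (by linear_combination -h'))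
  obtain ⟨μ, hμ0, hμ⟩ := exists_nonfixed hτ
  have hsum : μ + τ μ = 1 := by
    have ht : μ + τ μ ≠ 0 := fun e => hμ (by linear_combination e - μ * h2)
    have h' := hl _ ht
    rw [map_add, hτ.invol, add_comm (τ μ)] at h'
    rcases mul_self_eq_one_iff.1 h' with e | e
    · exact e
    · linear_combination e - h2
  obtain ⟨W, hW0, hli, hts⟩ := hτ.exists_ts hv0 hv 1 (by simp; omega)
  set r := W 1
  have hrv : ∀ a b : F, hd τ r r = 0 ∧ hd τ r v = 0 ∧ hd τ v r = 0 ∧ (a • r + b • v = 0 → a = 0) := fun a b =>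
    ⟨hts 1 1, hW0 ▸ hts 1 0, hW0 ▸ hts 0 1, fun e => by
      have := Fintype.linearIndependent_iff.1 hli ![b, a] (by rw [Fin.sum_univ_two, hW0]; simpa [add_comm] using e) 1
      simpa using this⟩
  obtain ⟨hrr, hrv1, hvr, -⟩ := hrv 0 0
  have key : ∀ ω : F, InM M (1 + (col i v * C * row τ i v - col i (r + ω • v) * C * row τ i (r + ω • v))) :=
    fun ω => hw _ (fun e => one_ne_zero ((hrv 1 ω).2.2.2 (by rwa [one_smul])))
      (by simp only [hd_add_left, hd_add_right, hd_smul_left, hd_smul_right, hrr, hrv1, hvr, hv]; ring)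
      (by rw [hd_add_left, hd_smul_left, hrv1, hv, mul_zero, add_zero])
  have z1 : row τ i v * col i v = 0 := by rw [row_mul_col, hv, zero_smul]
  have z2 : row τ i v * col i r = 0 := by rw [row_mul_col, hrv1, zero_smul]
  have z3 : row τ i r * col i v = 0 := by rw [row_mul_col, hvr, zero_smul]
  have z4 : row τ i r * col i r = 0 := by rw [row_mul_col, hrr, zero_smul]
  set T : F → TMat F m (s + 1) := fun ω => col i v * C * row τ i v - col i (r + ω • v) * C * row τ i (r + ω • v)
  have hexp : ∀ ω, T ω = (1 - ω * τ ω) • (col i v * C * row τ i v) - col i r * C * row τ i r -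
      ω • (col i v * C * row τ i r) - τ ω • (col i r * C * row τ i v) := fun ω => by
    simp only [T, col_add, col_smul, row_add, row_smul, Matrix.add_mul, Matrix.mul_add, Matrix.smul_mul,
      Matrix.mul_smul, sub_smul, one_smul, smul_add, smul_smul, mul_comm (τ ω)]
    abel
  have hTT : ∀ a b, T a * T b = 0 := fun a b => by
    have z : ∀ (x y x' y' : Fin m → F), row τ i y * col i x' = 0 →
        col i x * C * row τ i y * (col i x' * C * row τ i y') = 0 := fun x y x' y' hz => by
      rw [show col i x * C * row τ i y * (col i x' * C * row τ i y') =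
        col i x * C * (row τ i y * col i x') * C * row τ i y' by simp only [Matrix.mul_assoc], hz, Matrix.mul_zero,
        Matrix.zero_mul, Matrix.zero_mul]
    simp only [hexp, Matrix.sub_mul, Matrix.mul_sub, Matrix.smul_mul, Matrix.mul_smul, z _ _ _ _ z1, z _ _ _ _ z2,
      z _ _ _ _ z3, z _ _ _ _ z4, smul_zero, sub_zero]
  have hp := ((key 1).mul (key μ)).mul (key (τ μ))
  have e : (1 + T 1) * (1 + T μ) * (1 + T (τ μ)) = 1 + -(col i r * C * row τ i r) := by
    have e1 : (1 + T 1) * (1 + T μ) * (1 + T (τ μ)) = 1 + (T 1 + T μ + T (τ μ)) := by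
      simp only [add_mul, mul_add, one_mul, mul_one, hTT, add_zero]
      abel
    rw [e1, hexp, hexp, hexp, hl μ hμ0, hl _ ((map_ne_zero τ).2 hμ0), map_one, mul_one, sub_self, zero_smul,
      hτ.invol]
    congr 1
    have q1 : (1 : F) + μ + τ μ = 0 := by linear_combination hsum + h2
    have q3 : (3 : F) = 1 := by linear_combination h2
    calc _ = -((3 : F) • (col i r * C * row τ i r)) - ((1 : F) + μ + τ μ) • (col i v * C * row τ i r) -
          ((1 : F) + μ + τ μ) • (col i r * C * row τ i v) := by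
            rw [add_smul, add_smul, add_smul, add_smul, show (3 : F) = 1 + 1 + 1 by norm_num, add_smul, add_smul]
            simp only [one_smul]
            abel
      _ = _ := by rw [q1, q3, one_smul, zero_smul, zero_smul, sub_zero, sub_zero]
  rw [show (1 + (col i v * C * row τ i v - col i (r + (1 : F) • v) * C * row τ i (r + (1 : F) • v))) *
      (1 + (col i v * C * row τ i v - col i (r + μ • v) * C * row τ i (r + μ • v))) *
      (1 + (col i v * C * row τ i v - col i (r + τ μ • v) * C * row τ i (r + τ μ • v))) =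
      (1 + T 1) * (1 + T μ) * (1 + T (τ μ)) from rfl, e,
    ← Matrix.neg_mul, ← Matrix.mul_neg] at hp
  obtain ⟨c, hc⟩ := hM.rad (fun e => one_ne_zero ((hrv 1 0).2.2.2 (by rw [one_smul, zero_smul, add_zero]; exact e))) hrr hp
  exact ⟨-c, by rw [neg_smul, ← hc, neg_neg]⟩

/-- Unitary elements fixing a column and the blocks orthogonal to it are elements of the slot. -/
theorem One.fix_one (hM : One τ M i) {v v' : Fin m → F} (hv0 : v ≠ 0) (hv : hd τ v v = 0) (hvv' : hd τ v v' = 1)
    {x : GL (Fin (s + 1) → Fin m) F} (hx : x ∈ M) (hxv : x.1 * col i v = col i v)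
    (hmid : ∀ y z : Fin m → F, hd τ y v = 0 → hd τ z v = 0 →
      row τ i y * x.1 * col i z = hd τ z y • (1 : TMat F m s)) :
    ∃ A : Matrix (Fin m) (Fin m) F, x.1 = slot i A := by
  have hτ := hM.conj
  have hrowx : row τ i v * x.1 = row τ i v := by
    have h := congrArg (fun W => x⁻¹.1 * W) hxv
    simp only [← Matrix.mul_assoc, Units.inv_mul, Matrix.one_mul] at h
    conv_rhs => rw [← ad_col, h, ad_mul, ad_inv_of_mem (hM.ug hx), ad_col]
  set D : (Fin m → F) → TMat F m s := fun d => row τ i v' * x.1 * col i d - hd τ d v' • 1 with hD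
  have hcol : ∀ d, hd τ d v = 0 → x.1 * col i d = col i d + col i v * D d := by
    intro d hdv
    -- compare all rows
    have h : ∀ y : Fin m → F, row τ i y * (x.1 * col i d) = row τ i y * (col i d + col i v * D d) := by
      intro y
      have hy : hd τ (y - hd τ y v • v') v = 0 := by
        rw [hd_sub_left, hd_smul_left, hd_one hτ hvv', mul_one, sub_self]
      conv_lhs => rw [← sub_add_cancel y (hd τ y v • v'), row_add, Matrix.add_mul, row_smul, Matrix.smul_mul,
        ← Matrix.mul_assoc, hmid _ _ hy hdv, ← Matrix.mul_assoc]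
      rw [Matrix.mul_add, ← Matrix.mul_assoc, row_mul_col, row_mul_col, Matrix.smul_mul, Matrix.one_mul, hD, smul_sub,
        hd_sub_right, hd_smul_right, hτ.hd_conj y v, sub_smul, smul_smul]
      abel
    have h1 := sum_slot_single (F := F) (τ := τ) (m := m) i
    have e : ∀ W : Matrix (Fin (s + 1) → Fin m) (Fin s → Fin m) F, W =
        ∑ k : Fin m, col i (Pi.single k (1 : F)) * (row τ i (Pi.single k (1 : F)) * W) := fun W => by
      conv_lhs => rw [← Matrix.one_mul W, ← h1, Matrix.sum_mul]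
      exact Finset.sum_congr rfl fun k _ => Matrix.mul_assoc _ _ _
    rw [e (x.1 * col i d), e (col i d + col i v * D d)]
    exact Finset.sum_congr rfl fun k _ => by rw [h]
  -- Siegel elements
  have hsc : ∀ d, hd τ d v = 0 → ∃ c : F, D d - ad τ (D d) = c • 1 := by
    intro d hdv
    obtain ⟨c, hc⟩ := hτ.exists_trace (c := -hd τ d d) (by rw [map_neg, hτ.self_fixed])
    obtain ⟨S, hS, hS1, hSe, hSv⟩ := exists_siegel hτ hv hdv (c := c) (by linear_combination hc)
    have hSM := hM.su S hS hS1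
    have hvS : row τ i v * (slotGL i S⁻¹ : GL (Fin (s + 1) → Fin m) F).1 = row τ i v := by
      rw [slotGL_val, row_mul_slot hτ, ad_inv_of_mem hS, hSv, hv, hτ.hd_symm_zero hdv]
      simp
    refine hM.rad hv0 hv ?_
    refine ⟨x * slotGL i S * x⁻¹ * slotGL i S⁻¹,
      mul_mem (mul_mem (mul_mem hx hSM) (inv_mem hx)) (by rw [map_inv]; exact inv_mem hSM), ?_⟩
    have hrowd : row τ i d * x⁻¹.1 = row τ i d + ad τ (D d) * row τ i v := by
      have h := congrArg (ad τ) (hcol d hdv)
      rwa [ad_add, ad_mul, ad_mul, ad_col, ad_col, ad_of_mem (hM.ug hx)] at h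
    have hrv : row τ i v * x⁻¹.1 = row τ i v := by
      conv_lhs => rw [← hrowx, Matrix.mul_assoc, Units.mul_inv, Matrix.mul_one]
    have e : (x * slotGL i S * x⁻¹).1 = (slotGL i S).1 + col i v * (D d - ad τ (D d)) * row τ i v := by
      rw [← cj_val, slotGL_val, hSe, slot_add, slot_one, map_add, map_one, slot_minus, slot_add, slot_smul, slot_ov,
        slot_ov, slot_ov, map_sub, map_add, map_smul, cj_apply, cj_apply, cj_apply]
      simp only [← Matrix.mul_assoc, hxv, hcol d hdv]
      simp only [Matrix.mul_assoc, hrv, hrowd, Matrix.add_mul, Matrix.mul_add, Matrix.mul_sub, Matrix.sub_mul]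
      abel
    rw [Units.val_mul, e, Matrix.add_mul, ← Units.val_mul, map_inv, mul_inv_cancel, Units.val_one,
      Matrix.mul_assoc _ (row τ i v), ← map_inv, hvS]
  -- linearity
  have hDs : ∀ d, hd τ d v = 0 → ∃ c : F, D d = c • 1 := by
    intro d hdv
    obtain ⟨μ, hμ0, hμ⟩ := exists_nonfixed hτ
    obtain ⟨c, hc⟩ := hsc d hdv
    obtain ⟨c', hc'⟩ := hsc (μ • d) (by rw [hd_smul_left, hdv, mul_zero])
    have e : D (μ • d) = μ • D d := by
      simp only [hD, col_smul, Matrix.mul_smul, hd_smul_left, smul_sub, smul_smul]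
    rw [e, ad_smul] at hc'
    refine ⟨(μ - τ μ)⁻¹ * (c' - τ μ * c), ?_⟩
    have h2 : (μ - τ μ) • D d = (c' - τ μ * c) • 1 := by
      rw [sub_smul, sub_smul, ← hc', ← smul_smul (τ μ) c, ← hc, smul_sub (τ μ) (D d) (ad τ (D d))]
      abel
    rw [← smul_smul, ← h2, inv_smul_smul₀ (sub_ne_zero.2 (Ne.symm hμ))]
  let φ : (Fin m → F) → F := fun z => D (z - hd τ z v • v') (fun _ => 0) (fun _ => 0)
  set w : Fin m → F := fun b => τ (φ (Pi.single b 1))
  have hφ : ∀ z, hd τ z w = φ z := by
    let L : (Fin m → F) →ₗ[F] F :=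
      { toFun := φ
        map_add' := fun a b => by
          simp only [φ, hD, Matrix.sub_apply, Matrix.smul_apply, smul_eq_mul]
          rw [show a + b - hd τ (a + b) v • v' = (a - hd τ a v • v') + (b - hd τ b v • v') by
            rw [hd_add_left, add_smul]; abel, col_add, Matrix.mul_add, Matrix.add_apply, hd_add_left]
          ring
        map_smul' := fun r a => by
          simp only [φ, hD, Matrix.sub_apply, Matrix.smul_apply, smul_eq_mul, RingHom.id_apply]
          rw [show r • a - hd τ (r • a) v • v' = r • (a - hd τ a v • v') by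
            rw [hd_smul_left, smul_sub, smul_smul], col_smul, Matrix.mul_smul, Matrix.smul_apply, hd_smul_left,
            smul_eq_mul]
          ring }
    intro z
    show hd τ z w = L z
    conv_rhs => rw [← CfsgLib.TensorWreath.sum_single z, map_sum]
    rw [TensorMax.Unitary.hd_apply]
    exact Finset.sum_congr rfl fun b _ => by simp [w, hτ.invol, L]
  have hφd : ∀ d, hd τ d v = 0 → D d = φ d • 1 := fun d hdv => by
    obtain ⟨c, hc⟩ := hDs d hdv
    simp [φ, hdv, hc]
  have hD0 : D v = 0 := by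
    rw [hD]
    simp only [Matrix.mul_assoc, hxv, row_mul_col, sub_self]
  have hwv : hd τ w v = 0 := by
    refine hτ.hd_symm_zero ((hφ v).trans ?_)
    simp [φ, hv, hD0]
  have hwv' : hd τ v' w = 0 := by
    rw [hφ]
    simp only [φ, hd_one hτ hvv', one_smul, sub_self, hD, col_zero, Matrix.mul_zero, hd_zero_left, zero_smul,
      Matrix.zero_apply]
  obtain ⟨c₀, hc₀⟩ := hτ.exists_trace (c := -hd τ (-w) (-w)) (by rw [map_neg, hτ.self_fixed])
  obtain ⟨S₀, hS₀, hS₀1, -, hS₀v⟩ := exists_siegel hτ hv (d := -w) (by rw [hd_neg_left, hwv, neg_zero]) (c := c₀)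
    (by linear_combination hc₀)
  set y := (slotGL i S₀)⁻¹ * x with hy
  have hyM : y ∈ M := mul_mem (inv_mem (hM.su S₀ hS₀ hS₀1)) hx
  have hyd : ∀ d, hd τ d v = 0 → y.1 * col i d = col i d := fun d hdv => by
    have e : x.1 * col i d = (slotGL i S₀).1 * col i d := by
      rw [hcol d hdv, hφd d hdv, slotGL_val, slot_mul_col, hS₀v, hdv, mul_zero, zero_smul, add_zero, zero_sub,
        hd_neg_right, neg_neg, hφ, col_add, col_smul, Matrix.mul_smul, Matrix.mul_one]
    rw [hy, Units.val_mul, Matrix.mul_assoc, e, ← Matrix.mul_assoc, Units.inv_mul, Matrix.one_mul]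
  have hyr : ∀ d, hd τ d v = 0 → row τ i d * y.1 = row τ i d := fun d hdv => by
    have h := congrArg (fun W => y⁻¹.1 * W) (hyd d hdv)
    simp only [← Matrix.mul_assoc, Units.inv_mul, Matrix.one_mul] at h
    conv_rhs => rw [← ad_col, h, ad_mul, ad_inv_of_mem (hM.ug hyM), ad_col]
  have hcor := corner hτ i hv hvv' (X := y.1 - 1) (fun a b hab => by
    rcases hab with h | h
    · rw [Matrix.mul_sub, Matrix.mul_one, hyr a h, sub_self, Matrix.zero_mul]
    · rw [Matrix.mul_assoc, Matrix.sub_mul, Matrix.one_mul, hyd b h, sub_self, Matrix.mul_zero])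
  obtain ⟨c, hc⟩ := hM.rad hv0 hv (C := row τ i v' * (y.1 - 1) * col i v') ⟨y, hyM, by rw [← hcor, add_sub_cancel]⟩
  refine ⟨(S₀ : Matrix (Fin m) (Fin m) F) * (1 + c • ov τ v v), ?_⟩
  rw [slot_mul, slot_add, slot_one, slot_smul, slot_ov, ← slotGL_val,
    show col i v * row τ i v = col i v * (1 : TMat F m s) * row τ i v by rw [Matrix.mul_one],
    ← Matrix.smul_mul, ← Matrix.mul_smul, ← hc, ← hcor, add_sub_cancel, ← Units.val_mul, hy, mul_inv_cancel_left]

end one

end CfsgLib.TensorWreathSU
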