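import Cfsg.Agent.Lib.TensorWreathSU.Rest

/-!
One more slot for a twisted root element.
-/

set_option autoImplicit false
set_option linter.unusedSectionVars false

namespace CfsgLib.TensorWreathSU

open Cfsg Cfsg.Geo CfsgLib.Aschbacher CfsgLib.AschbacherForm CfsgLib.TensorWreath CfsgLib.TensorWreathSL
open CfsgLib.TensorMax.Unitary (Conj hd hd_add_left hd_add_right hd_smul_left hd_smul_right hd_sub_left hd_sub_right
  hd_zero_left hd_zero_right hd_neg_left hd_neg_right)
open scoped Matrix MatrixGroups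

variable {F : Type*} [Field F] [Fintype F] {m s : ℕ} [NeZero m] {τ : F ≃+* F}

/-- Conjugation of a sandwiched matrix by an element of its slot. -/
theorem cj_col_row (hτ : Conj τ) (i : Fin (s + 1)) {A : GL (Fin m) F} (hA : A ∈ UG τ (Fin m)) (p r : Fin m → F)
    (C : TMat F m s) :
    cj (slotGL i A) (col i p * C * row τ i r) =
      col i ((A : Matrix (Fin m) (Fin m) F) *ᵥ p) * C * row τ i ((A : Matrix (Fin m) (Fin m) F) *ᵥ r) := by
  rw [cj_apply, ← map_inv, slotGL_val, slotGL_val, ← Matrix.mul_assoc, ← Matrix.mul_assoc, slot_mul_col,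
    Matrix.mul_assoc, row_mul_slot hτ, ad_inv_of_mem hA]

/-- The scalars in the smallest field. -/
theorem small_field (hτ : Conj τ) (hl : ∀ l : F, l ≠ 0 → l * τ l = 1) :
    (2 : F) = 0 ∧ ∀ θ : F, θ + τ θ = 1 → τ θ = 1 + θ ∧ θ * θ = θ + 1 := by
  have h2 : (2 : F) = 0 := by
    by_contra h2
    have h := hl 2 h2
    rw [map_ofNat] at h
    obtain ⟨κ₀, hκ0, hκ⟩ := hτ.exists_skew
    have h' := hl (1 + κ₀) (fun e => by
      have e2 := congrArg τ e
      rw [map_add, map_one, hκ, map_zero] at e2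
      exact h2 (by linear_combination e + e2))
    rw [map_add, map_one, hκ] at h'
    exact hκ0 (mul_self_eq_zero.1 (by linear_combination -h'))
  refine ⟨h2, fun θ hθ => ?_⟩
  have hθ0 : θ ≠ 0 := fun e => by rw [e, map_zero, add_zero] at hθ; exact zero_ne_one hθ
  have h := hl θ hθ0
  have e : τ θ = 1 + θ := by linear_combination hθ - θ * h2
  rw [e] at h
  exact ⟨e, by linear_combination h - θ * h2⟩

variable {M : Subgroup (GL (Fin (s + 1) → Fin m) F)} {e f : Fin m → F}

/-- Twisted elements with factors on some slots. -/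
structure Tw (τ : F ≃+* F) (M : Subgroup (GL (Fin (s + 1) → Fin m) F)) (e f : Fin m → F) (T : Finset (Fin (s + 1)))
    (X : TMat F m (s + 1)) : Prop where
  mem : InM M (1 + X)
  fac : ∀ t ∈ T, Fac τ e f t X

theorem Tw.add {T : Finset (Fin (s + 1))} (hT : T.Nonempty) (he : hd τ e e = 0) {X Y : TMat F m (s + 1)}
    (hX : Tw τ M e f T X) (hY : Tw τ M e f T Y) : Tw τ M e f T (X + Y) := by
  obtain ⟨t, ht⟩ := hT
  refine ⟨?_, fun t ht => (hX.fac t ht).add (hY.fac t ht)⟩
  convert InM.mul hX.mem hY.mem using 1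
  rw [add_mul, one_mul, mul_add, mul_one, (hX.fac t ht).mul_eq_zero (hY.fac t ht) he, add_zero]
  abel

theorem Tw.neg {T : Finset (Fin (s + 1))} (hT : T.Nonempty) (he : hd τ e e = 0) {X : TMat F m (s + 1)}
    (hX : Tw τ M e f T X) : Tw τ M e f T (-X) := by
  obtain ⟨t, ht⟩ := hT
  refine ⟨?_, fun t ht => (hX.fac t ht).neg⟩
  rw [← sub_eq_add_neg]
  exact inM_sub hX.mem ((hX.fac t ht).mul_eq_zero (hX.fac t ht) he)

theorem Tw.conj {T : Finset (Fin (s + 1))} {X : TMat F m (s + 1)} (hX : Tw τ M e f T X) {j : Fin (s + 1)}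
    (hj : j ∉ T) {A : GL (Fin m) F} (hA : slotGL j A ∈ M) : Tw τ M e f T (cj (slotGL j A) X) :=
  ⟨InM.cj' hA hX.mem, fun t ht => (hX.fac t ht).conj (show t ≠ j from fun h => hj (h ▸ ht)) A⟩

/-- Coefficients may be multiplied by norms. -/
theorem Tw.norm_smul (hM : SUP τ M) (hm : 3 ≤ m) (he : hd τ e e = 0) (he0 : e ≠ 0)
    {T : Finset (Fin (s + 1))} (hT : T.Nonempty) {X : TMat F m (s + 1)} (hX : Tw τ M e f T X) {l : F} (hl : l ≠ 0) :
    Tw τ M e f T ((l * τ l) • X) := by
  obtain ⟨t, ht⟩ := hT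
  obtain ⟨A, hA, hA1, eA⟩ := exists_slot_move hM.conj hm he0 (smul_ne_zero hl he0) he
    (by rw [hd_smul_left, hd_smul_right, he, mul_zero, mul_zero])
  refine ⟨?_, fun t ht => (hX.fac t ht).smul _⟩
  convert InM.cj' (hM.su t A hA hA1) hX.mem using 2
  conv_rhs => rw [(hX.fac t ht).eq_col, cj_col_row hM.conj t hA, eA]
  conv_lhs => rw [(hX.fac t ht).eq_col]
  rw [col_smul, row_smul, Matrix.smul_mul, Matrix.smul_mul, Matrix.mul_smul, smul_smul]

set_option maxHeartbeats 3200000 in
/-- A twisted element gains a slot at which it is not constant. -/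
theorem Tw.step (hM : SUP τ M) (hm : 3 ≤ m) (hbig : Big τ m) (he : hd τ e e = 0) (hf : hd τ f f = 0)
    (hef : hd τ e f = 1) {T : Finset (Fin (s + 1))} (hT : T.Nonempty) {X : TMat F m (s + 1)} (hX : Tw τ M e f T X)
    {j : Fin (s + 1)} (hj : j ∉ T) (hcent : ¬ Cent j X) : ∃ X', X' ≠ 0 ∧ Tw τ M e f (insert j T) X' := by
  have hτ := hM.conj
  have hfe := hd_one hτ hef
  have he0 : e ≠ 0 := fun h => by rw [h, hd_zero_left] at hef; exact zero_ne_one hef
  -- a vector seen by the coefficient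
  obtain ⟨w, hw, hq⟩ : ∃ w : Fin m → F, hd τ w w = 0 ∧ row τ j w * X * col j w ≠ 0 := by
    by_contra hcon
    push Not at hcon
    have hΨ := sesq_eq hτ (fun y z => row τ j z * X * col j y) (fun x y z => by rw [col_add, Matrix.mul_add])
      (fun x y z => by rw [row_add, Matrix.add_mul, Matrix.add_mul]) (fun c x y => by rw [col_smul, Matrix.mul_smul])
      (fun c x y => by rw [row_smul, Matrix.smul_mul, Matrix.smul_mul]) hcon he hf hef
    refine hcent ((cent_iff j X).2 ⟨row τ j f * X * col j e, ext_row_col (τ := τ) j fun y z => ?_⟩)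
    rw [hΨ, row_mul_embM hτ, Matrix.mul_assoc _ (row τ j y), row_mul_col, Matrix.mul_smul, Matrix.mul_one]
  have hw0 : w ≠ 0 := fun h => hq (by rw [h, col_zero, Matrix.mul_zero])
  suffices h : ∃ c : F, c ≠ 0 ∧ Tw τ M e f T (c • (col j w * (row τ j w * X * col j w) * row τ j w)) by
    obtain ⟨c, hc, hY⟩ := h
    obtain ⟨B, hB, hB1, eB⟩ := exists_slot_move hτ hm hw0 he0 hw he
    have h2 := hY.conj hj (hM.su j B hB hB1)
    rw [map_smul, cj_col_row hτ j hB, eB] at h2
    refine ⟨_, ?_, h2.mem, fun t ht => ?_⟩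
    · intro h0
      have h1 := congrArg (fun Y => row τ j f * Y * col j f) ((smul_eq_zero.1 h0).resolve_left hc)
      simp only [Matrix.mul_zero, Matrix.zero_mul] at h1
      rw [show row τ j f * (col j e * (row τ j w * X * col j w) * row τ j e) * col j f =
          (row τ j f * col j e) * (row τ j w * X * col j w) * (row τ j e * col j f) by simp only [Matrix.mul_assoc],
        row_mul_col, row_mul_col, hef, hfe, one_smul, Matrix.one_mul, Matrix.mul_one] at h1
      exact hq h1
    · rcases Finset.mem_insert.1 ht with e1 | ht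
      · rw [e1, col_row_eq_slot]
        exact (fac_mk j ((cent_iff j _).2 ⟨_, rfl⟩) hef hfe).smul c
      · exact h2.fac t ht
  have hsand : ∀ v : Fin m → F, slot j (ov τ v v) * X * slot j (ov τ v v) =
      col j v * (row τ j v * X * col j v) * row τ j v := fun v => by
    rw [slot_ov]; simp only [Matrix.mul_assoc]
  have hE : ∀ (v : Fin m → F) (k : F), hd τ v v = 0 → τ k = -k →
      Tw τ M e f T (k • (slot j (ov τ v v) * X) - k • (X * slot j (ov τ v v)) -
        (k * k) • (col j v * (row τ j v * X * col j v) * row τ j v)) := fun v k hv hk => by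
    have h := (hX.conj hj (hM.su j _ (tu_mem hτ v hv hk) (tu_det v hv k))).add hT he (hX.neg hT he)
    convert h using 1
    rw [cj_apply, ← map_inv, slotGL_val, slotGL_val,
      show ((tu τ v hv k : GL (Fin m) F) : Matrix (Fin m) (Fin m) F) = 1 + k • ov τ v v from rfl,
      show (((tu τ v hv k)⁻¹ : GL (Fin m) F) : Matrix (Fin m) (Fin m) F) = 1 - k • ov τ v v from rfl,
      slot_minus, slot_add, slot_one, slot_smul, ← hsand]
    simp only [add_mul, mul_sub, one_mul, mul_one, Matrix.smul_mul, Matrix.mul_smul, smul_smul]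
    abel
  by_cases hq2 : ∃ l : F, l ≠ 0 ∧ l * τ l ≠ 1
  · obtain ⟨l, hl0, hl1⟩ := hq2
    obtain ⟨κ, hκ0, hκ⟩ := hτ.exists_skew
    set σ := l * τ l with hσ
    have hσs : τ σ = σ := by rw [hσ, map_mul, hτ.invol, mul_comm]
    refine ⟨-((σ * σ - σ) * (κ * κ)), neg_ne_zero.2 (mul_ne_zero ?_ (mul_ne_zero hκ0 hκ0)), ?_⟩
    · rw [show σ * σ - σ = σ * (σ - 1) by ring]
      exact mul_ne_zero (mul_ne_zero hl0 ((map_ne_zero τ).2 hl0)) (sub_ne_zero.2 hl1)
    · convert (hE w (σ * κ) hw (skew_smul hτ hκ hσs)).add hT he (((hE w κ hw hκ).norm_smul hM hm he he0 hT hl0).neg hT he)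
        using 1
      rw [smul_sub, smul_sub, smul_smul, smul_smul, smul_smul, neg_smul]
      module
  have hm4 : 4 ≤ m := hbig.resolve_left hq2
  push Not at hq2
  obtain ⟨h2, hθ'⟩ := small_field hτ hq2
  obtain ⟨θ, hθt⟩ := hτ.exists_trace (c := (1 : F)) (map_one τ)
  obtain ⟨hτθ, hθθ⟩ := hθ' θ hθt
  obtain ⟨W, hW0, hli, hts⟩ := hτ.exists_ts hw0 hw 1 (by simp; omega)
  set u := W 1
  have huu : hd τ u u = 0 := hts 1 1
  have huw : hd τ u w = 0 := hW0 ▸ hts 1 0
  have hwu : hd τ w u = 0 := hτ.hd_symm_zero huw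
  have hone : τ (1 : F) = -1 := by rw [map_one]; linear_combination h2
  set Xw := row τ j w * X * col j w
  set Xu := row τ j u * X * col j u
  set K1 := row τ j w * X * col j u
  set K2 := row τ j u * X * col j w
  set A := col j w * Xu * row τ j w + col j u * Xw * row τ j u + col j w * K1 * row τ j u + col j u * K2 * row τ j w
  have hA : Tw τ M e f T A := by
    have hv : ∀ a : F, hd τ (w + a • u) (w + a • u) = 0 := fun a => by
      simp only [hd_add_left, hd_add_right, hd_smul_left, hd_smul_right, hw, huu, huw, hwu]; ring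
    convert ((((hE (w + (0 : F) • u) 1 (hv 0) hone).add hT he (hE (w + (1 : F) • u) 1 (hv 1) hone)).add hT he
      (hE (w + θ • u) 1 (hv θ) hone)).add hT he (hE (w + (1 + θ) • u) 1 (hv _) hone)).add hT he (hE u 1 huu hone)
      using 1
    simp only [A, Xw, Xu, K1, K2, slot_ov, col_add, col_smul, row_add, row_smul, Matrix.add_mul, Matrix.mul_add,
      Matrix.smul_mul, Matrix.mul_smul, smul_smul, smul_add, map_add, map_one, map_zero, hτθ, Matrix.mul_assoc,
      one_smul, mul_one]
    match_scalars <;> grind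
  have hconjA : ∀ c : F, Tw τ M e f T (col j w * Xu * row τ j w +
      col j (u + c • w) * Xw * row τ j (u + c • w) + col j w * K1 * row τ j (u + c • w) +
      col j (u + c • w) * K2 * row τ j w) := by
    intro c
    obtain ⟨d, hd', hdd⟩ := hτ.exists_prescribed (v := ![w, u]) (by
      convert hli using 1
      funext a
      fin_cases a <;> simp [hW0, u]) (by simp; omega) ![0, τ (-c)] (map_zero τ)
    have hdw : hd τ d w = 0 := hd' 0
    have hdu : hd τ d u = τ (-c) := hd' 1
    obtain ⟨S, hS, hS1, -, hSv⟩ := exists_siegel hτ hw hdw (c := 0) (by rw [map_zero, hdd]; ring)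
    have eu : (S : Matrix (Fin m) (Fin m) F) *ᵥ u = u + c • w := by
      rw [hSv, huw, ← hτ.hd_conj d u, hdu, hτ.invol]; simp
    have ew : (S : Matrix (Fin m) (Fin m) F) *ᵥ w = w := by
      rw [hSv, hw, hτ.hd_symm_zero hdw]; simp
    have h := hA.conj hj (hM.su j S hS hS1)
    simp only [A, map_add, cj_col_row hτ j hS, eu, ew] at h
    exact h
  refine ⟨1, one_ne_zero, ?_⟩
  convert (((hconjA 0).add hT he (hconjA 1)).add hT he (hconjA θ)).add hT he (hconjA (1 + θ)) using 1
  simp only [Xw, Xu, K1, K2, col_add, col_smul, row_add, row_smul, Matrix.add_mul, Matrix.mul_add,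
    Matrix.smul_mul, Matrix.mul_smul, smul_smul, smul_add, map_add, map_one, map_zero, hτθ, Matrix.mul_assoc,
    one_smul, mul_one]
  match_scalars <;> grind

end CfsgLib.TensorWreathSU
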